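import Mathlib

/-!
The order formula for an elementary group of order nine acting on a two-group, and fixed points of an
automorphism of order eleven.
-/

set_option autoImplicit false
set_option linter.style.haveILetI false

namespace Cfsg.Agent.Spor.JFourConv

universe u

variable {E : Type u} [Group E]

/-- The fixed subgroup. -/
def fixS (f : MulAut E) : Subgroup E := f.toMonoidHom.eqLocus (MonoidHom.id E)

theorem mem_fixS {f : MulAut E} {v : E} : v ∈ fixS f ↔ f v = v := Iff.rfl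

/-- The averaging map. -/
def avg (f : MulAut E) (v : E) : E := v * f v * f (f v)

theorem cube_apply {f : MulAut E} (hf : f ^ 3 = 1) (v : E) : f (f (f v)) = v := by
  have := congrArg (fun g : MulAut E => g v) hf
  simpa [pow_three', MulAut.mul_apply] using this

section Abelian

variable {a b : MulAut E} (ha : a ^ 3 = 1) (hb : b ^ 3 = 1) (hab : a * b = b * a) {V : Subgroup E}
  (hc : ∀ u ∈ V, ∀ v ∈ V, u * v = v * u) (hs : ∀ v ∈ V, v * v = 1) (hVa : ∀ v ∈ V, a v ∈ V)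
  (hVb : ∀ v ∈ V, b v ∈ V)
include ha hb hab hc hs hVa hVb

theorem card_abelian [Finite E] :
    Nat.card V * Nat.card ↥(V ⊓ fixS a ⊓ fixS b) ^ 3 = Nat.card ↥(V ⊓ fixS a) * Nat.card ↥(V ⊓ fixS b) *
      Nat.card ↥(V ⊓ fixS (a * b)) * Nat.card ↥(V ⊓ fixS (a * a * b)) := by
  letI : CommGroup ↥V :=
    { (inferInstance : Group ↥V) with mul_comm := fun u v => Subtype.ext (hc u u.2 v v.2) }
  let A : ↥V →* ↥V := MonoidHom.mk' (fun v => ⟨a v, hVa v v.2⟩) fun u v => Subtype.ext (map_mul a _ _)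
  let B : ↥V →* ↥V := MonoidHom.mk' (fun v => ⟨b v, hVb v v.2⟩) fun u v => Subtype.ext (map_mul b _ _)
  have hA : ∀ v : V, A (A (A v)) = v := fun v => Subtype.ext (cube_apply ha v)
  have hB : ∀ v : V, B (B (B v)) = v := fun v => Subtype.ext (cube_apply hb v)
  have hAB : ∀ v : V, B (A v) = A (B v) := fun v =>
    Subtype.ext (congrArg (fun g : MulAut E => g (v : E)) hab).symm
  have h2 : ∀ v : V, v * v = 1 := fun v => Subtype.ext (hs v v.2)
  let e0 : ↥V → ↥V := fun v => v * A v * A (A v)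
  let e1 : ↥V → ↥V := fun v => v * B v * B (B v)
  let e2 : ↥V → ↥V := fun v => v * A (B v) * A (B (A (B v)))
  let e3 : ↥V → ↥V := fun v => v * A (A (B v)) * A (A (B (A (A (B v)))))
  let w : ↥V → ↥V := fun v => e0 (e1 v)
  have hsum : ∀ v, e0 v * e1 v * e2 v * e3 v = v * w v := fun v => by
    have h3 : e0 v * e1 v * e2 v * e3 v = (v * v) * (v * w v) := by
      simp only [e0, e1, e2, e3, w, map_mul, hA, hB, hAB]
      ac_rfl
    rw [h3, h2, one_mul]
  have hm : ∀ u v, e0 (u * v) = e0 u * e0 v ∧ e1 (u * v) = e1 u * e1 v ∧ e2 (u * v) = e2 u * e2 v ∧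
      e3 (u * v) = e3 u * e3 v ∧ w (u * v) = w u * w v := fun u v => by
    refine ⟨?_, ?_, ?_, ?_, ?_⟩ <;> simp only [e0, e1, e2, e3, w, map_mul] <;> ac_rfl
  have hprod : ∀ v, e0 (e1 v) = w v ∧ e0 (e2 v) = w v ∧ e0 (e3 v) = w v ∧ e1 (e0 v) = w v ∧ e1 (e2 v) = w v ∧
      e1 (e3 v) = w v ∧ e2 (e0 v) = w v ∧ e2 (e1 v) = w v ∧ e2 (e3 v) = w v ∧ e3 (e0 v) = w v ∧ e3 (e1 v) = w v ∧
      e3 (e2 v) = w v := fun v => by
    refine ⟨rfl, ?_, ?_, ?_, ?_, ?_, ?_, ?_, ?_, ?_, ?_, ?_⟩ <;>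
      (simp only [e0, e1, e2, e3, w, map_mul, hA, hB, hAB]; ac_rfl)
  have hfix : ∀ v, A (e0 v) = e0 v ∧ B (e1 v) = e1 v ∧ A (B (e2 v)) = e2 v ∧ A (A (B (e3 v))) = e3 v := fun v => by
    refine ⟨?_, ?_, ?_, ?_⟩ <;> (simp only [e0, e1, e2, e3, map_mul, hA, hB, hAB]; ac_rfl)
  have hid : ∀ (f : ↥V → ↥V) (v : ↥V), f v = v → v * f v * f (f v) = v := fun f v e => by
    rw [e, e, h2, one_mul]
  have h0 : ∀ v, A v = v → e0 v = v := fun v e => hid A v e
  have h1 : ∀ v, B v = v → e1 v = v := fun v e => hid B v e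
  have h2' : ∀ v, A (B v) = v → e2 v = v := fun v e => hid (fun t => A (B t)) v e
  have h3 : ∀ v, A (A (B v)) = v → e3 v = v := fun v e => hid (fun t => A (A (B t))) v e
  have hw : ∀ v, A (w v) = w v ∧ B (w v) = w v := fun v =>
    ⟨(hfix _).1, by simp only [w, e0, e1, map_mul, hA, hB, hAB]; ac_rfl⟩
  -- the counting map
  have hmem0 : ∀ v : V, A v = v → (v : E) ∈ V ⊓ fixS a := fun v e => ⟨v.2, congrArg Subtype.val e⟩
  have hmem1 : ∀ v : V, B v = v → (v : E) ∈ V ⊓ fixS b := fun v e => ⟨v.2, congrArg Subtype.val e⟩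
  have hmem2 : ∀ v : V, A (B v) = v → (v : E) ∈ V ⊓ fixS (a * b) := fun v e => ⟨v.2, congrArg Subtype.val e⟩
  have hmem3 : ∀ v : V, A (A (B v)) = v → (v : E) ∈ V ⊓ fixS (a * a * b) := fun v e => ⟨v.2, congrArg Subtype.val e⟩
  have key : Nat.card (↥V × ↥(V ⊓ fixS a ⊓ fixS b) × ↥(V ⊓ fixS a ⊓ fixS b) × ↥(V ⊓ fixS a ⊓ fixS b)) =
      Nat.card (↥(V ⊓ fixS a) × ↥(V ⊓ fixS b) × ↥(V ⊓ fixS (a * b)) × ↥(V ⊓ fixS (a * a * b))) := by
    let d : ↥(V ⊓ fixS a ⊓ fixS b) → ↥V := fun c => ⟨c, c.2.1.1⟩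
    have hd : ∀ c, A (d c) = d c ∧ B (d c) = d c := fun c => ⟨Subtype.ext c.2.1.2, Subtype.ext c.2.2⟩
    have hd' : ∀ c, A (B (d c)) = d c ∧ A (A (B (d c))) = d c := fun c => by
      rw [(hd c).2, (hd c).1, (hd c).1]; exact ⟨rfl, rfl⟩
    refine Nat.card_eq_of_bijective
      (fun p => (⟨e0 p.1, hmem0 _ (hfix _).1⟩,
        ⟨e1 p.1 * d p.2.1, hmem1 _ ((map_mul B _ _).trans (congrArg₂ (· * ·) (hfix _).2.1 (hd _).2))⟩,
        ⟨e2 p.1 * d p.2.2.1, hmem2 _ (((congrArg A (map_mul B _ _)).trans (map_mul A _ _)).trans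
          (congrArg₂ (· * ·) (hfix _).2.2.1 (hd' _).1))⟩,
        ⟨e3 p.1 * d p.2.2.2, hmem3 _ (((congrArg A ((congrArg A (map_mul B _ _)).trans (map_mul A _ _))).trans
          (map_mul A _ _)).trans (congrArg₂ (· * ·) (hfix _).2.2.2 (hd' _).2))⟩))
      ⟨?_, ?_⟩
    · rintro ⟨u, c1, c2, c3⟩ ⟨v, d1, d2, d3⟩ e
      simp only [Prod.mk.injEq, Subtype.mk.injEq] at e
      obtain ⟨g0, g1, g2, g3⟩ := e
      replace g0 : e0 u = e0 v := Subtype.ext g0
      replace g1 : e1 u * d c1 = e1 v * d d1 := Subtype.ext g1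
      replace g2 : e2 u * d c2 = e2 v * d d2 := Subtype.ext g2
      replace g3 : e3 u * d c3 = e3 v * d d3 := Subtype.ext g3
      have hww : w u = w v := by rw [← (hprod u).2.2.2.1, g0, (hprod v).2.2.2.1]
      have k1 : d c1 = d d1 := by
        have := congrArg e0 g1
        rwa [(hm (e1 u) (d c1)).1, (hm (e1 v) (d d1)).1, (hprod u).1, (hprod v).1, h0 _ (hd _).1, h0 _ (hd _).1, hww, mul_right_inj] at this
      have k2 : d c2 = d d2 := by
        have := congrArg e0 g2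
        rwa [(hm (e2 u) (d c2)).1, (hm (e2 v) (d d2)).1, (hprod u).2.1, (hprod v).2.1, h0 _ (hd _).1, h0 _ (hd _).1, hww, mul_right_inj]
          at this
      have k3 : d c3 = d d3 := by
        have := congrArg e0 g3
        rwa [(hm (e3 u) (d c3)).1, (hm (e3 v) (d d3)).1, (hprod u).2.2.1, (hprod v).2.2.1, h0 _ (hd _).1, h0 _ (hd _).1, hww, mul_right_inj]
          at this
      rw [k1, mul_left_inj] at g1
      rw [k2, mul_left_inj] at g2
      rw [k3, mul_left_inj] at g3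
      have huv : u = v := by
        have h := hsum u
        rw [g0, g1, g2, g3, hsum v, hww] at h
        exact (mul_right_cancel h).symm
      subst huv
      have inj : ∀ c c', d c = d c' → c = c' := fun c c' h => Subtype.ext (congrArg (fun t : ↥V => (t : E)) h)
      rw [inj _ _ k1, inj _ _ k2, inj _ _ k3]
    · rintro ⟨⟨a0, q0⟩, ⟨a1, q1⟩, ⟨a2, q2⟩, ⟨a3, q3⟩⟩
      set x0 : ↥V := ⟨a0, q0.1⟩
      set x1 : ↥V := ⟨a1, q1.1⟩
      set x2 : ↥V := ⟨a2, q2.1⟩
      set x3 : ↥V := ⟨a3, q3.1⟩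
      have r0 : e0 x0 = x0 := h0 _ (Subtype.ext q0.2)
      have r1 : e1 x1 = x1 := h1 _ (Subtype.ext q1.2)
      have r2 : e2 x2 = x2 := h2' _ (Subtype.ext q2.2)
      have r3 : e3 x3 = x3 := h3 _ (Subtype.ext q3.2)
      set c0 := w x0
      set v : ↥V := x0 * (x1 * w x1 * c0) * (x2 * w x2 * c0) * (x3 * w x3 * c0) * c0 with hv
      have hwd : ∀ t : ↥V, (w t : E) ∈ V ⊓ fixS a ⊓ fixS b := fun t =>
        ⟨⟨(w t).2, congrArg Subtype.val (hw t).1⟩, congrArg Subtype.val (hw t).2⟩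
      refine ⟨⟨v, ⟨_, hwd (x1 * x0)⟩, ⟨_, hwd (x2 * x0)⟩, ⟨_, hwd (x3 * x0)⟩⟩, ?_⟩
      have hdd : ∀ t, d ⟨_, hwd t⟩ = w t := fun t => rfl
      have ew : ∀ t : ↥V, e0 (w t) = w t ∧ e1 (w t) = w t ∧ e2 (w t) = w t ∧ e3 (w t) = w t := fun t =>
        ⟨h0 _ (hw t).1, h1 _ (hw t).2, h2' _ (by rw [(hw t).2, (hw t).1]),
          h3 _ (by rw [(hw t).2, (hw t).1, (hw t).1])⟩
      have eww : ∀ t : ↥V, w (w t) = w t := fun t => by
        show e0 (e1 (w t)) = w t
        rw [(ew t).2.1, (ew t).1]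
      have sq : ∀ s t : ↥V, s * (t * t) = s := fun s t => by rw [h2, mul_one]
      have key0 : e0 v = x0 := by
        rw [hv]
        simp only [(hm _ _).1, (ew _).1, c0, r0]
        rw [show e0 x1 = w x1 by conv_lhs => rw [← r1, (hprod x1).1],
          show e0 x2 = w x2 by conv_lhs => rw [← r2, (hprod x2).2.1],
          show e0 x3 = w x3 by conv_lhs => rw [← r3, (hprod x3).2.2.1]]
        rw [show x0 * (w x1 * w x1 * w x0) * (w x2 * w x2 * w x0) * (w x3 * w x3 * w x0) * w x0 =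
          x0 * (w x1 * w x1) * (w x2 * w x2) * (w x3 * w x3) * (w x0 * w x0) * (w x0 * w x0) by ac_rfl]
        simp only [sq]
      have key1 : e1 v * d ⟨_, hwd (x1 * x0)⟩ = x1 := by
        rw [hdd, hv]
        simp only [(hm _ _).2.1, (hm _ _).2.2.2.2, (ew _).2.1, c0, r1]
        rw [show e1 x0 = w x0 by conv_lhs => rw [← r0, (hprod x0).2.2.2.1],
          show e1 x2 = w x2 by conv_lhs => rw [← r2, (hprod x2).2.2.2.2.1],
          show e1 x3 = w x3 by conv_lhs => rw [← r3, (hprod x3).2.2.2.2.2.1]]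
        rw [show w x0 * (x1 * w x1 * w x0) * (w x2 * w x2 * w x0) * (w x3 * w x3 * w x0) * w x0 * (w x1 * w x0) =
          x1 * (w x1 * w x1) * (w x2 * w x2) * (w x3 * w x3) * (w x0 * w x0) * (w x0 * w x0) * (w x0 * w x0) by ac_rfl]
        simp only [sq]
      have key2 : e2 v * d ⟨_, hwd (x2 * x0)⟩ = x2 := by
        rw [hdd, hv]
        simp only [(hm _ _).2.2.1, (hm _ _).2.2.2.2, (ew _).2.2.1, c0, r2]
        rw [show e2 x0 = w x0 by conv_lhs => rw [← r0, (hprod x0).2.2.2.2.2.2.1],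
          show e2 x1 = w x1 by conv_lhs => rw [← r1, (hprod x1).2.2.2.2.2.2.2.1],
          show e2 x3 = w x3 by conv_lhs => rw [← r3, (hprod x3).2.2.2.2.2.2.2.2.1]]
        rw [show w x0 * (w x1 * w x1 * w x0) * (x2 * w x2 * w x0) * (w x3 * w x3 * w x0) * w x0 * (w x2 * w x0) =
          x2 * (w x1 * w x1) * (w x2 * w x2) * (w x3 * w x3) * (w x0 * w x0) * (w x0 * w x0) * (w x0 * w x0) by ac_rfl]
        simp only [sq]
      have key3 : e3 v * d ⟨_, hwd (x3 * x0)⟩ = x3 := by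
        rw [hdd, hv]
        simp only [(hm _ _).2.2.2.1, (hm _ _).2.2.2.2, (ew _).2.2.2, c0, r3]
        rw [show e3 x0 = w x0 by conv_lhs => rw [← r0, (hprod x0).2.2.2.2.2.2.2.2.2.1],
          show e3 x1 = w x1 by conv_lhs => rw [← r1, (hprod x1).2.2.2.2.2.2.2.2.2.2.1],
          show e3 x2 = w x2 by conv_lhs => rw [← r2, (hprod x2).2.2.2.2.2.2.2.2.2.2.2]]
        rw [show w x0 * (w x1 * w x1 * w x0) * (w x2 * w x2 * w x0) * (x3 * w x3 * w x0) * w x0 * (w x3 * w x0) =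
          x3 * (w x1 * w x1) * (w x2 * w x2) * (w x3 * w x3) * (w x0 * w x0) * (w x0 * w x0) * (w x0 * w x0) by ac_rfl]
        simp only [sq]
      refine Prod.ext (Subtype.ext ((congrArg (fun t : ↥V => (t : E)) key0) :)) (Prod.ext (Subtype.ext ((congrArg (fun t : ↥V => (t : E)) key1) :))
        (Prod.ext (Subtype.ext ((congrArg (fun t : ↥V => (t : E)) key2) :)) (Subtype.ext ((congrArg (fun t : ↥V => (t : E)) key3) :))))
  rw [Nat.card_prod, Nat.card_prod, Nat.card_prod, Nat.card_prod, Nat.card_prod, Nat.card_prod] at key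
  rw [pow_three, key]
  ring

end Abelian

section Quotient

variable {V : Subgroup E} [V.Normal] (hs : ∀ v ∈ V, v * v = 1)

/-- The induced automorphism. -/
noncomputable def quo (f : MulAut E) (h : V.map f.toMonoidHom = V) : MulAut (E ⧸ V) :=
  QuotientGroup.congr V V f h

include hs in
theorem lift_fixed {f : MulAut E} (hf : f ^ 3 = 1) (hfV : ∀ v ∈ V, f v ∈ V) {x : E} (hx : x⁻¹ * f x ∈ V) :
    ∃ k ∈ V, f (x * k) = x * k ∧ k = f (x⁻¹ * f x) := by
  set m := x⁻¹ * f x with hm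
  refine ⟨f m, hfV m hx, ?_, rfl⟩
  have hfx : f x = x * m := by rw [hm, mul_inv_cancel_left]
  have e : x = x * (m * f m * f (f m)) := by
    conv_lhs => rw [← cube_apply hf x, hfx, map_mul, hfx, map_mul, map_mul, hfx]
    simp only [mul_assoc]
  have h1 : m * f m * f (f m) = 1 := mul_left_cancel (a := x) (by rw [← e, mul_one])
  rw [map_mul, hfx, mul_assoc]
  congr 1
  have h2 : f (f m) = (m * f m)⁻¹ := eq_inv_of_mul_eq_one_right h1
  rw [h2, mul_inv_rev, inv_eq_of_mul_eq_one_right (hs _ (hfV m hx)), inv_eq_of_mul_eq_one_right (hs m hx),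
    ← mul_assoc]
  have hmm : m * f m = f m * m := by
    have h4 := hs _ (mul_mem hx (hfV m hx))
    calc m * f m = (m * f m)⁻¹ := (inv_eq_of_mul_eq_one_right h4).symm
      _ = f m * m := by
        rw [mul_inv_rev, inv_eq_of_mul_eq_one_right (hs _ (hfV m hx)), inv_eq_of_mul_eq_one_right (hs m hx)]
  rw [hmm, mul_assoc, hs m hx, mul_one]

theorem card_split [Finite E] (K : Subgroup E) (L : Subgroup (E ⧸ V))
    (hle : ∀ k ∈ K, QuotientGroup.mk' V k ∈ L) (hsur : ∀ q ∈ L, ∃ k ∈ K, QuotientGroup.mk' V k = q) :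
    Nat.card K = Nat.card ↥(V ⊓ K) * Nat.card L := by
  let f : ↥K →* E ⧸ V := (QuotientGroup.mk' V).comp K.subtype
  have hr : f.range = L := by
    ext q
    exact ⟨fun ⟨k, hk⟩ => hk ▸ hle k k.2, fun hq => by obtain ⟨k, hk, e⟩ := hsur q hq; exact ⟨⟨k, hk⟩, e⟩⟩
  have h := f.ker.card_mul_index
  rw [Subgroup.index_ker, hr] at h
  rw [← h]
  congr 1
  refine Nat.card_congr
    { toFun := fun c => ⟨((c : K) : E), (QuotientGroup.eq_one_iff _).1 c.2, (c : K).2⟩
      invFun := fun c => ⟨⟨c, c.2.2⟩, (QuotientGroup.eq_one_iff _).2 c.2.1⟩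
      left_inv := fun c => rfl
      right_inv := fun c => rfl }

end Quotient

/-- The order formula. -/
theorem nine_formula : ∀ (n : ℕ) {E : Type u} [Group E] [Finite E], Nat.card E = n → IsPGroup 2 E →
    ∀ (a b : MulAut E), a ^ 3 = 1 → b ^ 3 = 1 → a * b = b * a →
    Nat.card E * Nat.card ↥(fixS a ⊓ fixS b) ^ 3 =
      Nat.card ↥(fixS a) * Nat.card ↥(fixS b) * Nat.card ↥(fixS (a * b)) * Nat.card ↥(fixS (a * a * b)) := by
  intro n
  induction n using Nat.strong_induction_on with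
  | _ n ih =>
  intro E _ _ hn hE a b ha hb hab
  classical
  rcases subsingleton_or_nontrivial E with hsub | hnt
  · haveI : ∀ K : Subgroup E, Subsingleton K := fun K => inferInstance
    simp [Nat.card_of_subsingleton (1 : E), Nat.card_of_subsingleton (1 : ↥(fixS a ⊓ fixS b)),
      Nat.card_of_subsingleton (1 : ↥(fixS a)), Nat.card_of_subsingleton (1 : ↥(fixS b)),
      Nat.card_of_subsingleton (1 : ↥(fixS (a * b))), Nat.card_of_subsingleton (1 : ↥(fixS (a * a * b)))]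
  haveI : Fact (Nat.Prime 2) := ⟨Nat.prime_two⟩
  let V : Subgroup E :=
    { carrier := {v | (∀ u, u * v = v * u) ∧ v * v = 1}
      one_mem' := ⟨fun u => by simp, by simp⟩
      mul_mem' := fun {u v} hu hv => ⟨fun t => by rw [← mul_assoc, hu.1, mul_assoc, hv.1, mul_assoc], by
        rw [mul_assoc, ← mul_assoc v, ← hv.1 u, mul_assoc u, hv.2, mul_one, hu.2]⟩
      inv_mem' := fun {u} hu => by rw [inv_eq_of_mul_eq_one_right hu.2]; exact hu }
  have hmap : ∀ f : MulAut E, ∀ v ∈ V, f v ∈ V := fun f v hv =>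
    ⟨fun u => by rw [← f.apply_symm_apply u, ← map_mul, ← map_mul, hv.1], by rw [← map_mul, hv.2, map_one]⟩
  have hmapeq : ∀ f : MulAut E, V.map f.toMonoidHom = V := fun f => le_antisymm
    (by rintro _ ⟨v, hv, rfl⟩; exact hmap f v hv)
    (fun v hv => ⟨f.symm v, hmap f.symm v hv, f.apply_symm_apply v⟩)
  haveI : V.Normal := ⟨fun v hv g => by rw [hv.1 g, mul_inv_cancel_right]; exact hv⟩
  have hVpos : 1 < Nat.card V := by
    haveI := hE.center_nontrivial
    have hp : IsPGroup 2 ↥(Subgroup.center E) := hE.to_subgroup _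
    obtain ⟨k, hk⟩ := hp.exists_card_eq
    have hk0 : k ≠ 0 := fun e => by
      have := Finite.one_lt_card (α := ↥(Subgroup.center E))
      rw [hk, e, pow_zero] at this
      omega
    obtain ⟨t, ht⟩ := exists_prime_orderOf_dvd_card' (G := ↥(Subgroup.center E)) 2 (hk ▸ dvd_pow_self 2 hk0)
    have htV : (t : E) ∈ V := ⟨fun u => Subgroup.mem_center_iff.1 t.2 u, by
      rw [← pow_two, ← Subgroup.coe_pow, ← ht, pow_orderOf_eq_one]; rfl⟩
    refine Finite.one_lt_card_iff_nontrivial.2 ⟨⟨1, ⟨t, htV⟩, fun e => ?_⟩⟩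
    have : t = 1 := Subtype.ext (congrArg (fun v : V => (v : E)) e).symm
    rw [this, orderOf_one] at ht
    omega
  have hlt : Nat.card (E ⧸ V) < n := by
    have := Subgroup.card_eq_card_quotient_mul_card_subgroup V
    have hq : 0 < Nat.card (E ⧸ V) := Nat.card_pos
    rw [hn] at this
    nlinarith
  set qa := quo a (hmapeq a)
  set qb := quo b (hmapeq b)
  have qcube : ∀ (f : MulAut E), f ^ 3 = 1 → quo f (hmapeq f) ^ 3 = 1 := fun f hf => MulEquiv.ext fun q => by
    obtain ⟨x, rfl⟩ := QuotientGroup.mk'_surjective V q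
    rw [pow_three', MulAut.mul_apply, MulAut.mul_apply, MulAut.one_apply]
    show QuotientGroup.mk' V (f (f (f x))) = _
    rw [cube_apply hf]
  have hqab : qa * qb = qb * qa := MulEquiv.ext fun q => by
    obtain ⟨x, rfl⟩ := QuotientGroup.mk'_surjective V q
    exact congrArg (QuotientGroup.mk' V) (congrArg (fun g : MulAut E => g x) hab)
  have hih := ih _ hlt (E := E ⧸ V) rfl (hE.to_quotient V) qa qb (qcube a ha) (qcube b hb) hqab
  have hsq : ∀ v ∈ V, v * v = 1 := fun v hv => hv.2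
  have hab3 : ∀ i : ℕ, (a ^ i * b) ^ 3 = 1 := fun i => by
    have hc : Commute (a ^ i) b := (show Commute a b from hab).pow_left i
    rw [hc.mul_pow, ← pow_mul, mul_comm, pow_mul, ha, one_pow, one_mul, hb]
  have hone : ∀ (f : MulAut E), f ^ 3 = 1 → Nat.card ↥(fixS f) =
      Nat.card ↥(V ⊓ fixS f) * Nat.card ↥(fixS (quo f (hmapeq f))) := fun f hf =>
    card_split (fixS f) _ (fun k hk => mem_fixS.2 (congrArg (QuotientGroup.mk' V) (mem_fixS.1 hk))) fun q hq => by
      obtain ⟨x, rfl⟩ := QuotientGroup.mk'_surjective V q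
      have hq' : QuotientGroup.mk' V (f x) = QuotientGroup.mk' V x := mem_fixS.1 hq
      obtain ⟨k, hk, hfk, -⟩ := lift_fixed hsq hf (hmap f) (QuotientGroup.eq.1 hq'.symm)
      exact ⟨x * k, mem_fixS.2 hfk, by rw [map_mul, (QuotientGroup.eq_one_iff k).2 hk |> fun e =>
        (show QuotientGroup.mk' V k = 1 from e), mul_one]⟩
  have htwo : Nat.card ↥(fixS a ⊓ fixS b) =
      Nat.card ↥(V ⊓ (fixS a ⊓ fixS b)) * Nat.card ↥(fixS qa ⊓ fixS qb) :=
    card_split _ _ (fun k hk => ⟨mem_fixS.2 (congrArg (QuotientGroup.mk' V) (mem_fixS.1 hk.1)),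
      mem_fixS.2 (congrArg (QuotientGroup.mk' V) (mem_fixS.1 hk.2))⟩) fun q hq => by
      obtain ⟨x, rfl⟩ := QuotientGroup.mk'_surjective V q
      have hqa : QuotientGroup.mk' V (a x) = QuotientGroup.mk' V x := mem_fixS.1 hq.1
      have hqb : QuotientGroup.mk' V (b x) = QuotientGroup.mk' V x := mem_fixS.1 hq.2
      obtain ⟨k, hk, hak, -⟩ := lift_fixed hsq ha (hmap a) (QuotientGroup.eq.1 hqa.symm)
      have hbk : QuotientGroup.mk' V (b (x * k)) = QuotientGroup.mk' V (x * k) := by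
        rw [map_mul, map_mul, map_mul, hqb, (QuotientGroup.eq_one_iff (b k)).2 (hmap b k hk) |> fun e =>
          (show QuotientGroup.mk' V (b k) = 1 from e), (QuotientGroup.eq_one_iff k).2 hk |> fun e =>
          (show QuotientGroup.mk' V k = 1 from e)]
      obtain ⟨l, hl, hbl, hle⟩ := lift_fixed hsq hb (hmap b) (QuotientGroup.eq.1 hbk.symm)
      have hal : a l = l := by
        have hba : a (b (x * k)) = b (a (x * k)) := congrArg (fun g : MulAut E => g (x * k)) hab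
        rw [hle, show a (b ((x * k)⁻¹ * b (x * k))) = b (a ((x * k)⁻¹ * b (x * k))) from
          congrArg (fun g : MulAut E => g ((x * k)⁻¹ * b (x * k))) hab, map_mul a, map_inv, hba, hak]
      refine ⟨x * k * l, ⟨mem_fixS.2 (by rw [map_mul, hak, hal]), mem_fixS.2 hbl⟩, ?_⟩
      rw [map_mul, map_mul, (QuotientGroup.eq_one_iff k).2 hk |> fun e => (show QuotientGroup.mk' V k = 1 from e),
        (QuotientGroup.eq_one_iff l).2 hl |> fun e => (show QuotientGroup.mk' V l = 1 from e), mul_one, mul_one]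
  have hA := card_abelian ha hb hab (V := V) (fun u hu v hv => hv.1 u) hsq (hmap a) (hmap b)
  have hqm : quo (a * b) (hmapeq _) = qa * qb := MulEquiv.ext fun q => by
    obtain ⟨x, rfl⟩ := QuotientGroup.mk'_surjective V q; rfl
  have hqm2 : quo (a * a * b) (hmapeq _) = qa * qa * qb := MulEquiv.ext fun q => by
    obtain ⟨x, rfl⟩ := QuotientGroup.mk'_surjective V q; rfl
  rw [← inf_assoc] at htwo
  rw [Subgroup.card_eq_card_quotient_mul_card_subgroup V, hone a ha, hone b hb,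
    hone (a * b) (by simpa using hab3 1), hone (a * a * b) (by simpa [pow_two] using hab3 2), hqm, hqm2, htwo,
    mul_pow]
  calc _ = (Nat.card ↥V * Nat.card ↥(V ⊓ fixS a ⊓ fixS b) ^ 3) *
        (Nat.card (E ⧸ V) * Nat.card ↥(fixS qa ⊓ fixS qb) ^ 3) := by ring
    _ = _ := by rw [hA, hih]; ring

/-- An automorphism of order eleven of a group of order a small power of two is trivial. -/
theorem eleven_fix [Finite E] {m : ℕ} (hm : Nat.card E = 2 ^ m) (hlt : m < 10) {f : MulAut E} (hf : f ^ 11 = 1)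
    (v : E) : f v = v := by
  classical
  haveI : Fact (Nat.Prime 11) := ⟨by norm_num⟩
  let σ : Function.End E := fun t => f t
  have hσ : σ ^ 11 ^ 1 = 1 := funext fun t => by
    have hit : ∀ n : ℕ, (σ ^ n) t = (f ^ n) t := by
      intro n
      induction n with
      | zero => rfl
      | succ n ih => rw [pow_succ', pow_succ', MulAut.mul_apply, ← ih]; rfl
    rw [pow_one, hit, hf]; rfl
  haveI := Fintype.ofFinite E
  have h := Equiv.Perm.card_fixedPoints_modEq hσ
  have hfix : Nat.card (Function.fixedPoints σ) = Nat.card ↥(fixS f) := Nat.card_congr (Equiv.refl _)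
  rw [← Nat.card_eq_fintype_card, ← Nat.card_eq_fintype_card, hfix, hm] at h
  obtain ⟨j, hj, hj2⟩ := (Nat.dvd_prime_pow Nat.prime_two).1 (hm ▸ Subgroup.card_subgroup_dvd_card (fixS f))
  rw [hj2] at h
  have hjm : j = m := by
    unfold Nat.ModEq at h
    interval_cases m <;> interval_cases j <;> simp_all
  have htop : fixS f = ⊤ := Subgroup.eq_top_of_card_eq _ (by rw [hj2, hjm, hm])
  exact mem_fixS.1 (htop ▸ Subgroup.mem_top v)

end Cfsg.Agent.Spor.JFourConv
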