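import Cfsg.Agent.Lib.Spor.JFourConv.Six
import Cfsg.Agent.Lib.Spor.JFourConv.Formula
import Cfsg.Agent.Lib.Grp.Frattini
import Cfsg.Agent.Lib.Grp.Cores
import Cfsg.Prelude.Def_JankoFourType
import Cfsg.Prelude.Def_CaseTheorems

/-!
The centraliser of the involution: its largest normal two-subgroup is extraspecial of order `2¹³`.
-/

set_option autoImplicit false
set_option linter.style.haveILetI false

open Cfsg
open scoped commutatorElement

namespace Cfsg.Agent.Spor.JFourConv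

variable {G : Type*} [Group G] {x z : G} {φ : ↥(Subgroup.centralizer ({x} : Set G)) →* M}

/-- The configuration. -/
structure Conf (x z y o : G) (φ : ↥(Subgroup.centralizer ({x} : Set G)) →* M) : Prop where
  six : Six x z φ
  self : ∀ c : G, c * z = z * c → c ∈ Subgroup.centralizer (twoCoreOfCentralizer z : Set G) →
    c ∈ twoCoreOfCentralizer z
  y_mem : y ∈ Cx x
  y3 : orderOf y = 3
  y_nc : y ∉ Subgroup.zpowers x
  yx : IsConj y x
  ox : o * x * o⁻¹ = x⁻¹
  oy : o * y * o⁻¹ = y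
  oz : o * z = z * o
  not81 : ¬ 3 ^ 4 ∣ Nat.card G

theorem core_le (z : G) : twoCoreOfCentralizer z ≤ Cx z := Subgroup.map_subtype_le _

theorem core_conj [Finite G] {z c e : G} (hc : c * z = z * c) (he : e ∈ twoCoreOfCentralizer z) :
    c * e * c⁻¹ ∈ twoCoreOfCentralizer z := by
  obtain ⟨e', he', rfl⟩ := he
  exact ⟨(⟨c, mem_Cx.2 hc⟩ : ↥(Cx z)) * e' * (⟨c, mem_Cx.2 hc⟩ : ↥(Cx z))⁻¹,
    Grp.pCore_isNormal.conj_mem _ he' _, rfl⟩

theorem core_pgroup [Finite G] (z : G) : IsPGroup 2 ↥(twoCoreOfCentralizer z) :=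
  haveI : Fact (Nat.Prime 2) := ⟨Nat.prime_two⟩
  Grp.pCore_isPGroup.map _

theorem z_mem_core [Finite G] {z : G} (hz : orderOf z = 2) : z ∈ twoCoreOfCentralizer z := by
  haveI : Fact (Nat.Prime 2) := ⟨Nat.prime_two⟩
  let zc : ↥(Cx z) := ⟨z, mem_Cx.2 rfl⟩
  have hn : (Subgroup.zpowers zc).Normal := ⟨fun a ha g => by
    obtain ⟨i, rfl⟩ := Subgroup.mem_zpowers_iff.1 ha
    rw [((show Commute g zc from Subtype.ext (mem_Cx.1 g.2)).zpow_right i).eq, mul_inv_cancel_right]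
    exact zpow_mem (Subgroup.mem_zpowers _) i⟩
  have hp : IsPGroup 2 ↥(Subgroup.zpowers zc) := IsPGroup.of_card (n := 1) (by
    rw [Nat.card_zpowers, pow_one, Subgroup.orderOf_mk, hz])
  exact ⟨zc, Grp.le_pCore hn hp (Subgroup.mem_zpowers zc), rfl⟩

namespace Six

variable (S : Six x z φ) [Finite G]
include S

/-- The centre of a Sylow three-subgroup of the centraliser. -/
theorem center_sylow (T : Sylow 3 ↥(Cx x)) {u : ↥(Cx x)} (hu : u ∈ T) (h : ∀ t ∈ T, t * u = u * t) :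
    (u : G) ∈ Subgroup.zpowers x := by
  by_contra hux
  haveI : Fact (Nat.Prime 3) := ⟨Nat.prime_three⟩
  obtain ⟨a, ha, b, hb, hab⟩ := S.sylow_not_comm T
  let W : Subgroup ↥(T : Subgroup ↥(Cx x)) := Subgroup.center _
  have hxW : (⟨⟨x, S.x_mem⟩, S.x_mem_sylow T⟩ : ↥(T : Subgroup ↥(Cx x))) ∈ W :=
    Subgroup.mem_center_iff.2 fun g => Subtype.ext (Subtype.ext (mem_Cx.1 (g : ↥(Cx x)).2))
  have huW : (⟨u, hu⟩ : ↥(T : Subgroup ↥(Cx x))) ∈ W :=
    Subgroup.mem_center_iff.2 fun g => Subtype.ext (h g g.2)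
  have hW3 : 3 < Nat.card W := by
    by_contra hle
    have hz : Subgroup.zpowers (⟨⟨x, S.x_mem⟩, S.x_mem_sylow T⟩ : ↥(T : Subgroup ↥(Cx x))) = W :=
      Subgroup.eq_of_le_of_card_ge (Subgroup.zpowers_le.2 hxW)
        (by rw [Nat.card_zpowers, Subgroup.orderOf_mk, Subgroup.orderOf_mk, S.ordx]; omega)
    obtain ⟨i, hi⟩ := Subgroup.mem_zpowers_iff.1 (hz ▸ huW)
    exact hux ⟨i, by simpa using congrArg (fun t : ↥(T : Subgroup ↥(Cx x)) => ((t : ↥(Cx x)) : G)) hi⟩
  have hq : Nat.card (↥(T : Subgroup ↥(Cx x)) ⧸ W) ∣ 3 := by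
    have h1 := Subgroup.card_eq_card_quotient_mul_card_subgroup W
    rw [S.card_sylow T] at h1
    have hd : Nat.card W ∣ 3 ^ 3 := Dvd.intro_left _ h1.symm
    obtain ⟨k, hk, hk2⟩ := (Nat.dvd_prime_pow Nat.prime_three).1 hd
    rw [hk2] at h1 hW3
    interval_cases k
    all_goals first | omega | (refine ⟨1, ?_⟩; omega) | (refine ⟨3, ?_⟩; omega)
  haveI : IsCyclic (↥(T : Subgroup ↥(Cx x)) ⧸ W) := by
    rcases (Nat.dvd_prime Nat.prime_three).1 hq with h | h
    · haveI := (Nat.card_eq_one_iff_unique.1 h).1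
      infer_instance
    · exact isCyclic_of_prime_card (p := 3) h
  exact hab (congrArg Subtype.val
    ((commutative_of_cyclic_center_quotient (QuotientGroup.mk' W) (by simp [W]) : ∀ a b : ↥(T : Subgroup ↥(Cx x)),
      a * b = b * a) ⟨a, ha⟩ ⟨b, hb⟩))

/-- An element inverting `x` centralises `z`. -/
theorem inverter_z {o : G} (ho : o * x * o⁻¹ = x⁻¹) : o * z = z * o := by
  have hinv : ∀ c ∈ Cx x, o⁻¹ * c * o ∈ Cx x := fun c hc => mem_Cx.2 (by
    have hc' : Commute c x := mem_Cx.1 hc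
    have e : o * x = x⁻¹ * o := mul_inv_eq_iff_eq_mul.1 ho
    calc o⁻¹ * c * o * x = o⁻¹ * c * (o * x) := by group
      _ = o⁻¹ * (c * x⁻¹) * o := by rw [e]; group
      _ = o⁻¹ * (x⁻¹ * c) * o := by rw [hc'.inv_right.eq]
      _ = (o⁻¹ * x⁻¹ * o) * (o⁻¹ * c * o) := by group
      _ = x * (o⁻¹ * c * o) := by rw [← ho]; group)
  have hcx : ∀ c ∈ Cx x, o * c * o⁻¹ ∈ Cx x := fun c hc => mem_Cx.2 (by
    have hc' : Commute c x := mem_Cx.1 hc
    have e : x = o * x⁻¹ * o⁻¹ := by rw [← conj_inv, ho, inv_inv]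
    calc o * c * o⁻¹ * x = o * c * o⁻¹ * (o * x⁻¹ * o⁻¹) := by rw [← e]
      _ = o * (c * x⁻¹) * o⁻¹ := by group
      _ = o * (x⁻¹ * c) * o⁻¹ := by rw [hc'.inv_right.eq]
      _ = (o * x⁻¹ * o⁻¹) * (o * c * o⁻¹) := by group
      _ = _ := by rw [← e])
  have hcen : ∀ c ∈ Cx x, c * (o * z * o⁻¹) = o * z * o⁻¹ * c := fun c hc => by
    have := S.central _ (mem_Cx.1 (hinv c hc))
    calc c * (o * z * o⁻¹) = o * (o⁻¹ * c * o * z) * o⁻¹ := by group
      _ = o * (z * (o⁻¹ * c * o)) * o⁻¹ := by rw [this]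
      _ = _ := by group
  have h2 : orderOf (o * z * o⁻¹) = 2 := ((MulAut.conj o).orderOf_eq z).trans S.ordz
  have := S.normal_two (Subgroup.zpowers (o * z * o⁻¹))
    (IsPGroup.of_card (n := 1) (by rw [Nat.card_zpowers, h2, pow_one])) (Subgroup.zpowers_le.2 (hcx z S.z_mem))
    (fun c hc n hn => by
      obtain ⟨i, rfl⟩ := Subgroup.mem_zpowers_iff.1 hn
      rw [((show Commute c (o * z * o⁻¹) from hcen c hc).zpow_right i).eq, mul_inv_cancel_right]
      exact zpow_mem (Subgroup.mem_zpowers _) i) _ (Subgroup.mem_zpowers _)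
  rcases this with e | e
  · rw [e, orderOf_one] at h2; omega
  · exact mul_inv_eq_iff_eq_mul.1 e

/-- A homomorphism of the centraliser into the automorphisms of a small two-group kills `x`. -/
theorem small_trivial {W : Type*} [Group W] [Finite W] {j : ℕ} (hj : Nat.card W = 2 ^ j) (hj10 : j < 10)
    (ψ : ↥(Cx x) →* MulAut W) : ψ = 1 := by
  haveI : IsSimpleGroup M := Cfsg.Agent.Spor.JFour.simple_M22
  haveI : Fact (Nat.Prime 11) := ⟨by norm_num⟩
  obtain ⟨u, hu⟩ := exists_prime_orderOf_dvd_card' (G := ↥(Cx x)) 11 (by rw [S.card_C]; norm_num)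
  have hψu : ψ u = 1 := MulEquiv.ext fun w => eleven_fix hj hj10
    (by rw [← map_pow, ← hu, pow_orderOf_eq_one, map_one]) w
  have hφu : φ u ≠ 1 := fun e => by
    have h6 := S.ker_six e
    have h11 : (u : G) ^ 11 = 1 := by rw [← hu, ← Subgroup.coe_pow, pow_orderOf_eq_one]; rfl
    have := pow_gcd_eq_one.2 ⟨h6, h11⟩
    rw [show Nat.gcd 6 11 = 1 by norm_num, pow_one] at this
    rw [show u = 1 from Subtype.ext this, orderOf_one] at hu
    omega
  haveI : (ψ.ker.map φ).Normal := Subgroup.Normal.map inferInstance φ S.surj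
  rcases (inferInstance : (ψ.ker.map φ).Normal).eq_bot_or_eq_top with h | h
  · exact absurd (Subgroup.mem_bot.1 (h ▸ Subgroup.mem_map_of_mem φ hψu)) hφu
  have hall : ∀ c : ↥(Cx x), ∃ k ∈ ψ.ker, φ (k⁻¹ * c) = 1 := fun c => by
    obtain ⟨k, hk, e⟩ := (h ▸ Subgroup.mem_top (φ c) : φ c ∈ ψ.ker.map φ)
    exact ⟨k, hk, by rw [map_mul, map_inv, e, inv_mul_cancel]⟩
  have hle : ⁅(⊤ : Subgroup ↥(Cx x)), (⊤ : Subgroup ↥(Cx x))⁆ ≤ ψ.ker := Subgroup.commutator_le.2 fun a _ b _ => by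
    obtain ⟨k, hk, hk'⟩ := hall a
    obtain ⟨l, hl, hl'⟩ := hall b
    have hc : ∀ d : ↥(Cx x), φ d = 1 → ∀ e, Commute e d := fun d hd e => Subtype.ext (S.ker_center hd e e.2)
    have e : ⁅a, b⁆ = ⁅k, l⁆ := by
      obtain ⟨m, rfl⟩ : ∃ m, a = k * m := ⟨k⁻¹ * a, by group⟩
      obtain ⟨n, rfl⟩ : ∃ n, b = l * n := ⟨l⁻¹ * b, by group⟩
      rw [inv_mul_cancel_left] at hk' hl'
      rw [commutatorElement_def, commutatorElement_def]
      calc k * m * (l * n) * (k * m)⁻¹ * (l * n)⁻¹ = k * (m * (l * n) * m⁻¹) * k⁻¹ * (l * n)⁻¹ := by group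
        _ = k * (l * n) * k⁻¹ * (n⁻¹ * l⁻¹) := by
          rw [← (hc m hk' (l * n)).eq, mul_inv_cancel_right, mul_inv_rev]
        _ = k * l * (n * k⁻¹ * n⁻¹) * l⁻¹ := by group
        _ = k * l * k⁻¹ * l⁻¹ := by rw [← (hc n hl' k⁻¹).eq, mul_inv_cancel_right]
    rw [e, commutatorElement_def]
    exact mul_mem (mul_mem (mul_mem hk hl) (inv_mem hk)) (inv_mem hl)
  rw [S.perf] at hle
  exact MonoidHom.ext fun c => hle (Subgroup.mem_top c)

end Six

/-- Existence of the configuration. -/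
theorem exists_conf [Finite G] (h2 : Cfsg.IsCharacteristicTwoType G) (S : Six x z φ) (P : Sylow 3 G) (g : G)
    (hng : ((Subgroup.center ↥(P : Subgroup G)).map (P : Subgroup G).subtype).map (MulAut.conj g).toMonoidHom ≤
      (P : Subgroup G))
    (hne : ((Subgroup.center ↥(P : Subgroup G)).map (P : Subgroup G).subtype).map (MulAut.conj g).toMonoidHom ≠
      ((Subgroup.center ↥(P : Subgroup G)).map (P : Subgroup G).subtype)) :
    ∃ y o : G, Conf x z y o φ := by
  classical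
  haveI : Fact (Nat.Prime 3) := ⟨Nat.prime_three⟩
  obtain ⟨T⟩ : Nonempty (Sylow 3 ↥(Cx x)) := inferInstance
  set T' := (T : Subgroup ↥(Cx x)).map (Cx x).subtype with hT'
  have hT'p : IsPGroup 3 ↥T' := T.2.map _
  have hT'c : Nat.card T' = 27 := by
    rw [hT', Subgroup.card_map_of_injective (Cx x).subtype_injective, S.card_sylow]
  obtain ⟨Q, hQ⟩ := hT'p.exists_le_sylow
  have hxT' : x ∈ T' := ⟨⟨x, S.x_mem⟩, S.x_mem_sylow T, rfl⟩
  have hcenT : ∀ u ∈ T', (∀ t ∈ T', t * u = u * t) → u ∈ Subgroup.zpowers x := by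
    rintro _ ⟨u, hu, rfl⟩ h
    exact S.center_sylow T hu fun t ht => Subtype.ext (h _ ⟨t, ht, rfl⟩)
  have hQT : (Q : Subgroup G) = T' := by
    by_contra hneq
    have hlt : T'.subgroupOf (Q : Subgroup G) < ⊤ := lt_top_iff_ne_top.2 fun htop =>
      hneq (le_antisymm (Subgroup.subgroupOf_eq_top.1 htop) hQ)
    haveI := Q.2.isNilpotent
    have hgrow := Group.normalizerCondition_of_isNilpotent (G := ↥(Q : Subgroup G)) _ hlt
    obtain ⟨⟨u, huQ⟩, hun, hunot⟩ := SetLike.exists_of_lt hgrow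
    have huT : u ∉ T' := fun h => hunot (Subgroup.mem_subgroupOf.2 h)
    have hconj : ∀ t ∈ T', u * t * u⁻¹ ∈ T' := fun t ht =>
      ((Subgroup.mem_normalizer_iff.1 hun) ⟨t, hQ ht⟩).1 ht
    have hconj' : ∀ t ∈ T', u⁻¹ * t * u ∈ T' := fun t ht => by
      have := ((Subgroup.mem_normalizer_iff.1 hun) (⟨u, huQ⟩⁻¹ * ⟨t, hQ ht⟩ * ⟨u, huQ⟩)).2 (by
        rw [Subgroup.mem_subgroupOf]
        simpa [mul_assoc] using ht)
      simpa [Subgroup.mem_subgroupOf] using this
    have hux : u * x * u⁻¹ ∈ Subgroup.zpowers x := hcenT _ (hconj x hxT') fun t ht => by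
      have hc : Commute (u⁻¹ * t * u) x := by
        obtain ⟨w, -, e⟩ := hconj' t ht
        rw [← e]
        exact mem_Cx.1 w.2
      calc t * (u * x * u⁻¹) = u * ((u⁻¹ * t * u) * x) * u⁻¹ := by group
        _ = u * (x * (u⁻¹ * t * u)) * u⁻¹ := by rw [hc.eq]
        _ = _ := by group
    -- u has three-power order, so centralises x
    obtain ⟨k, hk⟩ := Q.2 ⟨u, huQ⟩
    have huk : u ^ 3 ^ k = 1 := congrArg Subtype.val hk
    have huC : u ∈ Cx x := by
      obtain ⟨i, hi⟩ := (isOfFinOrder_of_finite x).mem_powers_iff_mem_zpowers.2 hux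
      change x ^ i = _ at hi
      have h3 : x ^ i = x ^ (i % 3) := by rw [← S.ordx, pow_mod_orderOf]
      rw [h3] at hi
      have hlt3 : i % 3 < 3 := Nat.mod_lt _ (by norm_num)
      rw [mem_Cx]
      interval_cases hh : i % 3
      · rw [pow_zero, eq_comm, conj_eq_one_iff] at hi
        exact absurd hi S.x_ne
      · rw [pow_one] at hi
        exact (mul_inv_eq_iff_eq_mul.1 hi.symm)
      · exfalso
        have key : ∀ n : ℕ, u ^ n * x * (u ^ n)⁻¹ = x ^ 2 ^ n := by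
          intro n
          induction n with
          | zero => simp
          | succ n ih =>
            rw [pow_succ' u, show u * u ^ n * x * (u * u ^ n)⁻¹ = u * (u ^ n * x * (u ^ n)⁻¹) * u⁻¹ by group, ih,
              ← conj_pow, ← hi, ← pow_mul, ← pow_succ']
        have := key (3 ^ k)
        rw [huk, one_mul, inv_one, mul_one] at this
        have h1 : x ^ 2 ^ 3 ^ k = x ^ 1 := by rw [pow_one]; exact this.symm
        rw [pow_eq_pow_iff_modEq, S.ordx] at h1
        unfold Nat.ModEq at h1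
        obtain ⟨m, hm⟩ : Odd (3 ^ k) := Odd.pow (by decide)
        rw [hm, pow_succ, pow_mul, Nat.mul_mod, Nat.pow_mod] at h1
        norm_num at h1
    have hP : IsPGroup 3 ↥((Q : Subgroup G).subgroupOf (Cx x)) := Q.2.comap_of_injective _ (Cx x).subtype_injective
    have hTle : (T : Subgroup ↥(Cx x)) ≤ (Q : Subgroup G).subgroupOf (Cx x) := fun t ht =>
      Subgroup.mem_subgroupOf.2 (hQ ⟨t, ht, rfl⟩)
    exact huT ⟨⟨u, huC⟩, T.3 hP hTle ▸ (Subgroup.mem_subgroupOf.2 huQ : (⟨u, huC⟩ : ↥(Cx x)) ∈ _), rfl⟩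
  have hnot81 : ¬ 3 ^ 4 ∣ Nat.card G := fun h => by
    have hc := Q.card_eq_multiplicity
    rw [hQT, hT'c] at hc
    rw [Nat.Prime.pow_dvd_iff_le_factorization Nat.prime_three Nat.card_pos.ne'] at h
    have := Nat.pow_le_pow_right (show 0 < 3 by norm_num) h
    omega
  -- move the given Sylow subgroup to T'
  obtain ⟨k, hk⟩ := MulAction.exists_smul_eq G Q P
  have hkP : ∀ u, u ∈ (P : Subgroup G) ↔ k⁻¹ * u * k ∈ T' := fun u => by
    rw [← hQT, ← hk, Sylow.coe_subgroup_smul, Subgroup.mem_pointwise_smul_iff_inv_smul_mem]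
    simp [MulAut.smul_def, mul_assoc]
  have hZ : (Subgroup.center ↥(P : Subgroup G)).map (P : Subgroup G).subtype =
      (Subgroup.zpowers x).map (MulAut.conj k).toMonoidHom := by
    ext u
    constructor
    · rintro ⟨⟨u, hu⟩, hc, rfl⟩
      refine ⟨k⁻¹ * u * k, hcenT _ ((hkP u).1 hu) fun t ht => ?_, by simp [mul_assoc]⟩
      have htP : k * t * k⁻¹ ∈ (P : Subgroup G) := (hkP _).2 (by simpa [mul_assoc] using ht)
      have := congrArg Subtype.val (Subgroup.mem_center_iff.1 hc ⟨_, htP⟩)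
      simp only [Subgroup.coe_mul] at this
      calc t * (k⁻¹ * u * k) = k⁻¹ * (k * t * k⁻¹ * u) * k := by group
        _ = k⁻¹ * (u * (k * t * k⁻¹)) * k := by rw [this]
        _ = _ := by group
    · rintro ⟨w, hw, rfl⟩
      have hwT : w ∈ T' := (Subgroup.zpowers_le.2 hxT') hw
      have hwP : k * w * k⁻¹ ∈ (P : Subgroup G) := (hkP _).2 (by simpa [mul_assoc] using hwT)
      refine ⟨⟨k * w * k⁻¹, hwP⟩, Subgroup.mem_center_iff.2 fun t => Subtype.ext ?_, rfl⟩
      obtain ⟨i, rfl⟩ := Subgroup.mem_zpowers_iff.1 hw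
      obtain ⟨t', -, e⟩ := (hkP t).1 t.2
      have hc : Commute (k⁻¹ * (t : G) * k) (x ^ i) := by
        rw [← e]
        exact (show Commute (t' : G) x from mem_Cx.1 t'.2).zpow_right i
      show (t : G) * (k * x ^ i * k⁻¹) = k * x ^ i * k⁻¹ * t
      calc (t : G) * (k * x ^ i * k⁻¹) = k * ((k⁻¹ * t * k) * x ^ i) * k⁻¹ := by group
        _ = k * (x ^ i * (k⁻¹ * t * k)) * k⁻¹ := by rw [hc.eq]
        _ = _ := by group
  rw [hZ] at hng hne
  set y := k⁻¹ * (g * (k * x * k⁻¹) * g⁻¹) * k with hy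
  have hyT : y ∈ T' := (hkP _).1 (hng ⟨_, ⟨x, Subgroup.mem_zpowers x, rfl⟩, rfl⟩)
  have hyx : IsConj y x := (isConj_iff.2 ⟨k⁻¹ * g * k, by rw [hy]; group⟩ : IsConj x y).symm
  have hy3 : orderOf y = 3 := by
    obtain ⟨c, hc⟩ := isConj_iff.1 hyx.symm
    rw [← hc, ← S.ordx]
    exact (MulAut.conj c).orderOf_eq x
  have hync : y ∉ Subgroup.zpowers x := fun hyz => by
    refine hne ?_
    have hzy : Subgroup.zpowers y = Subgroup.zpowers x := Subgroup.eq_of_le_of_card_ge (Subgroup.zpowers_le.2 hyz)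
      (by rw [Nat.card_zpowers, Nat.card_zpowers, hy3, S.ordx])
    simp only [MonoidHom.map_zpowers]
    show Subgroup.zpowers (g * (k * x * k⁻¹) * g⁻¹) = Subgroup.zpowers (k * x * k⁻¹)
    have h1 : g * (k * x * k⁻¹) * g⁻¹ = (MulAut.conj k).toMonoidHom y := by
      rw [hy]; simp [mul_assoc]
    rw [h1, ← MonoidHom.map_zpowers, hzy, MonoidHom.map_zpowers]
    rfl
  have hyC : y ∈ Cx x := by
    obtain ⟨t, -, e⟩ := hyT
    exact e ▸ t.2
  -- the inverter
  have hy31 : y ^ 3 = 1 := by rw [← hy3, pow_orderOf_eq_one]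
  have hyi : orderOf y⁻¹ = 3 := by rw [orderOf_inv, hy3]
  obtain ⟨c, -, hc⟩ := S.class_three (inv_mem hyC) hyi (fun h => hync (inv_inv y ▸ inv_mem h)) hyC hy3 hync
  have hxi : IsConj x x⁻¹ := by
    obtain ⟨d, hd⟩ := isConj_iff.1 hyx
    refine hyx.symm.trans ((isConj_iff.2 ⟨c, hc⟩ : IsConj y⁻¹ y).symm.trans (isConj_iff.2 ⟨d, ?_⟩))
    rw [← conj_inv, hd]
  obtain ⟨o, ho⟩ := isConj_iff.1 hxi
  have hoy : o * y * o⁻¹ ∈ Cx x := mem_Cx.2 (by
    have e : x = o * x⁻¹ * o⁻¹ := by rw [← conj_inv, ho, inv_inv]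
    have hyc : Commute y x⁻¹ := (show Commute y x from mem_Cx.1 hyC).inv_right
    calc o * y * o⁻¹ * x = o * y * o⁻¹ * (o * x⁻¹ * o⁻¹) := by rw [← e]
      _ = o * (y * x⁻¹) * o⁻¹ := by group
      _ = o * (x⁻¹ * y) * o⁻¹ := by rw [hyc.eq]
      _ = (o * x⁻¹ * o⁻¹) * (o * y * o⁻¹) := by group
      _ = _ := by rw [← e])
  have hoy3 : orderOf (o * y * o⁻¹) = 3 := ((MulAut.conj o).orderOf_eq y).trans hy3
  have hoync : o * y * o⁻¹ ∉ Subgroup.zpowers x := fun h => by
    refine hync ?_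
    obtain ⟨i, hi⟩ := Subgroup.mem_zpowers_iff.1 h
    refine ⟨-i, ?_⟩
    show x ^ (-i) = y
    have : (o * x⁻¹ * o⁻¹) ^ i = o * y * o⁻¹ := by
      rw [show o * x⁻¹ * o⁻¹ = x by rw [← conj_inv, ho, inv_inv], hi]
    rw [conj_zpow] at this
    rw [zpow_neg, ← inv_zpow]
    exact mul_left_cancel (mul_right_cancel this)
  obtain ⟨d, hd, hdy⟩ := S.class_three hoy hoy3 hoync hyC hy3 hync
  have hdx : d * o * x * (d * o)⁻¹ = x⁻¹ := by
    rw [show d * o * x * (d * o)⁻¹ = d * (o * x * o⁻¹) * d⁻¹ by group, ho,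
      (show Commute d x from mem_Cx.1 hd).inv_right.eq, mul_inv_cancel_right]
  refine ⟨y, d * o, S, fun c hc hcE => ?_, hyC, hy3, hync, hyx, hdx, ?_, S.inverter_z hdx, hnot81⟩
  · have hn : Subgroup.normalizer (Subgroup.zpowers z : Set G) = Cx z := by
      ext u
      rw [mem_Cx]
      constructor
      · intro hu
        obtain ⟨i, hi⟩ := Subgroup.mem_zpowers_iff.1 ((Subgroup.mem_normalizer_iff.1 hu z).1 (Subgroup.mem_zpowers z))
        rcases Int.even_or_odd i with ⟨m, rfl⟩ | ⟨m, rfl⟩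
        · rw [← two_mul, zpow_mul, show z ^ (2 : ℤ) = 1 by rw [zpow_ofNat]; exact S.z2, one_zpow, eq_comm,
            conj_eq_one_iff] at hi
          exact absurd hi S.z_ne
        · rw [zpow_add, zpow_mul, show z ^ (2 : ℤ) = 1 by rw [zpow_ofNat]; exact S.z2, one_zpow, one_mul,
            zpow_one] at hi
          exact mul_inv_eq_iff_eq_mul.1 hi.symm
      · intro hu
        refine Subgroup.mem_normalizer_fintype fun a ha => ?_
        obtain ⟨i, rfl⟩ := Subgroup.mem_zpowers_iff.1 ha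
        rw [((show Commute u z from hu).zpow_right i).eq, mul_inv_cancel_right]
        exact zpow_mem (Subgroup.mem_zpowers _) i
    have hz : Subgroup.zpowers z ≠ ⊥ := fun e => S.z_ne (Subgroup.zpowers_eq_bot.1 e)
    have h := h2.2 (Subgroup.zpowers z) (IsPGroup.of_card (n := 1) (by rw [Nat.card_zpowers, S.ordz, pow_one])) hz
    rw [hn] at h
    refine ⟨⟨c, mem_Cx.2 hc⟩, h (Subgroup.mem_centralizer_iff.2 fun e he => Subtype.ext ?_), rfl⟩
    exact Subgroup.mem_centralizer_iff.1 hcE _ ⟨e, he, rfl⟩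
  · rw [show d * o * y * (d * o)⁻¹ = d * (o * y * o⁻¹) * d⁻¹ by group, hdy]

namespace Conf

variable {y o : G} [Finite G] (K : Conf x z y o φ)
include K

/-- The core. -/
local notation "E" => twoCoreOfCentralizer z

theorem z_mem : z ∈ E := z_mem_core K.six.ordz

theorem comm_z {c : G} (hc : c ∈ Cx x) : c * z = z * c := K.six.central c (mem_Cx.1 hc)

theorem fix_x {e : G} (he : e ∈ E) (h : x * e = e * x) : e = 1 ∨ e = z := by
  refine K.six.normal_two (E ⊓ Cx x) ((core_pgroup z).to_le inf_le_left) inf_le_right (fun c hc n hn => ?_) e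
    ⟨he, mem_Cx.2 h.symm⟩
  exact ⟨core_conj (K.comm_z hc) hn.1, (Cx x).mul_mem ((Cx x).mul_mem hc hn.2) ((Cx x).inv_mem hc)⟩

theorem x_z : x * z = z * x := K.six.comm.symm

theorem y_z : y * z = z * y := K.comm_z K.y_mem

theorem x_not_mem : x ∉ E := fun h => by
  rcases K.fix_x h rfl with e | e
  · exact K.six.x_ne e
  · have := K.six.ordx
    rw [e, K.six.ordz] at this
    omega

/-- Conjugation on the core. -/
theorem exists_act : ∃ ψ : ↥(Cx z) →* MulAut ↥E, ∀ c e, ((ψ c e : ↥E) : G) = (c : G) * e * (c : G)⁻¹ :=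
  ⟨MonoidHom.mk' (fun c =>
    { toFun := fun e => ⟨(c : G) * e * (c : G)⁻¹, core_conj (mem_Cx.1 c.2) e.2⟩
      invFun := fun e => ⟨(c : G)⁻¹ * e * (c : G), by
        simpa using core_conj (mem_Cx.1 (c⁻¹ : ↥(Cx z)).2) e.2⟩
      left_inv := fun e => Subtype.ext (by simp [mul_assoc])
      right_inv := fun e => Subtype.ext (by simp [mul_assoc])
      map_mul' := fun a b => Subtype.ext (by simp [mul_assoc]) }) fun a b => MulEquiv.ext fun e => Subtype.ext (by
        simp [MulAut.mul_apply, mul_assoc]), fun c e => rfl⟩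

/-- The centralisers in the core of the elements of `y⟨x⟩` have the same order. -/
theorem card_coset {k : G} (hk : k ∈ Subgroup.zpowers x) :
    Nat.card ↥(E ⊓ Cx (k * y)) = Nat.card ↥(E ⊓ Cx y) := by
  obtain ⟨d, hd, e⟩ := (K.six.cent_three K.y_mem K.y3 K.y_nc).2 k hk
  refine (Nat.card_congr (α := ↥(E ⊓ Cx y)) (β := ↥(E ⊓ Cx (k * y)))
    { toFun := fun u => ⟨d * u * d⁻¹, core_conj (K.comm_z hd) u.2.1, mem_Cx.2 ?_⟩
      invFun := fun u => ⟨d⁻¹ * u * d, ?_, mem_Cx.2 ?_⟩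
      left_inv := fun u => Subtype.ext (by simp [mul_assoc])
      right_inv := fun u => Subtype.ext (by simp [mul_assoc]) }).symm
  · rw [← e, show d * (u : G) * d⁻¹ * (d * y * d⁻¹) = d * ((u : G) * y) * d⁻¹ by group, mem_Cx.1 u.2.2]; group
  · simpa using core_conj (K.comm_z (inv_mem hd)) u.2.1
  · have h : (u : G) * (d * y * d⁻¹) = d * y * d⁻¹ * u := by rw [e]; exact mem_Cx.1 u.2.2
    calc d⁻¹ * (u : G) * d * y = d⁻¹ * ((u : G) * (d * y * d⁻¹)) * d := by group
      _ = d⁻¹ * (d * y * d⁻¹ * u) * d := by rw [h]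
      _ = _ := by group

theorem card_formula : Nat.card ↥E * 2 ^ 3 = 2 * Nat.card ↥(E ⊓ Cx y) ^ 3 := by
  obtain ⟨ψ, hψ⟩ := K.exists_act
  set a := ψ ⟨x, mem_Cx.2 K.x_z⟩ with ha
  set b := ψ ⟨y, mem_Cx.2 K.y_z⟩ with hb
  have hxy : x * y = y * x := (mem_Cx.1 K.y_mem).symm
  have ha3 : a ^ 3 = 1 := by
    rw [ha, ← map_pow, show (⟨x, mem_Cx.2 K.x_z⟩ : ↥(Cx z)) ^ 3 = 1 from Subtype.ext K.six.x3, map_one]
  have hb3 : b ^ 3 = 1 := by
    rw [hb, ← map_pow, show (⟨y, mem_Cx.2 K.y_z⟩ : ↥(Cx z)) ^ 3 = 1 from Subtype.ext (by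
      show y ^ 3 = 1
      rw [← K.y3, pow_orderOf_eq_one]), map_one]
  have hab : a * b = b * a := by
    rw [ha, hb, ← map_mul, ← map_mul]
    exact congrArg ψ (Subtype.ext hxy)
  have hfix : ∀ c : ↥(Cx z), Nat.card ↥(fixS (ψ c)) = Nat.card ↥(E ⊓ Cx (c : G)) := fun c => Nat.card_congr
    { toFun := fun e => ⟨((e : ↥E) : G), (e : ↥E).2, mem_Cx.2 (by
        have h := congrArg Subtype.val (mem_fixS.1 e.2)
        rw [hψ] at h
        exact (mul_inv_eq_iff_eq_mul.1 h).symm)⟩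
      invFun := fun e => ⟨⟨e, e.2.1⟩, mem_fixS.2 (Subtype.ext (by
        rw [hψ]; exact mul_inv_eq_iff_eq_mul.2 (mem_Cx.1 e.2.2).symm))⟩
      left_inv := fun e => rfl
      right_inv := fun e => rfl }
  have hx2 : Nat.card ↥(E ⊓ Cx x) = 2 := by
    have e : E ⊓ Cx x = Subgroup.zpowers z := le_antisymm (fun u hu => by
      rcases K.fix_x hu.1 (mem_Cx.1 hu.2).symm with rfl | rfl
      · exact one_mem _
      · exact Subgroup.mem_zpowers _) (Subgroup.zpowers_le.2 ⟨K.z_mem, K.six.z_mem⟩)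
    rw [e, Nat.card_zpowers, K.six.ordz]
  have h2 : Nat.card ↥(fixS a ⊓ fixS b) = 2 := by
    rw [← Nat.card_zpowers z |>.trans K.six.ordz]
    refine Nat.card_congr
      { toFun := fun e => ⟨((e : ↥E) : G), by
          have h : x * ((e : ↥E) : G) * x⁻¹ = ((e : ↥E) : G) :=
            (hψ _ _).symm.trans (congrArg Subtype.val (mem_fixS.1 e.2.1))
          rcases K.fix_x (e : ↥E).2 (mul_inv_eq_iff_eq_mul.1 h) with e' | e' <;> rw [e']
          exacts [one_mem _, Subgroup.mem_zpowers _]⟩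
        invFun := fun u => ⟨⟨u, (Subgroup.zpowers_le.2 K.z_mem) u.2⟩, ?_, ?_⟩
        left_inv := fun e => rfl
        right_inv := fun e => rfl }
    all_goals
      refine mem_fixS.2 (Subtype.ext ?_)
      obtain ⟨i, hi⟩ := Subgroup.mem_zpowers_iff.1 u.2
      first | rw [ha, hψ] | rw [hb, hψ]
      show _ * (u : G) * _ = (u : G)
      rw [← hi]
      first
        | rw [((show Commute x z from K.x_z).zpow_right i).eq, mul_inv_cancel_right]
        | rw [((show Commute y z from K.y_z).zpow_right i).eq, mul_inv_cancel_right]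
  have h := nine_formula _ rfl (core_pgroup z) a b ha3 hb3 hab
  rw [h2] at h
  rw [h, ha, hb, ← map_mul, ← map_mul, ← map_mul, hfix, hfix, hfix, hfix]
  show Nat.card ↥(E ⊓ Cx x) * Nat.card ↥(E ⊓ Cx y) * Nat.card ↥(E ⊓ Cx (x * y)) *
    Nat.card ↥(E ⊓ Cx (x * x * y)) = _
  rw [K.card_coset (Subgroup.mem_zpowers x),
    K.card_coset (mul_mem (Subgroup.mem_zpowers x) (Subgroup.mem_zpowers x)), hx2]
  ring

theorem exists_six_y : ∃ (zy : G) (ψ : ↥(Cx y) →* M), Six y zy ψ := by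
  obtain ⟨g, hg⟩ := isConj_iff.1 K.yx.symm
  obtain ⟨ψ, h⟩ := K.six.exists_conj g
  subst hg
  exact ⟨_, ψ, h⟩

/-- The core has order `2¹³`. -/
theorem cards : Nat.card ↥E = 2 ^ 13 ∧ Nat.card ↥(E ⊓ Cx y) = 2 ^ 5 := by
  classical
  haveI : Fact (Nat.Prime 3) := ⟨Nat.prime_three⟩
  haveI : Fact (Nat.Prime 2) := ⟨Nat.prime_two⟩
  have hxy : Commute x y := (mem_Cx.1 K.y_mem).symm
  obtain ⟨n, hn⟩ := (core_pgroup z).exists_card_eq
  set R := E ⊓ Cx y with hR
  obtain ⟨k, hk⟩ := ((core_pgroup z).to_le (inf_le_left : R ≤ E)).exists_card_eq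
  have hf := K.card_formula
  rw [hn, hk, ← pow_mul, ← pow_add, ← pow_succ'] at hf
  have hn3 : n + 3 = k * 3 + 1 := Nat.pow_right_injective le_rfl hf
  -- k is odd
  have hRx : ∀ r ∈ R, x * r * x⁻¹ ∈ R := fun r hr => by
    refine ⟨core_conj K.x_z hr.1, mem_Cx.2 ?_⟩
    have h' : Commute r y := mem_Cx.1 hr.2
    exact ((hxy.mul_left h').mul_left hxy.inv_left).eq
  have hkodd : 2 ^ k % 3 = 2 := by
    let σ : Function.End ↥R := fun r => ⟨x * r * x⁻¹, hRx r r.2⟩
    have hσ : σ ^ 3 ^ 1 = 1 := funext fun r => Subtype.ext (by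
      show x * (x * (x * (r : G) * x⁻¹) * x⁻¹) * x⁻¹ = r
      have := K.six.x3
      rw [show x * (x * (x * (r : G) * x⁻¹) * x⁻¹) * x⁻¹ = x ^ 3 * r * (x ^ 3)⁻¹ by simp [pow_succ, mul_assoc], this]
      group)
    haveI := Fintype.ofFinite ↥R
    have h := Equiv.Perm.card_fixedPoints_modEq hσ
    have hfix : Nat.card (Function.fixedPoints σ) = 2 := by
      rw [← (Nat.card_zpowers z).trans K.six.ordz]
      refine Nat.card_congr
        { toFun := fun r => ⟨((r : ↥R) : G), by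
            rcases K.fix_x (r : ↥R).2.1 (mul_inv_eq_iff_eq_mul.1 (congrArg Subtype.val r.2)) with e | e <;> rw [e]
            exacts [one_mem _, Subgroup.mem_zpowers _]⟩
          invFun := fun u => ⟨⟨u, (Subgroup.zpowers_le.2 (⟨K.z_mem, mem_Cx.2 K.y_z.symm⟩ : z ∈ R)) u.2⟩,
            Subtype.ext (by
              obtain ⟨i, hi⟩ := Subgroup.mem_zpowers_iff.1 u.2
              show x * (u : G) * x⁻¹ = u
              rw [← hi, ((show Commute x z from K.x_z).zpow_right i).eq, mul_inv_cancel_right])⟩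
          left_inv := fun r => rfl
          right_inv := fun r => rfl }
    rw [← Nat.card_eq_fintype_card, ← Nat.card_eq_fintype_card, hfix, hk] at h
    exact h
  -- k is at most six
  have hk6 : k ≤ 6 := by
    set D := Cx x ⊓ Cx y with hD
    have hD8 : 2 ^ 3 ∣ Nat.card D := by rw [hD, (K.six.cent_three K.y_mem K.y3 K.y_nc).1]; norm_num
    obtain ⟨Q, hQ⟩ := Sylow.exists_subgroup_card_pow_prime 2 hD8
    set Q' := Q.map D.subtype with hQ'
    have hQc : Nat.card Q' = 8 := by rw [hQ', Subgroup.card_map_of_injective D.subtype_injective, hQ]; norm_num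
    have hQD : Q' ≤ D := Subgroup.map_subtype_le _
    have hQn : Q' ≤ Subgroup.normalizer (R : Set G) := fun q hq => Subgroup.mem_normalizer_fintype fun r hr =>
      ⟨core_conj (K.comm_z (hQD hq).1) hr.1, (Cx y).mul_mem ((Cx y).mul_mem (hQD hq).2 hr.2) ((Cx y).inv_mem (hQD hq).2)⟩
    have hU : IsPGroup 2 ↥(R ⊔ Q') := IsPGroup.to_sup_of_normal_left' ((core_pgroup z).to_le inf_le_left)
      (IsPGroup.of_card (n := 3) (by rw [hQc]; norm_num)) hQn
    obtain ⟨zy, ψ, Sy⟩ := K.exists_six_y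
    have hUy : R ⊔ Q' ≤ Cx y := sup_le inf_le_right fun q hq => (hQD hq).2
    obtain ⟨m, hm⟩ := hU.exists_card_eq
    have hm8 : m ≤ 8 := by
      have h := Subgroup.card_dvd_of_le hUy
      rw [hm, Sy.card_C, Nat.Prime.pow_dvd_iff_le_factorization Nat.prime_two (by norm_num)] at h
      have h1 : 2 ^ 8 ∣ 2661120 := by norm_num
      have h2 : ¬ 2 ^ 9 ∣ 2661120 := by norm_num
      rw [Nat.Prime.pow_dvd_iff_le_factorization Nat.prime_two (by norm_num)] at h1 h2
      omega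
    have hzQ : z ∈ Q' := by
      let zD : ↥D := ⟨z, K.six.z_mem, mem_Cx.2 K.y_z.symm⟩
      let QS : Sylow 2 ↥D := Sylow.ofCard Q (by
        rw [hQ, hD, (K.six.cent_three K.y_mem K.y3 K.y_nc).1]
        have h1 : 2 ^ 3 ∣ 72 := by norm_num
        have h2 : ¬ 2 ^ 4 ∣ 72 := by norm_num
        rw [Nat.Prime.pow_dvd_iff_le_factorization Nat.prime_two (by norm_num)] at h1 h2
        rw [show (72 : ℕ).factorization 2 = 3 by omega])
      have hn : (Subgroup.zpowers zD).Normal := ⟨fun a ha g => by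
        obtain ⟨i, rfl⟩ := Subgroup.mem_zpowers_iff.1 ha
        rw [((show Commute g zD from Subtype.ext (K.comm_z g.2.1)).zpow_right i).eq, mul_inv_cancel_right]
        exact zpow_mem (Subgroup.mem_zpowers _) i⟩
      have hp : IsPGroup 2 ↥(Subgroup.zpowers zD) := IsPGroup.of_card (n := 1) (by
        rw [Nat.card_zpowers, pow_one, ← Subgroup.orderOf_coe]; exact K.six.ordz)
      have hle := QS.3 (QS.2.to_sup_of_normal_right hp) le_sup_left
      have hmem : zD ∈ (QS : Subgroup ↥D) := by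
        rw [← hle]; exact Subgroup.mem_sup_right (Subgroup.mem_zpowers zD)
      rw [Sylow.coe_ofCard] at hmem
      exact ⟨zD, hmem, rfl⟩
    have hcount : Nat.card R * Nat.card Q' ≤ 2 * Nat.card ↥(R ⊔ Q') := by
      have hinter : ∀ u ∈ R, u ∈ Q' → u = 1 ∨ u = z := fun u hu hu' =>
        K.fix_x hu.1 (mem_Cx.1 (hQD hu').1).symm
      have hd : ∀ p q : ↥R × ↥Q', (p.1 : G) * p.2 = q.1 * q.2 →
          (q.1 : G)⁻¹ * p.1 = 1 ∨ (q.1 : G)⁻¹ * p.1 = z := fun p q e => by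
        refine hinter _ (mul_mem (inv_mem q.1.2) p.1.2) ?_
        rw [show (q.1 : G)⁻¹ * p.1 = q.2 * (p.2 : G)⁻¹ by
          rw [inv_mul_eq_iff_eq_mul, ← mul_assoc, eq_mul_inv_iff_mul_eq, e]]
        exact mul_mem q.2.2 (inv_mem p.2.2)
      let f : ↥R × ↥Q' → ↥(R ⊔ Q') := fun p =>
        ⟨p.1 * p.2, Subgroup.mul_mem_sup p.1.2 p.2.2⟩
      haveI := Fintype.ofFinite (↥R × ↥Q')
      haveI := Fintype.ofFinite ↥(R ⊔ Q')
      rw [← Nat.card_prod, Nat.card_eq_fintype_card, Nat.card_eq_fintype_card, ← Finset.card_univ, mul_comm 2,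
        ← Finset.card_univ]
      refine (Finset.card_le_mul_card_image (f := f) Finset.univ 2 fun u hu => ?_).trans ?_
      · obtain ⟨p0, -, rfl⟩ := Finset.mem_image.1 hu
        refine (Finset.card_le_card (t := {p0, (⟨p0.1 * z, mul_mem p0.1.2 ⟨K.z_mem, mem_Cx.2 K.y_z.symm⟩⟩,
            ⟨z⁻¹ * p0.2, mul_mem (inv_mem hzQ) p0.2.2⟩)}) fun p hp => ?_).trans Finset.card_le_two
        · have e : (p.1 : G) * p.2 = p0.1 * p0.2 := congrArg Subtype.val (Finset.mem_filter.1 hp).2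
          simp only [Finset.mem_insert, Finset.mem_singleton]
          rcases hd p p0 e with h | h
          · left
            have h1 : (p.1 : G) = p0.1 := (inv_mul_eq_one.1 h).symm
            exact Prod.ext (Subtype.ext h1) (Subtype.ext (by rw [h1] at e; exact mul_left_cancel e))
          · right
            have h1 : (p.1 : G) = p0.1 * z := inv_mul_eq_iff_eq_mul.1 h
            refine Prod.ext (Subtype.ext h1) (Subtype.ext ?_)
            show (p.2 : G) = z⁻¹ * p0.2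
            rw [h1, mul_assoc] at e
            rw [eq_inv_mul_iff_mul_eq]
            exact mul_left_cancel e
      · rw [mul_comm _ 2]
        exact Nat.mul_le_mul_left 2 (Finset.card_le_univ _)
    rw [hk, hQc, hm] at hcount
    by_contra hlt
    have h1 : 2 ^ 7 ≤ 2 ^ k := Nat.pow_le_pow_right (by norm_num) (by omega)
    have h2 : 2 ^ m ≤ 2 ^ 8 := Nat.pow_le_pow_right (by norm_num) hm8
    omega
  interval_cases k <;> simp at hkodd
  · exfalso
    refine K.x_not_mem (K.self x K.x_z (Subgroup.mem_centralizer_iff.2 fun e he => ?_))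
    have hz : Subgroup.zpowers z = E := Subgroup.eq_of_le_of_card_ge (Subgroup.zpowers_le.2 K.z_mem)
      (by rw [Nat.card_zpowers, K.six.ordz, hn, show n = 1 by omega, pow_one])
    obtain ⟨i, rfl⟩ := Subgroup.mem_zpowers_iff.1 (hz ▸ he)
    exact ((show Commute x z from K.x_z).zpow_right i).eq.symm
  · exfalso
    obtain ⟨ψ, hψ⟩ := K.exists_act
    let ρ : ↥(Cx x) →* MulAut ↥E := ψ.comp (Subgroup.inclusion fun c hc => mem_Cx.2 (K.comm_z hc))
    have h1 := K.six.small_trivial hn (by omega) ρ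
    refine K.x_not_mem (K.self x K.x_z (Subgroup.mem_centralizer_iff.2 fun e he => ?_))
    have h2 := congrArg (fun f : ↥(Cx x) →* MulAut ↥E => ((f ⟨x, K.six.x_mem⟩ ⟨e, he⟩ : ↥E) : G)) h1
    simp only [ρ, MonoidHom.comp_apply, hψ, MonoidHom.one_apply, MulAut.one_apply] at h2
    exact (mul_inv_eq_iff_eq_mul.1 h2).symm
  · exact ⟨by rw [hn, show n = 13 by omega], hk⟩

end Conf

end Cfsg.Agent.Spor.JFourConv
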