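import Cfsg.Agent.Lib.Spor.JFourConv.Core

/-!
The largest normal two-subgroup of the centraliser of the involution is extraspecial.
-/

set_option autoImplicit false
set_option linter.style.haveILetI false

open Cfsg
open scoped commutatorElement

namespace Cfsg.Agent.Spor.JFourConv.Conf

variable {G : Type*} [Group G] [Finite G] {x z y o : G} {φ : ↥(Subgroup.centralizer ({x} : Set G)) →* M}
  (K : Conf x z y o φ)
include K

local notation "E" => twoCoreOfCentralizer z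

/-- A normal subgroup of the core, invariant under the centraliser, is small or a supplement of the centre. -/
theorem invariant_cases (L : Subgroup ↥E) [L.Normal]
    (hinv : ∀ c ∈ Cx x, ∀ e : ↥E, e ∈ L → ∀ f : ↥E, (f : G) = c * e * c⁻¹ → f ∈ L) :
    (∀ e ∈ L, (e : G) = 1 ∨ (e : G) = z) ∨ L ⊔ Subgroup.zpowers (⟨z, K.z_mem⟩ : ↥E) = ⊤ := by
  classical
  haveI : Fact (Nat.Prime 2) := ⟨Nat.prime_two⟩
  obtain ⟨j, hj⟩ := ((core_pgroup z).to_subgroup L).exists_card_eq
  obtain ⟨ψ, hψ⟩ := K.exists_act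
  let ρ : ↥(Cx x) →* MulAut ↥E := ψ.comp (Subgroup.inclusion fun c hc => mem_Cx.2 (K.comm_z hc))
  have hρ : ∀ c e, ((ρ c e : ↥E) : G) = (c : G) * e * (c : G)⁻¹ := fun c e => hψ _ _
  have hρL : ∀ c, ∀ e ∈ L, ρ c e ∈ L := fun c e he => hinv c c.2 e he _ (hρ c e)
  have hρLi : ∀ c, ∀ e ∈ L, (ρ c).symm e ∈ L := fun c e he => by
    have := hρL c⁻¹ e he
    rwa [map_inv] at this
  by_cases hj10 : j < 10
  · left
    intro e he
    let σ : ↥(Cx x) →* MulAut ↥L := MonoidHom.mk' (fun c =>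
      { toFun := fun e => ⟨ρ c e, hρL c e e.2⟩
        invFun := fun e => ⟨(ρ c).symm e, hρLi c e e.2⟩
        left_inv := fun e => Subtype.ext ((ρ c).symm_apply_apply _)
        right_inv := fun e => Subtype.ext ((ρ c).apply_symm_apply _)
        map_mul' := fun a b => Subtype.ext (map_mul (ρ c) _ _) }) fun a b => MulEquiv.ext fun e => Subtype.ext (by
          show ρ (a * b) e = ρ a (ρ b e)
          rw [map_mul]; rfl)
    have h1 := K.six.small_trivial hj hj10 σ
    have h2 : σ ⟨x, K.six.x_mem⟩ ⟨e, he⟩ = ⟨e, he⟩ := by rw [h1]; rfl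
    have h3 : (ρ ⟨x, K.six.x_mem⟩ e : G) = e := congrArg (fun t : ↥L => ((t : ↥E) : G)) h2
    rw [hρ] at h3
    exact K.fix_x e.2 (mul_inv_eq_iff_eq_mul.1 h3)
  right
  have hc := Subgroup.card_eq_card_quotient_mul_card_subgroup L
  rw [hj, K.cards.1] at hc
  obtain ⟨i, hi⟩ := ((core_pgroup z).to_quotient L).exists_card_eq
  rw [hi, ← pow_add] at hc
  have hi10 : i < 10 := by have := Nat.pow_right_injective le_rfl hc; omega
  have hmapeq : ∀ c, L.map (ρ c).toMonoidHom = L := fun c => le_antisymm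
    (by rintro _ ⟨e, he, rfl⟩; exact hρL c e he) (fun e he => ⟨_, hρLi c e he, (ρ c).apply_symm_apply e⟩)
  let σ : ↥(Cx x) →* MulAut (↥E ⧸ L) :=
    MonoidHom.mk' (fun c => QuotientGroup.congr L L (ρ c) (hmapeq c)) fun a b => MulEquiv.ext fun q => by
      obtain ⟨e, rfl⟩ := QuotientGroup.mk'_surjective L q
      show QuotientGroup.mk' L (ρ (a * b) e) = QuotientGroup.mk' L (ρ a (ρ b e))
      rw [map_mul]; rfl
  have h1 := K.six.small_trivial hi hi10 σ
  rw [eq_top_iff]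
  intro e _
  set a := ρ ⟨x, K.six.x_mem⟩ with ha
  have hfix : QuotientGroup.mk' L (a e) = QuotientGroup.mk' L e := by
    have := congrArg (fun f : ↥(Cx x) →* MulAut (↥E ⧸ L) => f ⟨x, K.six.x_mem⟩ (QuotientGroup.mk' L e)) h1
    exact this
  -- a fixed point in the coset
  haveI : Fact (Nat.Prime 3) := ⟨Nat.prime_three⟩
  let W := {f : ↥E // QuotientGroup.mk' L f = QuotientGroup.mk' L e}
  have haW : ∀ f : W, QuotientGroup.mk' L (a f.1) = QuotientGroup.mk' L e := fun f => by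
    have := congrArg (σ ⟨x, K.six.x_mem⟩) f.2
    exact this.trans hfix
  let τ : Function.End W := fun f => ⟨a f.1, haW f⟩
  have hτ : τ ^ 3 ^ 1 = 1 := funext fun f => Subtype.ext (Subtype.ext (by
    show ((a (a (a f.1)) : ↥E) : G) = ((f.1 : ↥E) : G)
    rw [ha, hρ, hρ, hρ]
    show x * (x * (x * ((f.1 : ↥E) : G) * x⁻¹) * x⁻¹) * x⁻¹ = _
    rw [show x * (x * (x * ((f.1 : ↥E) : G) * x⁻¹) * x⁻¹) * x⁻¹ = x ^ 3 * (f.1 : ↥E) * (x ^ 3)⁻¹ by
      simp [pow_succ, mul_assoc], K.six.x3]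
    group))
  haveI := Fintype.ofFinite W
  have hmod := Equiv.Perm.card_fixedPoints_modEq hτ
  have hW : Fintype.card W = 2 ^ j := by
    rw [← Nat.card_eq_fintype_card, ← hj]
    refine Nat.card_congr
      { toFun := fun f => ⟨e⁻¹ * f.1, QuotientGroup.eq.1 f.2.symm⟩
        invFun := fun l => ⟨e * l, by
          rw [map_mul, (QuotientGroup.eq_one_iff _).2 l.2 |> fun h => (show QuotientGroup.mk' L (l : ↥E) = 1 from h),
            mul_one]⟩
        left_inv := fun f => Subtype.ext (by simp)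
        right_inv := fun l => Subtype.ext (by simp) }
  obtain ⟨f, hf⟩ : ∃ f : W, τ f = f := by
    by_contra hcon
    simp only [not_exists] at hcon
    haveI : IsEmpty (Function.fixedPoints τ) := ⟨fun f => hcon f.1 f.2⟩
    rw [hW, Fintype.card_eq_zero] at hmod
    have h3 := Nat.modEq_zero_iff_dvd.1 hmod
    exact absurd (Nat.prime_three.dvd_of_dvd_pow h3) (by norm_num)
  have hfx : x * ((f.1 : ↥E) : G) * x⁻¹ = ((f.1 : ↥E) : G) := by
    have := congrArg (fun t : W => ((t.1 : ↥E) : G)) hf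
    exact (hρ _ _).symm.trans this
  have hfz : f.1 ∈ Subgroup.zpowers (⟨z, K.z_mem⟩ : ↥E) := by
    rcases K.fix_x f.1.2 (mul_inv_eq_iff_eq_mul.1 hfx) with h | h
    · rw [show f.1 = 1 from Subtype.ext h]; exact one_mem _
    · rw [show f.1 = ⟨z, K.z_mem⟩ from Subtype.ext h]; exact Subgroup.mem_zpowers _
  rw [show e = e * (f.1)⁻¹ * f.1 by group]
  refine Subgroup.mul_mem_sup ?_ hfz
  rw [← QuotientGroup.eq_one_iff]
  show QuotientGroup.mk' L (e * (f.1)⁻¹) = 1
  rw [map_mul, map_inv, f.2, mul_inv_cancel]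

/-- The Frattini subgroup of the core. -/
theorem frattini_le : ∀ e ∈ frattini ↥E, (e : G) = 1 ∨ (e : G) = z := by
  haveI : Fact (Nat.Prime 2) := ⟨Nat.prime_two⟩
  have hinv : ∀ c ∈ Cx x, ∀ e : ↥E, e ∈ frattini ↥E → ∀ f : ↥E, (f : G) = c * e * c⁻¹ → f ∈ frattini ↥E := by
    intro c hc e he f hf
    obtain ⟨ψ, hψ⟩ := K.exists_act
    set g := ψ ⟨c, mem_Cx.2 (K.comm_z hc)⟩ with hg
    have hgf : f = g e := Subtype.ext (hf.trans (hψ ⟨c, mem_Cx.2 (K.comm_z hc)⟩ e).symm)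
    rw [hgf]
    exact (frattini_le_comap_frattini_of_surjective (φ := g.toMonoidHom) g.surjective) he
  rcases K.invariant_cases (frattini ↥E) hinv with h | h
  · exact h
  exfalso
  have htop : Subgroup.zpowers (⟨z, K.z_mem⟩ : ↥E) = ⊤ := frattini_nongenerating (by rwa [sup_comm] at h)
  have := congrArg (fun S : Subgroup ↥E => Nat.card S) htop
  simp only [Nat.card_zpowers, Subgroup.card_top, Subgroup.orderOf_mk, K.six.ordz, K.cards.1] at this
  norm_num at this

theorem sq_cases (e : ↥E) : (e : G) * e = 1 ∨ (e : G) * e = z := by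
  haveI : Fact (Nat.Prime 2) := ⟨Nat.prime_two⟩
  have := K.frattini_le _ (Grp.pGroup_pow_mem_frattini (core_pgroup z) e)
  simpa [pow_two] using this

theorem comm_cases (a b : ↥E) : ((⁅a, b⁆ : ↥E) : G) = 1 ∨ ((⁅a, b⁆ : ↥E) : G) = z := by
  haveI : Fact (Nat.Prime 2) := ⟨Nat.prime_two⟩
  exact K.frattini_le _ (Grp.pGroup_commutator_le_frattini (core_pgroup z)
    (Subgroup.commutator_mem_commutator (Subgroup.mem_top a) (Subgroup.mem_top b)))

/-- The core is not abelian. -/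
theorem not_comm : ¬ ∀ a b : ↥E, a * b = b * a := by
  intro hab
  haveI : Fact (Nat.Prime 2) := ⟨Nat.prime_two⟩
  letI : CommGroup ↥E := { (inferInstance : Group ↥E) with mul_comm := hab }
  let sq : ↥E →* ↥E := powMonoidHom 2
  have hel : ∀ e : ↥E, e * e = 1 := by
    haveI : (sq.ker).Normal := inferInstance
    have hinv : ∀ c ∈ Cx x, ∀ e : ↥E, e ∈ sq.ker → ∀ f : ↥E, (f : G) = c * e * c⁻¹ → f ∈ sq.ker := by
      intro c _ e he f hf
      have he' : e ^ 2 = 1 := he
      show f ^ 2 = 1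
      refine Subtype.ext ?_
      rw [SubmonoidClass.coe_pow, hf, conj_pow, ← SubmonoidClass.coe_pow, he']
      simp
    rcases K.invariant_cases sq.ker hinv with h | h
    · exfalso
      have hle : sq.ker ≤ Subgroup.zpowers (⟨z, K.z_mem⟩ : ↥E) := fun e he => by
        rcases h e he with h' | h'
        · rw [show e = 1 from Subtype.ext h']; exact one_mem _
        · rw [show e = ⟨z, K.z_mem⟩ from Subtype.ext h']; exact Subgroup.mem_zpowers _
      have h1 := Subgroup.card_le_of_le hle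
      rw [Nat.card_zpowers, Subgroup.orderOf_mk, K.six.ordz] at h1
      have hr : sq.range ≤ Subgroup.zpowers (⟨z, K.z_mem⟩ : ↥E) := by
        rintro _ ⟨e, rfl⟩
        rcases K.sq_cases e with h' | h'
        · rw [show sq e = 1 from Subtype.ext (by simpa [sq, pow_two] using h')]; exact one_mem _
        · rw [show sq e = ⟨z, K.z_mem⟩ from Subtype.ext (by simpa [sq, pow_two] using h')]
          exact Subgroup.mem_zpowers _
      have h2 := Subgroup.card_le_of_le hr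
      rw [Nat.card_zpowers, Subgroup.orderOf_mk, K.six.ordz] at h2
      have h3 := sq.ker.card_mul_index
      rw [Subgroup.index_ker, K.cards.1] at h3
      have : Nat.card sq.ker * Nat.card sq.range ≤ 2 * 2 := Nat.mul_le_mul h1 h2
      rw [h3] at this
      norm_num at this
    intro e
    have hle : sq.ker ⊔ Subgroup.zpowers (⟨z, K.z_mem⟩ : ↥E) ≤ sq.ker :=
      sup_le le_rfl (Subgroup.zpowers_le.2 (Subtype.ext (by simpa [sq] using K.six.z2)))
    have he : e ^ 2 = 1 := hle (h ▸ Subgroup.mem_top e)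
    rw [← pow_two]; exact he
  obtain ⟨zy, ψ, Sy⟩ := K.exists_six_y
  have hzy' : z ∈ Cx y := mem_Cx.2 K.y_z.symm
  have hxy : x ∈ Cx y := mem_Cx.2 (mem_Cx.1 K.y_mem).symm
  let R : Subgroup ↥(Cx y) := (E ⊓ Cx y).subgroupOf (Cx y)
  have hRc : Nat.card R = 32 := by
    rw [Nat.card_congr (Subgroup.subgroupOfEquivOfLe inf_le_right).toEquiv, K.cards.2]
    norm_num
  have hψz : ψ ⟨z, hzy'⟩ ≠ 1 := fun h => by
    have hcen := fun c hc => Sy.ker_center (c := ⟨z, hzy'⟩) h c hc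
    have := Sy.normal_two (E ⊓ Cx y) ((core_pgroup z).to_le inf_le_left) inf_le_right (fun c hc n hn =>
      ⟨core_conj (hcen c hc) hn.1, (Cx y).mul_mem ((Cx y).mul_mem hc hn.2) ((Cx y).inv_mem hc)⟩)
    have hle : (E ⊓ Cx y) ≤ Subgroup.zpowers zy := fun n hn => by
      rcases this n hn with h' | h' <;> rw [h']
      exacts [one_mem _, Subgroup.mem_zpowers _]
    have h2 := Subgroup.card_le_of_le hle
    rw [K.cards.2, Nat.card_zpowers, Sy.ordz] at h2
    norm_num at h2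
  have hkerR : ∀ r ∈ R, ψ r = 1 → r = 1 := by
    intro r hr h
    obtain ⟨k, hk⟩ := core_pgroup z ⟨(r : G), hr.1⟩
    rcases Sy.ker_two h ⟨k, congrArg Subtype.val hk⟩ with h' | h'
    · exact Subtype.ext h'
    rcases K.fix_x (hr.1 : (r : G) ∈ E) (Sy.ker_center h x hxy) with h'' | h''
    · exact Subtype.ext h''
    · exact absurd (show r = ⟨z, hzy'⟩ from Subtype.ext h'') fun e => hψz (e ▸ h)
  have hψx : orderOf (ψ ⟨x, hxy⟩) = 3 := Sy.img_three K.six.x3 fun hxz => by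
    refine K.y_nc ?_
    have hz : Subgroup.zpowers x = Subgroup.zpowers y := Subgroup.eq_of_le_of_card_ge (Subgroup.zpowers_le.2 hxz)
      (by rw [Nat.card_zpowers, Nat.card_zpowers, K.six.ordx, K.y3])
    exact hz ▸ Subgroup.mem_zpowers y
  have hψz2 : orderOf (ψ ⟨z, hzy'⟩) = 2 := orderOf_eq_prime
    (by rw [← map_pow, show (⟨z, hzy'⟩ : ↥(Cx y)) ^ 2 = 1 from Subtype.ext K.six.z2, map_one]) hψz
  have hxR : ∀ r ∈ R, (⟨x, hxy⟩ : ↥(Cx y)) * r * (⟨x, hxy⟩ : ↥(Cx y))⁻¹ ∈ R := fun r hr =>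
    ⟨core_conj K.x_z hr.1, ((⟨x, hxy⟩ : ↥(Cx y)) * r * (⟨x, hxy⟩ : ↥(Cx y))⁻¹).2⟩
  have habR : ∀ a ∈ R, ∀ b ∈ R, a * b = b * a := fun a ha b hb =>
    Subtype.ext (congrArg Subtype.val (hab ⟨(a : G), ha.1⟩ ⟨(b : G), hb.1⟩) :)
  have hle8 : Nat.card ↥(R.map ψ) ≤ 8 := by
    refine no_thirtytwo hψx hψz2 (R.map ψ) ⟨⟨z, hzy'⟩, ⟨K.z_mem, hzy'⟩, rfl⟩
      (by rw [← map_mul, ← map_mul]; exact congrArg ψ (Subtype.ext K.x_z)) ?_ ?_ ?_ ?_
    · rintro _ ⟨a, ha, rfl⟩ _ ⟨b, hb, rfl⟩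
      rw [← map_mul, habR a ha b hb, map_mul]
    · rintro _ ⟨a, ha, rfl⟩
      rw [← map_mul, show a * a = 1 from Subtype.ext (congrArg Subtype.val (hel ⟨(a : G), ha.1⟩) :), map_one]
    · rintro _ ⟨a, ha, rfl⟩
      exact ⟨_, hxR a ha, by rw [map_mul, map_mul, map_inv]⟩
    · rintro _ ⟨a, ha, rfl⟩ he
      have hk1 : (⟨x, hxy⟩ : ↥(Cx y)) * a * (⟨x, hxy⟩ : ↥(Cx y))⁻¹ * a⁻¹ = 1 := by
        refine hkerR _ (mul_mem (hxR a ha) (inv_mem ha)) ?_
        rw [map_mul, map_mul, map_mul, map_inv, map_inv, he, mul_inv_cancel_right, mul_inv_cancel]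
      rw [mul_inv_eq_one, mul_inv_eq_iff_eq_mul] at hk1
      rcases K.fix_x (ha.1 : (a : G) ∈ E) (congrArg Subtype.val hk1) with h' | h'
      · exact Or.inl (by rw [show a = 1 from Subtype.ext h', map_one])
      · exact Or.inr (by rw [show a = ⟨z, hzy'⟩ from Subtype.ext h'])
  have hinj : Nat.card R ≤ Nat.card ↥(R.map ψ) := by
    refine Nat.card_le_card_of_injective (fun r => ⟨ψ r, Subgroup.mem_map_of_mem ψ r.2⟩) fun a b e => ?_
    have e' : ψ (a : ↥(Cx y)) = ψ (b : ↥(Cx y)) := congrArg Subtype.val e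
    refine Subtype.ext (mul_inv_eq_one.1 (hkerR _ (mul_mem a.2 (inv_mem b.2)) ?_))
    rw [map_mul, map_inv, e', mul_inv_cancel]
  omega

theorem center_cases {e : ↥E} (he : e ∈ Subgroup.center ↥E) : (e : G) = 1 ∨ (e : G) = z := by
  have hinv : ∀ c ∈ Cx x, ∀ e : ↥E, e ∈ Subgroup.center ↥E → ∀ f : ↥E, (f : G) = c * e * c⁻¹ →
      f ∈ Subgroup.center ↥E := by
    intro c hc e he f hf
    obtain ⟨ψ, hψ⟩ := K.exists_act
    set g := ψ ⟨c, mem_Cx.2 (K.comm_z hc)⟩ with hg
    rw [show f = g e from Subtype.ext (hf.trans (hψ ⟨c, mem_Cx.2 (K.comm_z hc)⟩ e).symm)]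
    refine Subgroup.mem_center_iff.2 fun u => ?_
    rw [← g.apply_symm_apply u, ← map_mul, ← map_mul, Subgroup.mem_center_iff.1 he]
  rcases K.invariant_cases (Subgroup.center ↥E) hinv with h | h
  · exact h e he
  exfalso
  refine K.not_comm fun a b => ?_
  have hle : Subgroup.center ↥E ⊔ Subgroup.zpowers (⟨z, K.z_mem⟩ : ↥E) ≤ Subgroup.center ↥E :=
    sup_le le_rfl (Subgroup.zpowers_le.2 (Subgroup.mem_center_iff.2 fun u =>
      Subtype.ext (mem_Cx.1 (core_le z u.2))))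
  exact (Subgroup.mem_center_iff.1 (hle (h ▸ Subgroup.mem_top b)) a)

theorem extraspecial : IsExtraspecial 2 ↥E := by
  haveI : Fact (Nat.Prime 2) := ⟨Nat.prime_two⟩
  set zE : ↥E := ⟨z, K.z_mem⟩
  have hzc : zE ∈ Subgroup.center ↥E := Subgroup.mem_center_iff.2 fun u => Subtype.ext (mem_Cx.1 (core_le z u.2))
  have hc : Subgroup.center ↥E = Subgroup.zpowers zE := le_antisymm (fun e he => by
    rcases K.center_cases he with h | h
    · rw [show e = 1 from Subtype.ext h]; exact one_mem _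
    · rw [show e = zE from Subtype.ext h]; exact Subgroup.mem_zpowers _) (Subgroup.zpowers_le.2 hzc)
  obtain ⟨a, b, hne⟩ : ∃ a b : ↥E, a * b ≠ b * a := by
    by_contra h
    simp only [not_exists, not_not] at h
    exact K.not_comm h
  have hzcomm : zE ∈ commutator ↥E := by
    rcases K.comm_cases a b with h | h
    · exact absurd (commutatorElement_eq_one_iff_mul_comm.1 (Subtype.ext h)) hne
    · rw [show zE = ⁅a, b⁆ from Subtype.ext h.symm]
      exact Subgroup.commutator_mem_commutator (Subgroup.mem_top a) (Subgroup.mem_top b)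
  have hle1 : commutator ↥E ≤ frattini ↥E := Grp.pGroup_commutator_le_frattini (core_pgroup z)
  have hle2 : frattini ↥E ≤ Subgroup.zpowers zE := fun e he => by
    rcases K.frattini_le e he with h | h
    · rw [show e = 1 from Subtype.ext h]; exact one_mem _
    · rw [show e = zE from Subtype.ext h]; exact Subgroup.mem_zpowers _
  have hle3 : Subgroup.zpowers zE ≤ commutator ↥E := Subgroup.zpowers_le.2 hzcomm
  refine ⟨⟨core_pgroup z, ?_, ?_⟩, ?_⟩
  · rw [hc]; exact le_antisymm hle2 (hle3.trans hle1)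
  · rw [hc]; exact le_antisymm (hle1.trans hle2) hle3
  · rw [hc, Nat.card_zpowers, Subgroup.orderOf_mk, K.six.ordz]

end Cfsg.Agent.Spor.JFourConv.Conf
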