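import Cfsg.Agent.Lib.Spor.JFourType.Bridge.Module

/-!
Two elements of order three without fixed vectors commuting with an element of order seven or eleven on a
space of dimension twelve.
-/

set_option autoImplicit false
set_option linter.style.haveILetI false

open Cfsg.Agent.Spor.JFour.Bridge

namespace Cfsg.Agent.Spor.JFourConv

variable {V : Type*} [AddCommGroup V] [Module (ZMod 2) V] [Finite V]

omit [Finite V] in
theorem quad_rel {a : Module.End (ZMod 2) V} (ha : a ^ 3 = 1) (hfix : ∀ v, a v = v → v = 0) (v : V) :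
    a (a v) = a v + v := by
  have h3 : a (a (a v)) = v := by
    rw [← Module.End.mul_apply, ← Module.End.mul_apply, ← pow_three', ha]
    rfl
  have h0 : a (a v) + (a v + v) = 0 := hfix _ (by rw [map_add, map_add, h3]; abel)
  rw [← sub_eq_zero, ZModModule.sub_eq_add]
  exact h0

/-- Order eleven. -/
theorem eleven_comm (hV : Module.finrank (ZMod 2) V = 12) {a a' u : Module.End (ZMod 2) V} (ha : a ^ 3 = 1)
    (ha' : a' ^ 3 = 1) (hu : u ^ 11 = 1) (hu1 : u ≠ 1) (hau : a * u = u * a) (ha'u : a' * u = u * a')
    (hfa : ∀ v, a v = v → v = 0) (hfa' : ∀ v, a' v = v → v = 0) : a * a' = a' * a := by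
  classical
  haveI : Module.Finite (ZMod 2) V := Module.Finite.of_finite
  set P : Module.End (ZMod 2) V := ∑ i ∈ Finset.range 11, u ^ i with hP
  have huP : u * P = P := by
    rw [hP, Finset.mul_sum]
    have h1 : ∑ i ∈ Finset.range 11, u * u ^ i + u ^ 0 = ∑ i ∈ Finset.range 11, u ^ i + u ^ 11 := by
      rw [← Finset.sum_range_succ (fun i => u ^ i) 11, Finset.sum_range_succ' (fun i => u ^ i) 11]
      simp [pow_succ']
    rw [hu, pow_zero] at h1
    exact add_right_cancel h1
  have hPfix : ∀ v, u v = v → P v = v := fun v hv => by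
    have hp : ∀ i : ℕ, (u ^ i) v = v := fun i => by
      induction i with
      | zero => rfl
      | succ n ih => rw [pow_succ, Module.End.mul_apply, hv, ih]
    simp only [hP, LinearMap.sum_apply, hp, Finset.sum_const, Finset.card_range]
    rw [show (11 : ℕ) • v = ((11 : ℕ) : ZMod 2) • v from (Nat.cast_smul_eq_nsmul _ _ _).symm,
      show ((11 : ℕ) : ZMod 2) = 1 from rfl, one_smul]
  have hcomm : ∀ {b : Module.End (ZMod 2) V}, b * u = u * b → Commute b P := fun {b} hb =>
    Commute.sum_right _ _ _ fun i _ => (show Commute b u from hb).pow_right i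
  set K1 := LinearMap.ker P with hK1
  set K0 := LinearMap.ker (u - 1) with hK0
  have hmem0 : ∀ v, v ∈ K0 ↔ u v = v := fun v => by simp [hK0, sub_eq_zero]
  have hPmem : ∀ v, P v ∈ K0 := fun v => (hmem0 _).2 (by rw [← Module.End.mul_apply, huP])
  have hQmem : ∀ v, v - P v ∈ K1 := fun v => by
    rw [hK1, LinearMap.mem_ker, map_sub, hPfix (P v) ((hmem0 _).1 (hPmem v)), sub_self]
  have hinf : K0 ⊓ K1 = ⊥ := by
    rw [eq_bot_iff]
    rintro v ⟨h0, h1⟩
    rw [Submodule.mem_bot, ← hPfix v ((hmem0 v).1 h0)]
    exact LinearMap.mem_ker.1 h1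
  have hinv1 : ∀ {b : Module.End (ZMod 2) V}, b * u = u * b → ∀ v ∈ K1, b v ∈ K1 := fun {b} hb v hv => by
    rw [hK1, LinearMap.mem_ker, ← Module.End.mul_apply, ← (hcomm hb).eq, Module.End.mul_apply,
      LinearMap.mem_ker.1 hv, map_zero]
  have hinv0 : ∀ {b : Module.End (ZMod 2) V}, b * u = u * b → ∀ v ∈ K0, b v ∈ K0 := fun {b} hb v hv => by
    rw [hmem0] at hv ⊢
    rw [← Module.End.mul_apply, ← hb, Module.End.mul_apply, hv]
  have htop : K0 ⊔ K1 = ⊤ := by
    rw [eq_top_iff]
    intro v _
    have := Submodule.add_mem_sup (hPmem v) (hQmem v)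
    rwa [add_sub_cancel] at this
  have hdim := Submodule.finrank_sup_add_finrank_inf_eq K0 K1
  rw [htop, hinf, finrank_top, finrank_bot, hV, add_zero] at hdim
  have hfix1 : ∀ v ∈ K1, u v = v → v = 0 := fun v hv h => by
    rw [← hPfix v h]; exact LinearMap.mem_ker.1 hv
  have h10 := ten_dvd K1 u hu (hinv1 rfl) hfix1
  have hne : Module.finrank (ZMod 2) K1 ≠ 0 := fun h => hu1 (LinearMap.ext fun v => by
    have hb : K1 = ⊥ := Submodule.finrank_eq_zero.1 h
    rw [hb, sup_bot_eq] at htop
    exact (hmem0 v).1 (htop ▸ Submodule.mem_top))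
  have hd1 : Module.finrank (ZMod 2) K1 = 10 := by omega
  have hd0 : Module.finrank (ZMod 2) K0 = 2 := by omega
  -- on the fixed plane
  have hp0 : ∀ v ∈ K0, a (a' v) = a' (a v) := by
    intro v hv
    by_cases hv0 : v = 0
    · subst hv0; simp
    have hcard : Nat.card K0 = 4 := by rw [card_pow, hd0]; norm_num
    set w := a v with hw
    have hwK : w ∈ K0 := hinv0 hau v hv
    have hwv : w ≠ v := fun h => hv0 (hfa v h)
    have hw0 : w ≠ 0 := fun h => hv0 (hfa v (by
      have h3 := quad_rel ha hfa v
      rw [← hw, h, map_zero, zero_add] at h3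
      rw [← hw, h, h3]))
    have hall : ∀ t ∈ K0, t = 0 ∨ t = v ∨ t = w ∨ t = w + v := by
      intro t ht
      let S : Finset V := {0, v, w, w + v}
      have hS : S.card = 4 := by
        have h1 : w + v ≠ 0 := fun h => hwv (by rwa [← ZModModule.sub_eq_add, sub_eq_zero] at h)
        simp only [S]
        rw [Finset.card_insert_of_notMem, Finset.card_insert_of_notMem, Finset.card_pair]
        · exact fun h => hv0 (by simpa using h)
        · simp only [Finset.mem_insert, Finset.mem_singleton, not_or]
          exact ⟨Ne.symm hwv, fun h => hw0 (by simpa using h)⟩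
        · simp only [Finset.mem_insert, Finset.mem_singleton, not_or]
          exact ⟨Ne.symm hv0, Ne.symm hw0, Ne.symm h1⟩
      by_contra hcon
      have hsub : (insert t S : Finset V) ⊆ (K0 : Set V).toFinite.toFinset := by
        intro s hs
        rw [Set.Finite.mem_toFinset]
        simp only [S, Finset.mem_insert, Finset.mem_singleton] at hs
        rcases hs with rfl | rfl | rfl | rfl | rfl
        exacts [ht, K0.zero_mem, hv, hwK, K0.add_mem hwK hv]
      have h5 := Finset.card_le_card hsub
      rw [Finset.card_insert_of_notMem (by simpa [S] using hcon), hS,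
        ← Nat.card_eq_card_finite_toFinset] at h5
      change 4 + 1 ≤ Nat.card K0 at h5
      omega
    have hv' : a' v ∈ K0 := hinv0 ha'u v hv
    have q1 := quad_rel ha hfa v
    have q2 := quad_rel ha' hfa' v
    rw [← hw] at q1
    rcases hall _ hv' with h | h | h | h
    · exact absurd (hfa' v (by rw [h, map_zero, zero_add] at q2; rw [h]; exact q2)) hv0
    · exact absurd (hfa' v h) hv0
    · rw [h] at q2
      rw [h, q1, q2]
    · rw [h, map_add, q1]
      rw [h, map_add, h] at q2
      have e : a' w = v := by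
        rw [eq_comm]
        have := q2
        have h2 : ∀ s : V, s + s = 0 := ZModModule.add_self
        calc v = (w + v + v) + (w + v) := by
              rw [add_assoc w v v, h2, add_zero, ← add_assoc, h2, zero_add]
          _ = (a' w + (w + v)) + (w + v) := by rw [← this]
          _ = a' w := by rw [add_assoc, h2, add_zero]
      rw [e, show w + v + w = v by rw [add_comm w v, add_assoc, ZModModule.add_self, add_zero]]
  -- on the ten-dimensional part
  have hp1 : ∀ v ∈ K1, a (a' v) = a' (a v) := by
    intro v hv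
    by_cases hv0 : v = 0
    · subst hv0; simp
    set S : Submodule (ZMod 2) V := Submodule.span (ZMod 2) (Set.range fun i : ℕ => (u ^ i) v) with hS
    have hSK : S ≤ K1 := Submodule.span_le.2 (by
      rintro _ ⟨i, rfl⟩
      induction i with
      | zero => exact hv
      | succ n ih =>
        rw [SetLike.mem_coe]
        show (u ^ (n + 1)) v ∈ K1
        rw [pow_succ', Module.End.mul_apply]
        exact hinv1 rfl _ ih)
    have hSu : ∀ s ∈ S, u s ∈ S := fun s hs => by
      refine (Submodule.span_le.2 ?_ : S ≤ S.comap u) hs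
      rintro _ ⟨i, rfl⟩
      refine Submodule.subset_span ⟨i + 1, ?_⟩
      show (u ^ (i + 1)) v = u ((u ^ i) v)
      rw [pow_succ']; rfl
    have hS10 := ten_dvd S u hu hSu fun s hs => hfix1 s (hSK hs)
    have hSpos : Module.finrank (ZMod 2) S ≠ 0 := fun h => hv0 (by
      have hb : S = ⊥ := Submodule.finrank_eq_zero.1 h
      exact (Submodule.mem_bot (R := ZMod 2)).1 (hb ▸ Submodule.subset_span ⟨0, rfl⟩))
    have hSeq : S = K1 := Submodule.eq_of_le_of_finrank_le hSK (by omega)
    have hcom : ∀ {b : Module.End (ZMod 2) V}, b * u = u * b → ∀ (i : ℕ) t, b ((u ^ i) t) = (u ^ i) (b t) :=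
      fun {b} hb i t => by
        rw [← Module.End.mul_apply, ((show Commute b u from hb).pow_right i).eq, Module.End.mul_apply]
    have hav : a v ∈ S := hSeq ▸ hinv1 hau v hv
    have ha'v : a' v ∈ S := hSeq ▸ hinv1 ha'u v hv
    -- both are polynomials in u at v
    obtain ⟨l, hl⟩ := (Finsupp.mem_span_range_iff_exists_finsupp).1 hav
    obtain ⟨m, hm⟩ := (Finsupp.mem_span_range_iff_exists_finsupp).1 ha'v
    have e1 : a (a' v) = ∑ i ∈ m.support, m i • (u ^ i) (∑ j ∈ l.support, l j • (u ^ j) v) := by
      conv_lhs => rw [← hm]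
      rw [Finsupp.sum, map_sum]
      refine Finset.sum_congr rfl fun i _ => ?_
      rw [map_smul, hcom hau, show a v = ∑ j ∈ l.support, l j • (u ^ j) v from hl.symm]
    have e2 : a' (a v) = ∑ j ∈ l.support, l j • (u ^ j) (∑ i ∈ m.support, m i • (u ^ i) v) := by
      conv_lhs => rw [← hl]
      rw [Finsupp.sum, map_sum]
      refine Finset.sum_congr rfl fun i _ => ?_
      rw [map_smul, hcom ha'u, show a' v = ∑ j ∈ m.support, m j • (u ^ j) v from hm.symm]
    rw [e1, e2]
    simp only [map_sum, map_smul, Finset.smul_sum]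
    rw [Finset.sum_comm]
    refine Finset.sum_congr rfl fun j _ => Finset.sum_congr rfl fun i _ => ?_
    rw [smul_comm, ← Module.End.mul_apply, ← Module.End.mul_apply, ← pow_add, ← pow_add, add_comm i j]
  refine LinearMap.ext fun v => ?_
  obtain ⟨p, hp, q, hq, rfl⟩ := Submodule.mem_sup.1 (htop ▸ Submodule.mem_top : v ∈ K0 ⊔ K1)
  rw [Module.End.mul_apply, Module.End.mul_apply, map_add, map_add, map_add, map_add, hp0 p hp, hp1 q hq]

end Cfsg.Agent.Spor.JFourConv
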