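import Cfsg.Agent.Lib.Spor.JFourConv.Extra
import Cfsg.Agent.Lib.Spor.ExtraspecialOut
import Cfsg.Agent.Lib.Classical.OrthCount
import Cfsg.Agent.Lib.Classical.OrthPlusForms
import Cfsg.Agent.Lib.Spor.JFourType.Bridge.Module

/-!
The quadratic space on the core modulo its centre.
-/

set_option autoImplicit false
set_option linter.style.haveILetI false

open Cfsg
open Cfsg.Agent.Spor (ExtraOut.exists_data)

namespace Cfsg.Agent.Spor.JFourConv

/-- The twelve-dimensional space. -/
abbrev Vec : Type := Fin 12 → ZMod 2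

variable {G : Type*} [Group G]

/-- The representation of the centraliser of `z`. -/
structure Rep (z : G) (q : QuadraticForm (ZMod 2) Vec) (act : ↥(Cx z) →* Module.End (ZMod 2) Vec) : Prop where
  nd : (QuadraticMap.polarBilin q).Nondegenerate
  isom : ∀ c v, q (act c v) = q v
  ker : ∀ c, act c = 1 ↔ (c : G) ∈ twoCoreOfCentralizer z
  lift : ∀ v : Vec, v ≠ 0 → ∀ c : ↥(Cx z), orderOf c = 3 → act c v = v →
    ∃ e ∈ twoCoreOfCentralizer z, e ≠ 1 ∧ e ≠ z ∧ (c : G) * e = e * c
  order : ∃ R : ↥(Cx z) →* ↥(isometryGroup (ZMod 2) (⇑q)), ∀ c, R c = 1 ↔ (c : G) ∈ twoCoreOfCentralizer z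

theorem exists_rep [Finite G] {z : G} (hext : IsExtraspecial 2 ↥(twoCoreOfCentralizer z))
    (hcard : Nat.card ↥(twoCoreOfCentralizer z) = 2 ^ 13) (hz : orderOf z = 2)
    (hself : ∀ c : G, c * z = z * c → c ∈ Subgroup.centralizer (twoCoreOfCentralizer z : Set G) →
      c ∈ twoCoreOfCentralizer z) :
    ∃ q act, Rep z q act := by
  classical
  obtain ⟨ze, π, q, d⟩ := ExtraOut.exists_data (ι := Fin 12) hext (by rw [hcard, Fintype.card_fin]; norm_num)
  obtain ⟨ψ, hψ⟩ : ∃ ψ : ↥(Cx z) →* MulAut ↥(twoCoreOfCentralizer z), ∀ c e, ((ψ c e : ↥(twoCoreOfCentralizer z)) : G) = (c : G) * e * (c : G)⁻¹ :=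
    ⟨MonoidHom.mk' (fun c =>
      { toFun := fun e => ⟨(c : G) * e * (c : G)⁻¹, core_conj (mem_Cx.1 c.2) e.2⟩
        invFun := fun e => ⟨(c : G)⁻¹ * e * (c : G), by
          simpa using core_conj (mem_Cx.1 (c⁻¹ : ↥(Cx z)).2) e.2⟩
        left_inv := fun e => Subtype.ext (by simp [mul_assoc])
        right_inv := fun e => Subtype.ext (by simp [mul_assoc])
        map_mul' := fun a b => Subtype.ext (by simp [mul_assoc]) }) fun a b => MulEquiv.ext fun e => Subtype.ext (by
          simp [MulAut.mul_apply, mul_assoc]), fun c e => rfl⟩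
  let act : ↥(Cx z) →* Module.End (ZMod 2) Vec :=
    { toFun := fun c => ExtraOut.ind d (ψ c)
      map_one' := by rw [map_one, ExtraOut.ind_one]; rfl
      map_mul' := fun a b => by rw [map_mul, ExtraOut.ind_mul]; rfl }
  let R : ↥(Cx z) →* ↥(isometryGroup (ZMod 2) (⇑q)) := (ExtraOut.toIso d).comp ψ
  have hR : ∀ c, R c = 1 ↔ (c : G) ∈ (twoCoreOfCentralizer z) := fun c => by
    have hk : R c = 1 ↔ ψ c ∈ (MulAut.conj : ↥(twoCoreOfCentralizer z) →* MulAut ↥(twoCoreOfCentralizer z)).range := by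
      show ψ c ∈ (ExtraOut.toIso d).ker ↔ _
      rw [ExtraOut.toIso_ker d]
    rw [hk]
    constructor
    · rintro ⟨a, ha⟩
      have hc : (a : G)⁻¹ * c ∈ (twoCoreOfCentralizer z) := hself _ (by
          rw [mul_assoc, mem_Cx.1 c.2, ← mul_assoc, ← mul_assoc]
          congr 1
          exact mem_Cx.1 ((Cx z).inv_mem (core_le z a.2)))
        (Subgroup.mem_centralizer_iff.2 fun e he => by
          have h := congrArg (fun f : MulAut ↥(twoCoreOfCentralizer z) => ((f ⟨e, he⟩ : ↥(twoCoreOfCentralizer z)) : G)) ha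
          simp only [MulAut.conj_apply, Subgroup.coe_mul, Subgroup.coe_inv, hψ] at h
          calc e * ((a : G)⁻¹ * c) = (a : G)⁻¹ * ((a : G) * e * (a : G)⁻¹) * c := by group
            _ = (a : G)⁻¹ * ((c : G) * e * (c : G)⁻¹) * c := by rw [h]
            _ = _ := by group)
      have := mul_mem a.2 hc
      rwa [mul_inv_cancel_left] at this
    · intro hc
      exact ⟨⟨c, hc⟩, MulEquiv.ext fun e => Subtype.ext (hψ c e).symm⟩
  have hactR : ∀ c, act c = 1 ↔ R c = 1 := fun c => by
    constructor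
    · intro h
      refine Subtype.ext (Units.ext ?_)
      show LinearMap.toMatrix' (ExtraOut.ind d (ψ c)) = 1
      rw [show ExtraOut.ind d (ψ c) = LinearMap.id from h, LinearMap.toMatrix'_id]
    · intro h
      have := congrArg (fun g : ↥(isometryGroup (ZMod 2) (⇑q)) => (g : GL (Fin 12) (ZMod 2)).val) h
      exact LinearMap.toMatrix'.injective (this.trans LinearMap.toMatrix'_id.symm)
  refine ⟨q, act, d.nd, fun c v => ExtraOut.ind_quad d (ψ c) v, fun c => (hactR c).trans (hR c),
    fun v hv c hc hfix => ?_, R, hR⟩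
  obtain ⟨e, he⟩ := d.surj (Multiplicative.ofAdd v)
  have hze : (ze : G) = z := by
    have hzc : (⟨z, z_mem_core hz⟩ : ↥(twoCoreOfCentralizer z)) ∈ Subgroup.center ↥(twoCoreOfCentralizer z) :=
      Subgroup.mem_center_iff.2 fun u => Subtype.ext (mem_Cx.1 (core_le z u.2))
    have hzec : ze ∈ Subgroup.center ↥(twoCoreOfCentralizer z) := Subgroup.mem_center_iff.2 d.comm
    have h2 := hext.2
    by_contra hne
    have : 3 ≤ Nat.card (Subgroup.center ↥(twoCoreOfCentralizer z)) := by
      let f : Fin 3 → Subgroup.center ↥(twoCoreOfCentralizer z) := ![1, ⟨_, hzec⟩, ⟨_, hzc⟩]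
      have hf : Function.Injective f := by
        intro i j hij
        have hval := congrArg (fun t : Subgroup.center ↥(twoCoreOfCentralizer z) => ((t : ↥(twoCoreOfCentralizer z)) : G)) hij
        have h1 : (ze : G) ≠ 1 := fun h => d.ne (Subtype.ext h)
        have h3 : z ≠ 1 := fun h => by rw [h, orderOf_one] at hz; omega
        fin_cases i <;> fin_cases j <;>
          first
            | rfl
            | (exfalso; simp [f] at hval; first | exact d.ne hval | exact d.ne hval.symm | exact h1 hval | exact h1 hval.symm | exact h3 hval | exact h3 hval.symm | exact hne hval | exact hne hval.symm)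
      simpa using Nat.card_le_card_of_injective f hf
    omega
  have hev : (π e).toAdd = v := by rw [he, toAdd_ofAdd]
  refine ⟨e, e.2, fun h => hv ?_, fun h => hv ?_, ?_⟩
  · rw [← hev, show e = 1 from Subtype.ext h, map_one, toAdd_one]
  · rw [← hev, show e = ze from Subtype.ext (h.trans hze.symm), (d.ker ze).2 (Or.inr rfl), toAdd_one]
  have hπ : π (ψ c e) = π e := by
    have h := ExtraOut.ind_apply d (ψ c) e
    rw [hev, show ExtraOut.ind d (ψ c) v = act c v from rfl, hfix, ← hev] at h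
    exact (Multiplicative.toAdd.injective h).symm
  rcases ExtraOut.mem_ker_cases d hπ with h | h
  · exact mul_inv_eq_iff_eq_mul.1 ((hψ c e).symm.trans (congrArg Subtype.val h))
  · exfalso
    have h3 : (ψ c ^ 3) e = e := by rw [← map_pow, ← hc, pow_orderOf_eq_one, map_one]; rfl
    rw [pow_three', MulAut.mul_apply, MulAut.mul_apply, h, map_mul, h, ExtraOut.fix_z d, map_mul, map_mul,
      ExtraOut.fix_z d, h, mul_assoc, d.zz, mul_one] at h3
    exact d.ne (mul_left_cancel (h3.trans (mul_one e).symm))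

namespace Rep

variable [Finite G] {z : G} {q : QuadraticForm (ZMod 2) Vec} {act : ↥(Cx z) →* Module.End (ZMod 2) Vec}
  (R : Rep z q act)
include R

theorem polar (c : ↥(Cx z)) (u v : Vec) :
    QuadraticMap.polarBilin q (act c u) (act c v) = QuadraticMap.polarBilin q u v := by
  simp only [QuadraticMap.polarBilin_apply_apply, QuadraticMap.polar]
  rw [← map_add (act c) u v, R.isom, R.isom, R.isom]

theorem inj (c : ↥(Cx z)) : Function.Injective (act c) := fun u v e => by
  have h := congrArg (act c⁻¹) e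
  rwa [← Module.End.mul_apply, ← Module.End.mul_apply, ← map_mul, inv_mul_cancel, map_one] at h

omit [Finite G] in
/-- The form has plus type as soon as an element of order three acts without fixed vectors. -/
theorem exists_plus {c : ↥(Cx z)} (h3 : (act c) ^ 3 = 1) (hfix : ∀ v, act c v = v → v = 0) :
    ∃ e : (Fin 6 ⊕ Fin 6 → ZMod 2) ≃ₗ[ZMod 2] Vec, ∀ v, q (e v) = Classical.qfPlus 6 (ZMod 2) v := by
  classical
  by_cases hU : ∃ U, Classical.OrthAut.Half q U
  · obtain ⟨U, hU⟩ := hU
    exact Classical.OrthAut.plus_of_half (by norm_num) (by simp) R.nd hU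
  exfalso
  haveI : Fact (Nat.Prime 3) := ⟨Nat.prime_three⟩
  -- compare the numbers of singular vectors
  let e12 : ((Fin 5 ⊕ Fin 5) ⊕ Fin 2) ≃ Fin 12 := Fintype.equivFinOfCardEq (by simp)
  let L : Vec ≃ₗ[ZMod 2] (((Fin 5 ⊕ Fin 5) ⊕ Fin 2) → ZMod 2) := LinearEquiv.funCongrLeft (ZMod 2) (ZMod 2) e12
  have hab : Classical.OrthAut.Aniso (ZMod 2) (1 : ZMod 2) 1 := by
    unfold Classical.OrthAut.Aniso; decide
  set q' := q.comp L.symm.toLinearMap with hq'
  obtain ⟨g, hg⟩ := Classical.OrthAut.iso_of_not_half (k := 5) (by simp)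
    (Classical.qfMinus 5 (ZMod 2) 1 1) q' (Classical.nondegenerate_qfMinus _ hab)
    (Classical.OrthAut.comp_nondegenerate L.symm R.nd)
    (Classical.OrthAut.not_half_qfMinus hab)
    fun ⟨U, hU'⟩ => hU (Classical.OrthAut.half_comp (Q := q') (Q' := q) L one_ne_zero
      (fun v => by simp [hq']) hU')
  have hz2 : Nat.card {v : Vec // q v = 0} = 2016 := by
    have h := Classical.zeros_qfMinus (F := ZMod 2) 5 hab
    rw [ZMod.card] at h
    have he : Nat.card {v : Vec // q v = 0} =
        Nat.card {v // Classical.qfMinus 5 (ZMod 2) 1 1 v = 0} := by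
      refine (Classical.zeros_congr ((Matrix.GeneralLinearGroup.toLin g).toLinearEquiv.trans L.symm) (fun v => ?_) 0).symm
      rw [← hg v]
      rfl
    rw [he]
    have h' : ((Nat.card {v // Classical.qfMinus 5 (ZMod 2) 1 1 v = 0} : ℕ) : ℤ) = 2016 := h.trans (by norm_num)
    exact_mod_cast h'
  let σ : Function.End {v : Vec // q v = 0} := fun v => ⟨act c v.1, by rw [R.isom]; exact v.2⟩
  have hσ : σ ^ 3 ^ 1 = 1 := funext fun v => Subtype.ext (by
    show act c (act c (act c v.1)) = v.1
    rw [← Module.End.mul_apply, ← Module.End.mul_apply, ← pow_three', h3]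
    rfl)
  haveI := Fintype.ofFinite {v : Vec // q v = 0}
  have hm := Equiv.Perm.card_fixedPoints_modEq hσ
  have hone : Nat.card (Function.fixedPoints σ) = 1 := Nat.card_eq_one_iff_unique.2
    ⟨⟨fun a b => Subtype.ext (Subtype.ext ((hfix _ (congrArg Subtype.val a.2)).trans
      (hfix _ (congrArg Subtype.val b.2)).symm))⟩, ⟨⟨⟨0, QuadraticMap.map_zero q⟩, Subtype.ext (map_zero _)⟩⟩⟩
  rw [← Nat.card_eq_fintype_card, ← Nat.card_eq_fintype_card, hone, hz2] at hm
  exact absurd hm (by decide)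

/-- The image divides the order of the orthogonal group of plus type. -/
theorem card_dvd {c : ↥(Cx z)} (h3 : (act c) ^ 3 = 1) (hfix : ∀ v, act c v = v → v = 0) {f : ℕ}
    (hE : ∀ R' : ↥(Cx z) →* ↥(isometryGroup (ZMod 2) (⇑q)),
      (∀ c, R' c = 1 ↔ (c : G) ∈ twoCoreOfCentralizer z) → Nat.card R'.range = f) :
    f ∣ 2 * 2 ^ 30 * 63 * (3 * 15 * 63 * 255 * 1023) := by
  obtain ⟨R', hR'⟩ := R.order
  rw [← hE R' hR']
  refine dvd_trans (Subgroup.card_subgroup_dvd_card _) ?_
  obtain ⟨e, he⟩ := R.exists_plus h3 hfix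
  rw [Classical.natCard_isometryGroup q, ← Classical.isoCard_congr e he]
  have h := Classical.order_qfPlus (F := ZMod 2) 5
  rw [ZMod.card] at h
  norm_num [Finset.prod_range_succ] at h
  have h' : Classical.isoCard (Classical.qfPlus 6 (ZMod 2)) = 2 * 2 ^ 30 * 63 * (3 * 15 * 63 * 255 * 1023) := by
    norm_num
    exact_mod_cast h
  rw [h']

end Rep

end Cfsg.Agent.Spor.JFourConv
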