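import Cfsg.Agent.Lib.Spor.JFourType.Bridge.Module

/-!
Two isometries of order three without fixed vectors commuting with an isometry of order seven on a space of
dimension twelve commute, or a product of them has order nine.
-/

set_option autoImplicit false
set_option linter.style.haveILetI false

open Cfsg.Agent.Spor.JFour.Bridge

namespace Cfsg.Agent.Spor.JFourConv

namespace Code

/-- A matrix, given by the codes of the images of the basis, applied to a code. -/
def ap (M : List ℕ) (p : ℕ) : ℕ :=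
  (List.range 6).foldl (fun acc i => if p.testBit i then Nat.xor acc (M.getD i 0) else acc) 0

def comp (M N : List ℕ) : List ℕ := N.map (ap M)

def idm : List ℕ := [1, 2, 4, 8, 16, 32]
def umat : List ℕ := [2, 4, 3, 16, 32, 24]
def xmat : List ℕ := [8, 16, 32, 9, 18, 36]
def xxmat : List ℕ := [9, 18, 36, 1, 2, 4]

def mof (p r : ℕ) : List ℕ := [p, ap umat p, ap umat (ap umat p), r, ap umat r, ap umat (ap umat r)]

def quad (M : List ℕ) : Bool :=
  (List.range 6).all fun i => Nat.xor (Nat.xor (ap M (M.getD i 0)) (M.getD i 0)) (2 ^ i) == 0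

def nine (W : List ℕ) : Bool :=
  let W3 := comp W (comp W W)
  (comp W3 (comp W3 W3) == idm) && !(W3 == idm)

def good (p r : ℕ) : Bool :=
  let M := mof p r
  !(quad M) || M == xmat || M == xxmat || nine (comp xmat M) || nine (comp xxmat M)

theorem good_all : ((List.range 64).all fun p => (List.range 64).all fun r => good p r) = true := by
  decide +kernel

theorem good_of {p r : ℕ} (hp : p < 64) (hr : r < 64) : good p r = true :=
  List.all_eq_true.1 (List.all_eq_true.1 good_all p (List.mem_range.2 hp)) r (List.mem_range.2 hr)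

end Code

variable {V : Type*} [AddCommGroup V] [Module (ZMod 2) V]

/-- The vector with a given code. -/
def dec (b : Fin 6 → V) (p : ℕ) : V := ∑ i : Fin 6, if p.testBit i then b i else 0

theorem dec_xor (b : Fin 6 → V) (p r : ℕ) : dec b (Nat.xor p r) = dec b p + dec b r := by
  rw [dec, dec, dec, ← Finset.sum_add_distrib]
  refine Finset.sum_congr rfl fun i _ => ?_
  rw [show Nat.xor p r = p ^^^ r from rfl, Nat.testBit_xor]
  cases p.testBit i <;> cases r.testBit i <;> simp [ZModModule.add_self]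

theorem dec_xor' (b : Fin 6 → V) (p r : ℕ) : dec b (p ^^^ r) = dec b p + dec b r := dec_xor b p r

omit [Module (ZMod 2) V] in
theorem dec_zero (b : Fin 6 → V) : dec b 0 = 0 := by simp [dec]

omit [Module (ZMod 2) V] in
theorem dec_two_pow (b : Fin 6 → V) (i : Fin 6) : dec b (2 ^ (i : ℕ)) = b i := by
  rw [dec, Finset.sum_eq_single i]
  · simp
  · intro j _ hj
    rw [Nat.testBit_two_pow, if_neg]
    simpa using fun h : (i : ℕ) = j => hj (Fin.ext h.symm)
  · simp

theorem dec_ap {b : Fin 6 → V} {f : Module.End (ZMod 2) V} {M : List ℕ}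
    (hM : ∀ i : Fin 6, f (b i) = dec b (M.getD i 0)) (p : ℕ) : f (dec b p) = dec b (Code.ap M p) := by
  have h : ∀ (n : ℕ), n ≤ 6 → dec b ((List.range n).foldl
      (fun acc i => if p.testBit i then Nat.xor acc (M.getD i 0) else acc) 0) =
      ∑ i : Fin 6, if (i : ℕ) < n then (if p.testBit i then f (b i) else 0) else 0 := by
    intro n
    induction n with
    | zero => intro _; simp [dec_zero]
    | succ n ih =>
      intro hn
      rw [List.range_succ, List.foldl_append, List.foldl_cons, List.foldl_nil]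
      have hsplit : ∀ g : Fin 6 → V, (∑ i : Fin 6, if (i : ℕ) < n + 1 then g i else 0) =
          (∑ i : Fin 6, if (i : ℕ) < n then g i else 0) + g ⟨n, hn⟩ := fun g => by
        rw [show g ⟨n, hn⟩ = ∑ i : Fin 6, if i = ⟨n, hn⟩ then g i else 0 by simp, ← Finset.sum_add_distrib]
        refine Finset.sum_congr rfl fun i _ => ?_
        rcases lt_trichotomy (i : ℕ) n with h | h | h
        · rw [if_pos (by omega), if_pos h, if_neg (fun e => by simp [e] at h), add_zero]
        · rw [if_pos (by omega), if_neg (by omega), if_pos (Fin.ext h), zero_add]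
        · rw [if_neg (by omega), if_neg (by omega), if_neg (fun e => by simp [e] at h), add_zero]
      rw [hsplit]
      by_cases hb : p.testBit n = true
      · rw [if_pos hb, dec_xor, ih (by omega), if_pos hb, hM]
      · rw [if_neg hb, ih (by omega), if_neg hb, add_zero]
  rw [dec, map_sum, Code.ap, h 6 le_rfl]
  refine Finset.sum_congr rfl fun i _ => ?_
  rw [if_pos i.2]
  split_ifs <;> simp

theorem dec_comp {b : Fin 6 → V} {f g : Module.End (ZMod 2) V} {M N : List ℕ} (hN : N.length = 6)
    (hf : ∀ i : Fin 6, f (b i) = dec b (M.getD i 0)) (hg : ∀ i : Fin 6, g (b i) = dec b (N.getD i 0)) :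
    ∀ i : Fin 6, (f * g) (b i) = dec b ((Code.comp M N).getD i 0) := fun i => by
  rw [Module.End.mul_apply, hg i, dec_ap hf]
  congr 1
  simp [Code.comp, List.getD_eq_getElem?_getD, hN]

theorem eq_on_span {b : Fin 6 → V} {f g : Module.End (ZMod 2) V} (h : ∀ i, f (b i) = g (b i)) (p : ℕ) :
    f (dec b p) = g (dec b p) := by
  simp only [dec, map_sum]
  refine Finset.sum_congr rfl fun i _ => ?_
  split_ifs <;> simp [h]

variable [Finite V]

/-- Commuting on one of two paired isotropic summands gives commuting everywhere. -/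
theorem comm_of_part {B : LinearMap.BilinForm (ZMod 2) V} {a a' : Module.End (ZMod 2) V}
    {A A' : Submodule (ZMod 2) V} (hBa : ∀ v w, B (a v) (a w) = B v w) (hBa' : ∀ v w, B (a' v) (a' w) = B v w)
    (ha : a ^ 3 = 1) (ha' : a' ^ 3 = 1) (hsep : ∀ y ∈ A', (∀ x ∈ A, B y x = 0) → y = 0)
    (iA : ∀ x ∈ A, a x ∈ A ∧ a' x ∈ A) (iA' : ∀ y ∈ A', a y ∈ A' ∧ a' y ∈ A') (htop : A ⊔ A' = ⊤)
    (hcomm : ∀ x ∈ A, a (a' x) = a' (a x)) : a * a' = a' * a := by
  refine LinearMap.ext fun t => ?_
  obtain ⟨x, hx, y, hy, rfl⟩ := Submodule.mem_sup.1 (htop ▸ Submodule.mem_top : t ∈ A ⊔ A')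
  rw [map_add, map_add, Module.End.mul_apply, Module.End.mul_apply, Module.End.mul_apply, Module.End.mul_apply,
    hcomm x hx]
  congr 1
  rw [← sub_eq_zero]
  refine hsep _ (A'.sub_mem (iA' _ (iA' y hy).2).1 (iA' _ (iA' y hy).1).2) fun x' hx' => ?_
  have ia : ∀ s : V, a (a (a s)) = s := fun s => by
    rw [← Module.End.mul_apply, ← Module.End.mul_apply, ← pow_three', ha, Module.End.one_apply]
  have ia' : ∀ s : V, a' (a' (a' s)) = s := fun s => by
    rw [← Module.End.mul_apply, ← Module.End.mul_apply, ← pow_three', ha', Module.End.one_apply]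
  have e1 : ∀ s w : V, B (a s) w = B s (a (a w)) := fun s w => by
    conv_lhs => rw [← ia w]
    exact hBa _ _
  have e1' : ∀ s w : V, B (a' s) w = B s (a' (a' w)) := fun s w => by
    conv_lhs => rw [← ia' w]
    exact hBa' _ _
  rw [map_sub, LinearMap.sub_apply, e1, e1', e1', e1, sub_eq_zero]
  congr 1
  calc a' (a' (a (a x'))) = a' (a (a' (a x'))) := by rw [hcomm _ (iA x' hx').1]
    _ = a' (a (a (a' x'))) := by rw [hcomm x' hx']
    _ = a (a' (a (a' x'))) := by rw [hcomm _ (iA _ (iA x' hx').2).1]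
    _ = a (a (a' (a' x'))) := by rw [hcomm _ (iA x' hx').2]

/-- Order seven. -/
theorem seven_comm (B : LinearMap.BilinForm (ZMod 2) V) (hnd : ∀ v, (∀ w, B v w = 0) → v = 0)
    (hV : Module.finrank (ZMod 2) V = 12) {a a' u : Module.End (ZMod 2) V} (ha : a ^ 3 = 1) (ha' : a' ^ 3 = 1)
    (hu : u ^ 7 = 1) (hu1 : u ≠ 1) (hau : a * u = u * a) (ha'u : a' * u = u * a')
    (hfa : ∀ v, a v = v → v = 0) (hfa' : ∀ v, a' v = v → v = 0)
    (hBa : ∀ v w, B (a v) (a w) = B v w) (hBa' : ∀ v w, B (a' v) (a' w) = B v w)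
    (hBu : ∀ v w, B (u v) (u w) = B v w) :
    a * a' = a' * a ∨ ∃ w : Module.End (ZMod 2) V, (w = a * a' ∨ w = a * a * a') ∧
      ∃ v, (w ^ 3) v ≠ v ∧ (w ^ 9) v = v := by
  classical
  haveI : Module.Finite (ZMod 2) V := Module.Finite.of_finite
  obtain ⟨i1, i2, i3, i4, i5, i6⟩ := seven_ring (two_eq_adjoin u)
    (y := ⟨u, Algebra.subset_adjoin (Set.mem_singleton u)⟩) (Subtype.ext hu)
  replace i1 := congrArg Subtype.val i1
  replace i2 := congrArg Subtype.val i2
  replace i3 := congrArg Subtype.val i3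
  replace i4 := congrArg Subtype.val i4
  replace i5 := congrArg Subtype.val i5
  replace i6 := congrArg Subtype.val i6
  simp only [Subalgebra.coe_add, Subalgebra.coe_mul, Subalgebra.coe_pow, Subalgebra.coe_one,
    Subalgebra.coe_zero] at i1 i2 i3 i4 i5 i6
  set ey := u + u ^ 2 + u ^ 3 + u ^ 4 + u ^ 5 + u ^ 6 with hey
  set f := u ^ 3 + u + 1 with hf
  set g := u ^ 3 + u ^ 2 + 1 with hg
  set A := LinearMap.ker f with hA
  set A' := LinearMap.ker g with hA'
  have hz : ∀ v : V, v + v = 0 := ZModModule.add_self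
  have cpu : ∀ {c : Module.End (ZMod 2) V}, c * u = u * c → Commute c f ∧ Commute c g := fun {c} hc => by
    have cp : ∀ n, Commute c (u ^ n) := fun n => (show Commute c u from hc).pow_right n
    exact ⟨((cp 3).add_right hc).add_right (Commute.one_right c),
      ((cp 3).add_right (cp 2)).add_right (Commute.one_right c)⟩
  have inv : ∀ {c : Module.End (ZMod 2) V}, c * u = u * c →
      (∀ v ∈ A, c v ∈ A) ∧ ∀ v ∈ A', c v ∈ A' := fun {c} hc => by
    constructor <;> intro v hv <;> rw [LinearMap.mem_ker] at hv ⊢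
    · rw [← Module.End.mul_apply, ← (cpu hc).1.eq, Module.End.mul_apply, hv, map_zero]
    · rw [← Module.End.mul_apply, ← (cpu hc).2.eq, Module.End.mul_apply, hv, map_zero]
  have hfg : Commute f g := (cpu (cpu (c := u) rfl).1.symm.eq).2
  have hcu : Commute u f ∧ Commute u g := cpu rfl
  -- adjoints
  have Au : Adj B u (u ^ 6) := Adj.of_isometry hBu (by rw [← pow_succ']; exact hu)
  have Af : Adj B f (u ^ 4 * g) := by
    have h := ((Au.pow 3).add Au).add (Adj.one (B := B))
    rwa [i5, ← hf] at h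
  have Ag : Adj B g (u ^ 4 * f) := by
    have h := ((Au.pow 3).add (Au.pow 2)).add (Adj.one (B := B))
    rwa [i4, ← hg] at h
  have hfix_zero : ∀ k v t, u k = k → v = u t + t → B v k = 0 := fun k v t hk e => by
    rw [e, map_add, LinearMap.add_apply]
    nth_rw 1 [← hk]
    rw [hBu, ← two_smul (ZMod 2), show (2 : ZMod 2) = 0 from rfl, zero_smul]
  -- isotropy
  have hAA : ∀ v ∈ A, ∀ w ∈ A, B v w = 0 := fun v hv w hw => by
    have e : g (u v + v) = v := by
      have h := congrArg (fun p : Module.End (ZMod 2) V => p v) i3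
      simp only [LinearMap.add_apply, Module.End.mul_apply, Module.End.one_apply, LinearMap.mem_ker.1 hv,
        map_zero, zero_add] at h
      rw [map_add, ← Module.End.mul_apply, ← hcu.2.eq, Module.End.mul_apply]
      exact h
    rw [← e, Ag, Module.End.mul_apply, LinearMap.mem_ker.1 hw, map_zero, map_zero]
  have hA'A' : ∀ v ∈ A', ∀ w ∈ A', B v w = 0 := fun v hv w hw => by
    have e : f (u v) = v := by
      have h := congrArg (fun p : Module.End (ZMod 2) V => p v) i3
      simp only [LinearMap.add_apply, Module.End.mul_apply, Module.End.one_apply, LinearMap.mem_ker.1 hv,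
        map_zero, add_zero] at h
      rw [← Module.End.mul_apply, ← hcu.1.eq, Module.End.mul_apply]
      exact h
    rw [← e, Af, Module.End.mul_apply, LinearMap.mem_ker.1 hw, map_zero, map_zero]
  have huA : ∀ v ∈ A, ∃ t, v = u t + t := fun v hv => ⟨u (u v) + u v, by
    have h3 : u (u (u v)) + u v + v = 0 := LinearMap.mem_ker.1 hv
    calc v = v + (u (u (u v)) + u v + v) + (u (u v) + u (u v)) := by rw [h3, hz, add_zero, add_zero]
      _ = (u (u (u v)) + u (u v) + (u (u v) + u v)) + (v + v) := by abel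
      _ = _ := by rw [hz, add_zero, map_add]⟩
  have huA' : ∀ v ∈ A', ∃ t, v = u t + t := fun v hv => ⟨u (u v), by
    have h3 : u (u (u v)) + u (u v) + v = 0 := LinearMap.mem_ker.1 hv
    calc v = v + (u (u (u v)) + u (u v) + v) := by rw [h3, add_zero]
      _ = (u (u (u v)) + u (u v)) + (v + v) := by abel
      _ = _ := by rw [hz, add_zero]⟩
  -- every vector splits
  have hsplit : ∀ v, ∃ k x y, u k = k ∧ x ∈ A ∧ y ∈ A' ∧ v = k + x + y := fun v => by
    refine ⟨(ey + 1) v, ((u + 1) * g) (ey v), (u * f) (ey v), ?_, ?_, ?_, ?_⟩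
    · have h := congrArg (fun p : Module.End (ZMod 2) V => p v) i6
      have hc : Commute u (ey + 1) := by
        have cp : ∀ n, Commute u (u ^ n) := fun n => (Commute.refl u).pow_right n
        exact ((((((Commute.refl u).add_right (cp 2)).add_right (cp 3)).add_right (cp 4)).add_right
          (cp 5)).add_right (cp 6)).add_right (Commute.one_right u)
      rw [← Module.End.mul_apply, hc.eq]
      exact h
    · rw [LinearMap.mem_ker, ← Module.End.mul_apply, ← Module.End.mul_apply,
        show f * ((u + 1) * g) = (u + 1) * (f * g) by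
          rw [← mul_assoc, (hcu.1.symm.add_right (Commute.one_right f)).eq, mul_assoc],
        mul_assoc, i2, mul_zero, LinearMap.zero_apply]
    · rw [LinearMap.mem_ker, ← Module.End.mul_apply, ← Module.End.mul_apply,
        show g * (u * f) = u * (f * g) by rw [← mul_assoc, hcu.2.symm.eq, mul_assoc, hfg.eq],
        mul_assoc, i2, mul_zero, LinearMap.zero_apply]
    · rw [add_assoc, ← LinearMap.add_apply ((u + 1) * g), add_comm ((u + 1) * g), i3, Module.End.one_apply,
        LinearMap.add_apply, Module.End.one_apply, add_right_comm, hz, zero_add]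
  have hnd' : ∀ v, (∀ k, u k = k → B v k = 0) → (∀ x ∈ A, B v x = 0) → (∀ y ∈ A', B v y = 0) → v = 0 :=
    fun v h0 h1 h2 => hnd v fun w => by
      obtain ⟨k, x, y, hk, hx, hy, rfl⟩ := hsplit w
      rw [map_add, map_add, h0 k hk, h1 x hx, h2 y hy, add_zero, add_zero]
  -- dimensions
  have hfixA : ∀ v ∈ A, u v = v → v = 0 := fun v hv h => by
    have h3 : u (u (u v)) + u v + v = 0 := LinearMap.mem_ker.1 hv
    rw [h, h, h, hz, zero_add] at h3
    exact h3
  have hfixA' : ∀ v ∈ A', u v = v → v = 0 := fun v hv h => by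
    have h3 : u (u (u v)) + u (u v) + v = 0 := LinearMap.mem_ker.1 hv
    rw [h, h, h, hz, zero_add] at h3
    exact h3
  have hinf : A ⊓ A' = ⊥ := by
    rw [eq_bot_iff]
    rintro v ⟨h1, h2⟩
    rw [Submodule.mem_bot, ← Module.End.one_apply (R := ZMod 2) v, ← i3, LinearMap.add_apply,
      Module.End.mul_apply, Module.End.mul_apply, LinearMap.mem_ker.1 h1, LinearMap.mem_ker.1 h2, map_zero,
      map_zero, add_zero]
  have h6 := six_dvd A a u ha hu (inv hau).1 (inv rfl).1 (fun v _ => hfa v) hfixA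
  have h6' := six_dvd A' a u ha hu (inv hau).2 (inv rfl).2 (fun v _ => hfa v) hfixA'
  have hAbot : A = ⊥ → A' = ⊥ := fun h => eq_bot_iff.2 fun y hy => (Submodule.mem_bot _).2 <|
    hnd' y (fun k hk => by obtain ⟨t, e⟩ := huA' y hy; exact hfix_zero k y t hk e)
      (fun x hx => by rw [h] at hx; rw [(Submodule.mem_bot _).1 hx, map_zero]) fun y' hy' => hA'A' y hy y' hy'
  have hA'bot : A' = ⊥ → A = ⊥ := fun h => eq_bot_iff.2 fun x hx => (Submodule.mem_bot _).2 <|
    hnd' x (fun k hk => by obtain ⟨t, e⟩ := huA x hx; exact hfix_zero k x t hk e)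
      (fun x' hx' => hAA x hx x' hx') fun y hy => by
        rw [h] at hy; rw [(Submodule.mem_bot _).1 hy, map_zero]
  have hne : A ≠ ⊥ := fun h => hu1 (LinearMap.ext fun v => by
    obtain ⟨k, x, y, hk, hx, hy, rfl⟩ := hsplit v
    rw [hAbot h] at hy
    rw [h] at hx
    rw [(Submodule.mem_bot _).1 hx, (Submodule.mem_bot _).1 hy, add_zero, add_zero]
    exact hk)
  have hne' : A' ≠ ⊥ := fun h => hne (hA'bot h)
  have hdim := Submodule.finrank_sup_add_finrank_inf_eq A A'
  rw [hinf, finrank_bot, add_zero] at hdim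
  have hle := Submodule.finrank_le (A ⊔ A')
  have hpA : Module.finrank (ZMod 2) A ≠ 0 := fun h => hne (Submodule.finrank_eq_zero.1 h)
  have hpA' : Module.finrank (ZMod 2) A' ≠ 0 := fun h => hne' (Submodule.finrank_eq_zero.1 h)
  have hdA : Module.finrank (ZMod 2) A = 6 := by omega
  have hdA' : Module.finrank (ZMod 2) A' = 6 := by omega
  have htop : A ⊔ A' = ⊤ := Submodule.eq_top_of_finrank_eq (by omega)
  have hsep : ∀ y ∈ A', (∀ x ∈ A, B y x = 0) → y = 0 := fun y hy h =>
    hnd' y (fun k hk => by obtain ⟨t, e⟩ := huA' y hy; exact hfix_zero k y t hk e) h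
      fun y' hy' => hA'A' y hy y' hy'
  -- coordinates on the first summand
  obtain ⟨v, hv, hv0⟩ := (Submodule.ne_bot_iff A).1 hne
  set b : Fin 6 → V := ![v, u v, u (u v), a v, u (a v), u (u (a v))] with hb
  have haa : ∀ t, a (a t) = a t + t := fun t => by
    have h3 : a (a (a t)) = t := by
      rw [← Module.End.mul_apply, ← Module.End.mul_apply, ← pow_three', ha, Module.End.one_apply]
    have h0 : a (a t) + (a t + t) = 0 := hfa _ (by rw [map_add, map_add, h3]; abel)
    rwa [← sub_eq_zero, ZModModule.sub_eq_add]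
  have hu3 : ∀ t ∈ A, u (u (u t)) = u t + t := fun t ht => by
    have h3 : u (u (u t)) + u t + t = 0 := LinearMap.mem_ker.1 ht
    rw [← sub_eq_zero, ZModModule.sub_eq_add, ← add_assoc]
    exact h3
  have hau' : ∀ t, a (u t) = u (a t) := fun t => by rw [← Module.End.mul_apply, hau, Module.End.mul_apply]
  have hav : a v ∈ A := (inv hau).1 v hv
  have hbA : ∀ i, b i ∈ A := fun i => by
    fin_cases i <;> simp only [hb] <;>
      first | exact hv | exact hav | exact (inv rfl).1 _ hv | exact (inv rfl).1 _ ((inv rfl).1 _ hv) |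
        exact (inv rfl).1 _ hav | exact (inv rfl).1 _ ((inv rfl).1 _ hav)
  have hdecA : ∀ p, dec b p ∈ A := fun p => A.sum_mem fun i _ => by
    split_ifs
    exacts [hbA i, A.zero_mem]
  have hU : ∀ i : Fin 6, u (b i) = dec b (Code.umat.getD i 0) := fun i => by
    fin_cases i <;> simp [hb, Code.umat, dec, Fin.sum_univ_six, hu3 v hv, hu3 _ hav, Nat.testBit,
      Nat.shiftRight_eq_div_pow, add_comm]
  have hX : ∀ i : Fin 6, a (b i) = dec b (Code.xmat.getD i 0) := fun i => by
    fin_cases i <;> simp [hb, Code.xmat, dec, Fin.sum_univ_six, haa, hau', Nat.testBit,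
      Nat.shiftRight_eq_div_pow, add_comm]
  have hXX : ∀ i : Fin 6, (a * a) (b i) = dec b (Code.xxmat.getD i 0) := fun i => by
    have h := dec_comp (M := Code.xmat) (N := Code.xmat) rfl hX hX i
    rwa [show Code.comp Code.xmat Code.xmat = Code.xxmat by decide] at h
  have hlt : ∀ M : List ℕ, (∀ i, M.getD i 0 < 64) → ∀ p, Code.ap M p < 64 := fun M hM p => by
    unfold Code.ap
    generalize List.range 6 = l
    suffices H : ∀ s < 64, List.foldl (fun acc i => if p.testBit i then Nat.xor acc (M.getD i 0) else acc) s l < 64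
      from H 0 (by norm_num)
    induction l with
    | nil => intro s hs; exact hs
    | cons i l ih =>
      intro s hs
      rw [List.foldl_cons]
      refine ih _ ?_
      split_ifs
      exacts [Nat.xor_lt_two_pow (n := 6) hs (hM i), hs]
  let S : Submodule (ZMod 2) V :=
    { carrier := {w | ∃ p < 64, w = dec b p}
      add_mem' := by
        rintro _ _ ⟨p, hp, rfl⟩ ⟨r, hr, rfl⟩
        exact ⟨_, Nat.xor_lt_two_pow (n := 6) hp hr, (dec_xor b p r).symm⟩
      zero_mem' := ⟨0, by norm_num, (dec_zero b).symm⟩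
      smul_mem' := by
        rintro c _ ⟨p, hp, rfl⟩
        fin_cases c
        · exact ⟨0, by norm_num, by rw [dec_zero]; exact zero_smul (ZMod 2) _⟩
        · exact ⟨p, hp, one_smul (ZMod 2) _⟩ }
  have hbound : ∀ M ∈ [Code.umat, Code.xmat], ∀ i, M.getD i 0 < 64 := by
    intro M hM i
    simp only [List.mem_cons, List.not_mem_nil, or_false] at hM
    rcases hM with rfl | rfl <;> rcases Nat.lt_or_ge i 6 with hi | hi
    all_goals first
      | (interval_cases i <;> decide)
      | (rw [List.getD_eq_default _ _ (by simpa [Code.umat, Code.xmat] using hi)]; norm_num)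
  have hSA : S ≤ A := by rintro _ ⟨p, -, rfl⟩; exact hdecA p
  have hSu : ∀ w ∈ S, u w ∈ S := by
    rintro _ ⟨p, -, rfl⟩; exact ⟨_, hlt _ (hbound _ (by simp)) p, dec_ap hU p⟩
  have hSa : ∀ w ∈ S, a w ∈ S := by
    rintro _ ⟨p, -, rfl⟩; exact ⟨_, hlt _ (hbound _ (by simp)) p, dec_ap hX p⟩
  have hS6 := six_dvd S a u ha hu hSa hSu (fun t _ => hfa t) fun t ht => hfixA t (hSA ht)
  have hSne : Module.finrank (ZMod 2) S ≠ 0 := fun h => hv0 (by
    have hm : v ∈ S := ⟨1, by norm_num, (dec_two_pow b 0).symm⟩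
    rw [Submodule.finrank_eq_zero.1 h] at hm
    exact (Submodule.mem_bot (ZMod 2)).1 hm)
  have hSeq : S = A := Submodule.eq_of_le_of_finrank_le hSA (by omega)
  have hrep : ∀ w ∈ A, ∃ p < 64, w = dec b p := fun w hw => (hSeq.symm ▸ hw : w ∈ S)
  -- the coordinates are unique
  have hinj : ∀ p < 64, ∀ r < 64, dec b p = dec b r → p = r := by
    let F : Fin 64 → A := fun p => ⟨dec b p, hdecA p⟩
    have hsur : Function.Surjective F := fun w => by
      obtain ⟨p, hp, e⟩ := hrep w.1 w.2
      exact ⟨⟨p, hp⟩, Subtype.ext e.symm⟩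
    have hbij : Function.Bijective F := (Nat.bijective_iff_surjective_and_card F).2 ⟨hsur, by
      rw [card_pow, hdA, Nat.card_fin]; norm_num⟩
    intro p hp r hr e
    exact congrArg Fin.val (hbij.1 (Subtype.ext e : F ⟨p, hp⟩ = F ⟨r, hr⟩))
  -- the second map
  have ha'u' : ∀ t, a' (u t) = u (a' t) := fun t => by rw [← Module.End.mul_apply, ha'u, Module.End.mul_apply]
  obtain ⟨p, hp, hpe⟩ := hrep _ ((inv ha'u).1 v hv)
  obtain ⟨r, hr, hre⟩ := hrep _ ((inv ha'u).1 _ hav)
  set M := Code.mof p r with hMdef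
  have hM : ∀ i : Fin 6, a' (b i) = dec b (M.getD i 0) := fun i => by
    have hup : ∀ q, u (dec b q) = dec b (Code.ap Code.umat q) := dec_ap hU
    simp only [hb] at hup hpe hre
    fin_cases i <;> simp [hb, hMdef, Code.mof, ha'u', hpe, hre, hup]
  have hMlt : ∀ i, M.getD i 0 < 64 := fun i => by
    have hl := hlt _ (hbound Code.umat (by simp))
    rcases Nat.lt_or_ge i 6 with hi | hi
    · interval_cases i <;> simp [hMdef, Code.mof, hp, hr, hl]
    · rw [List.getD_eq_default _ _ (by simpa [hMdef, Code.mof] using hi)]; norm_num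
  have hquad : Code.quad M = true := by
    simp only [Code.quad, List.all_eq_true, List.mem_range, beq_iff_eq]
    intro i hi
    refine hinj _ (Nat.xor_lt_two_pow (n := 6) (Nat.xor_lt_two_pow (n := 6) (hlt _ hMlt _) (hMlt i))
      (Nat.pow_lt_pow_right (by norm_num) hi)) 0 (by norm_num) ?_
    have h3 : a' (a' (a' (b ⟨i, hi⟩))) = b ⟨i, hi⟩ := by
      rw [← Module.End.mul_apply, ← Module.End.mul_apply, ← pow_three', ha', Module.End.one_apply]
    have h0 : a' (a' (b ⟨i, hi⟩)) + a' (b ⟨i, hi⟩) + b ⟨i, hi⟩ = 0 := hfa' _ (by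
      rw [map_add, map_add, h3]; abel)
    rw [dec_xor', dec_xor', dec_zero, ← dec_ap hM, show dec b (2 ^ i) = b ⟨i, hi⟩ from dec_two_pow b ⟨i, hi⟩,
      ← hM ⟨i, hi⟩]
    exact h0
  have hg := Code.good_of hp hr
  simp only [Code.good, ← hMdef, hquad, Bool.not_true, Bool.false_or, Bool.or_eq_true, beq_iff_eq] at hg
  -- order nine
  have hnine : ∀ (w : Module.End (ZMod 2) V) (W : List ℕ), W.length = 6 →
      (∀ i : Fin 6, w (b i) = dec b (W.getD i 0)) → (∀ i, W.getD i 0 < 64) → Code.nine W = true →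
      ∃ t, (w ^ 3) t ≠ t ∧ (w ^ 9) t = t := by
    intro w W hWl hW hWlt h
    simp only [Code.nine, Bool.and_eq_true, Bool.not_eq_true', beq_iff_eq, beq_eq_false_iff_ne] at h
    set W3 := Code.comp W (Code.comp W W) with hW3
    have l2 : (Code.comp W W).length = 6 := by simp [Code.comp, hWl]
    have l3 : W3.length = 6 := by simp [hW3, Code.comp, hWl]
    have h3 : ∀ i : Fin 6, (w ^ 3) (b i) = dec b (W3.getD i 0) := fun i => by
      rw [pow_three]; exact dec_comp l2 hW (dec_comp hWl hW hW) i
    have h9 : ∀ i : Fin 6, (w ^ 9) (b i) = b i := fun i => by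
      rw [show w ^ 9 = w ^ 3 * (w ^ 3 * w ^ 3) by rw [← pow_add, ← pow_add],
        dec_comp (by simp [Code.comp, l3]) h3 (dec_comp l3 h3 h3) i, h.1, ← dec_two_pow b i]
      congr 1
      fin_cases i <;> rfl
    obtain ⟨i, hi⟩ : ∃ i : Fin 6, W3.getD i 0 ≠ 2 ^ (i : ℕ) := by
      by_contra hcon
      simp only [not_exists, not_not] at hcon
      refine h.2 (List.ext_getElem (by rw [l3]; rfl) fun n hn hn' => ?_)
      have := hcon ⟨n, by omega⟩
      rw [List.getD_eq_getElem _ _ hn] at this
      rw [this]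
      have : n < 6 := by omega
      interval_cases n <;> rfl
    refine ⟨b i, fun e => hi (hinj _ ?_ _ (Nat.pow_lt_pow_right (by norm_num) i.2) ?_), h9 i⟩
    · rw [List.getD_eq_getElem _ _ (by omega)]
      simp only [hW3, Code.comp, List.getElem_map]
      exact hlt _ hWlt _
    · rw [← h3 i, e, dec_two_pow]
  rcases hg with ((e | e) | e) | e
  · left
    -- equal on the first summand
    have he : ∀ x ∈ A, a' x = a x := fun x hx => by
      obtain ⟨k, -, rfl⟩ := hrep x hx
      exact eq_on_span (fun i => by rw [hM, hX, e]) k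
    exact comm_of_part hBa hBa' ha ha' hsep (fun x hx => ⟨(inv hau).1 x hx, (inv ha'u).1 x hx⟩)
      (fun y hy => ⟨(inv hau).2 y hy, (inv ha'u).2 y hy⟩) htop
      fun x hx => by rw [he x hx, he _ ((inv hau).1 x hx)]
  · left
    have he : ∀ x ∈ A, a' x = a (a x) := fun x hx => by
      obtain ⟨k, -, rfl⟩ := hrep x hx
      exact eq_on_span (g := a * a) (fun i => by rw [hM, hXX, e]) k
    exact comm_of_part hBa hBa' ha ha' hsep (fun x hx => ⟨(inv hau).1 x hx, (inv ha'u).1 x hx⟩)
      (fun y hy => ⟨(inv hau).2 y hy, (inv ha'u).2 y hy⟩) htop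
      fun x hx => by rw [he x hx, he _ ((inv hau).1 x hx)]
  · right
    refine ⟨a * a', Or.inl rfl, hnine _ _ (by simp [Code.comp, hMdef, Code.mof]) (dec_comp (by simp [hMdef, Code.mof]) hX hM) ?_ e⟩
    intro i
    rcases Nat.lt_or_ge i 6 with hi | hi
    · rw [List.getD_eq_getElem _ _ (by simpa [Code.comp, hMdef, Code.mof] using hi)]
      simp only [Code.comp, List.getElem_map]
      exact hlt _ (hbound _ (by simp)) _
    · rw [List.getD_eq_default _ _ (by simpa [Code.comp, hMdef, Code.mof] using hi)]; norm_num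
  · right
    refine ⟨a * a * a', Or.inr rfl, hnine _ _ (by simp [Code.comp, hMdef, Code.mof]) (dec_comp (by simp [hMdef, Code.mof]) hXX hM) ?_ e⟩
    intro i
    rcases Nat.lt_or_ge i 6 with hi | hi
    · rw [List.getD_eq_getElem _ _ (by simpa [Code.comp, hMdef, Code.mof] using hi)]
      simp only [Code.comp, List.getElem_map]
      refine hlt _ (fun j => ?_) _
      rcases Nat.lt_or_ge j 6 with hj | hj
      · interval_cases j <;> decide
      · rw [List.getD_eq_default _ _ (by simpa [Code.xxmat] using hj)]; norm_num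
    · rw [List.getD_eq_default _ _ (by simpa [Code.comp, hMdef, Code.mof] using hi)]; norm_num

end Cfsg.Agent.Spor.JFourConv
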