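import Cfsg.Agent.Lib.Spor.JFourConv.Quot
import Cfsg.Agent.Lib.Spor.JFourConv.Rep
import Cfsg.Agent.Lib.Spor.JFourConv.Linear
import Cfsg.Agent.Lib.Spor.JFourConv.Seven

/-!
The normaliser of the image of `x` is everything: counting its cosets.
-/

set_option autoImplicit false
set_option linter.style.haveILetI false

open Cfsg

namespace Cfsg.Agent.Spor.JFourConv

/-- A group moving all cosets but one without fixed points. -/
theorem index_mod {Q : Type*} [Group Q] [Finite Q] (N S : Subgroup Q) (hS : S ≤ N)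
    (h : ∀ s ∈ S, s ≠ 1 → ∀ q : Q, q⁻¹ * s * q ∈ N → q ∈ N) : Nat.card S ∣ N.index - 1 := by
  classical
  set b : Q ⧸ N := QuotientGroup.mk 1 with hb
  let X : SubMulAction ↥S (Q ⧸ N) :=
    { carrier := {c | c ≠ b}
      smul_mem' := fun s c hc e => hc (by
        have hsb : s⁻¹ • b = b := by
          rw [hb]
          show QuotientGroup.mk ((↑(s⁻¹ : ↥S) : Q) * 1) = QuotientGroup.mk 1
          rw [QuotientGroup.eq]
          simpa using N.inv_mem (hS (s⁻¹).2)
        rw [← inv_smul_smul s c, e, hsb]) }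
  have hfree : ∀ c : X, MulAction.stabilizer ↥S c = ⊥ := fun c => by
    rw [Subgroup.eq_bot_iff_forall]
    intro s hs
    obtain ⟨q, hq⟩ := QuotientGroup.mk_surjective c.1
    by_contra hs1
    refine c.2 ?_
    rw [← hq, hb, QuotientGroup.eq, mul_one]
    refine N.inv_mem (h s s.2 (fun e => hs1 (Subtype.ext e)) q ?_)
    have h' : QuotientGroup.mk ((s : Q) * q) = (QuotientGroup.mk q : Q ⧸ N) := by
      have := congrArg Subtype.val hs
      rw [SubMulAction.val_smul, ← hq] at this
      exact this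
    rw [eq_comm, QuotientGroup.eq] at h'
    rwa [mul_assoc]
  have hcard : Nat.card X = Nat.card (MulAction.orbitRel.Quotient ↥S X) * Nat.card S := by
    rw [← Nat.card_prod]
    exact Nat.card_congr ((MulAction.selfEquivSigmaOrbitsQuotientStabilizer ↥S X).trans
      ((Equiv.sigmaCongrRight fun ω => (Subgroup.quotientEquivOfEq (hfree _)).trans
        QuotientGroup.quotientBot.toEquiv).trans (Equiv.sigmaEquivProd _ _)))
  have hX : Nat.card X = N.index - 1 := by
    haveI := Fintype.ofFinite (Q ⧸ N)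
    rw [Subgroup.index, Nat.card_eq_fintype_card (α := Q ⧸ N)]
    show Nat.card {c : Q ⧸ N // c ≠ b} = _
    rw [Nat.card_eq_fintype_card, Fintype.card_subtype_compl, Fintype.card_subtype_eq]
  exact ⟨_, by rw [← hX, hcard, mul_comm]⟩

namespace Conf

variable {G : Type*} [Group G] [Finite G] {x z y o : G} {φ : ↥(Subgroup.centralizer ({x} : Set G)) →* M}
  (K : Conf x z y o φ)
include K

local notation "E" => twoCoreOfCentralizer z

/-- An element of order seven or eleven centralising `x` fixes only the coset of the normaliser. -/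
theorem free_big_aux {q : QuadraticForm (ZMod 2) Vec} {act : ↥(Cx z) →* Module.End (ZMod 2) Vec}
    (R : Rep z q act) (h9 : ∀ r : Qt z, r ^ 9 = 1 → r ^ 3 = 1) {p : ℕ} (hp : p = 7 ∨ p = 11)
    {u : ↥(Cx x)} (hu : orderOf u = p) {g : Qt z} (h : g⁻¹ * K.img u * g ∈ K.Nb) : g ∈ K.Nb := by
  have hodd : Odd p := by rcases hp with rfl | rfl <;> decide
  have hup : u ^ p = 1 := hu ▸ pow_orderOf_eq_one u
  have hv : g⁻¹ * K.img u * g ∈ K.img.range := K.Nb_odd h hodd (by
    have : (g⁻¹ * K.img u * g) ^ p = g⁻¹ * K.img u ^ p * g := by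
      have := conj_pow (i := p) (a := g⁻¹) (b := K.img u)
      rwa [inv_inv] at this
    rw [this, ← map_pow, hup, map_one]; group)
  obtain ⟨d, rfl⟩ := QuotientGroup.mk'_surjective (Ez z) g
  set cx : ↥(Cx z) := ⟨x, K.le_Cx K.six.x_mem⟩ with hcx
  set cu : ↥(Cx z) := ⟨(u : G), K.le_Cx u.2⟩ with hcu
  set cx' : ↥(Cx z) := d * cx * d⁻¹ with hcx'
  clear_value cx'
  have hx3 : cx ^ 3 = 1 := Subtype.ext K.six.x3
  have hxo : orderOf cx = 3 := by rw [← Subgroup.orderOf_coe]; exact K.six.ordx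
  have hfa : ∀ v, act cx v = v → v = 0 := fun v hv => by
    by_contra hv0
    obtain ⟨e, he, he1, hez, hcomm⟩ := R.lift v hv0 cx hxo hv
    rcases K.fix_x he hcomm with h' | h'
    exacts [he1 h', hez h']
  have hfa' : ∀ v, act cx' v = v → v = 0 := fun v hv => by
    have h' : act d⁻¹ v = 0 := hfa _ (by
      rw [← Module.End.mul_apply, ← map_mul, show cx * d⁻¹ = d⁻¹ * cx' by rw [hcx']; group, map_mul,
        Module.End.mul_apply, hv])
    exact R.inj d⁻¹ (h'.trans (map_zero _).symm)
  have hact : ∀ c c' : ↥(Cx z), pr z c = pr z c' → act c = act c' := fun c c' e => by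
    have h1 : act (c * c'⁻¹) = 1 := (R.ker _).2 (pr_eq_one.1 (by rw [map_mul, map_inv, e, mul_inv_cancel]))
    calc act c = act (c * c'⁻¹ * c') := by rw [inv_mul_cancel_right]
      _ = act c' := by rw [map_mul, h1, one_mul]
  have h3 : act cx ^ 3 = 1 := by rw [← map_pow, hx3, map_one]
  have h3' : act cx' ^ 3 = 1 := by rw [← map_pow, hcx', conj_pow, hx3, mul_one, mul_inv_cancel, map_one]
  have hUp : act cu ^ p = 1 := by rw [← map_pow, show cu ^ p = 1 from Subtype.ext (congrArg Subtype.val hup :), map_one]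
  have hU1 : act cu ≠ 1 := fun e => by
    obtain ⟨k, hk⟩ := core_pgroup z ⟨(u : G), (R.ker cu).1 e⟩
    have hk' : u ^ 2 ^ k = 1 := Subtype.ext (by simpa using congrArg (fun t : ↥E => (t : G)) hk)
    have h2 := orderOf_dvd_of_pow_eq_one hk'
    rw [hu] at h2
    have := (Nat.prime_dvd_prime_iff_eq (by rcases hp with rfl | rfl <;> norm_num) Nat.prime_two).1
      ((by rcases hp with rfl | rfl <;> norm_num : Nat.Prime p).dvd_of_dvd_pow h2)
    omega
  have hau : act cx * act cu = act cu * act cx := by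
    rw [← map_mul, ← map_mul, show cx * cu = cu * cx from Subtype.ext (mem_Cx.1 u.2).symm]
  have hgu : pr z d * K.xb * (pr z d)⁻¹ * K.img u = K.img u * (pr z d * K.xb * (pr z d)⁻¹) := by
    have e := K.mem_Cb.1 hv
    calc pr z d * K.xb * (pr z d)⁻¹ * K.img u = pr z d * (K.xb * ((pr z d)⁻¹ * K.img u * pr z d)) * (pr z d)⁻¹ := by
          group
      _ = pr z d * ((pr z d)⁻¹ * K.img u * pr z d * K.xb) * (pr z d)⁻¹ := by rw [e]
      _ = _ := by group
  have hpx : pr z cx' = pr z d * K.xb * (pr z d)⁻¹ := by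
    rw [hcx', map_mul, map_mul, map_inv]; rfl
  have ha'u : act cx' * act cu = act cu * act cx' := by
    rw [← map_mul, ← map_mul]
    exact hact _ _ (by rw [map_mul, map_mul, hpx]; exact hgu)
  have hV : Module.finrank (ZMod 2) Vec = 12 := by simp
  have hfin : act cx * act cx' = act cx' * act cx → pr z d ∈ K.Nb := fun e => K.weakly_closed <| K.mem_Cb.2 <| by
    rw [← map_mul, ← map_mul] at e
    have h1 : act (cx * cx' * (cx' * cx)⁻¹) = 1 := by
      rw [map_mul, e, ← map_mul, mul_inv_cancel, map_one]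
    have h2 := pr_eq_one.2 ((R.ker _).1 h1)
    rw [map_mul, map_inv, mul_inv_eq_one, map_mul, map_mul, hpx] at h2
    exact h2.symm
  rcases hp with rfl | rfl
  · rcases seven_comm (QuadraticMap.polarBilin q) R.nd.1 hV h3 h3' hUp hU1 hau ha'u hfa hfa'
      (R.polar cx) (R.polar cx') (R.polar cu) with e | ⟨w, hw, v, hw3, hw9⟩
    · exact hfin e
    exfalso
    obtain ⟨m, rfl⟩ : ∃ m, act m = w := by
      rcases hw with rfl | rfl
      exacts [⟨cx * cx', by rw [map_mul]⟩, ⟨cx * cx * cx', by rw [map_mul, map_mul]⟩]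
    set n := orderOf (pr z m) with hn
    have hwn : act m ^ n = 1 := by
      rw [← map_pow, R.ker, ← pr_eq_one, map_pow, hn, pow_orderOf_eq_one]
    have hg := Function.IsPeriodicPt.gcd (f := ⇑(act m)) (m := 9) (n := n) (x := v)
      (by rw [Function.IsPeriodicPt, Function.IsFixedPt, ← Module.End.coe_pow]; exact hw9)
      (by rw [Function.IsPeriodicPt, Function.IsFixedPt, ← Module.End.coe_pow, hwn]; rfl)
    have h9n : 9 ∣ n := by
      by_contra h9n
      refine hw3 ?_
      have hdvd : Nat.gcd 9 n ∣ 3 := by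
        obtain ⟨j, hj, e⟩ := (Nat.dvd_prime_pow Nat.prime_three).1 (show Nat.gcd 9 n ∣ 3 ^ 2 from Nat.gcd_dvd_left _ _)
        rw [e]
        interval_cases j
        · exact one_dvd _
        · exact dvd_rfl
        · exact absurd (e ▸ Nat.gcd_dvd_right 9 n) (by norm_num; exact h9n)
      rw [Module.End.coe_pow]
      exact hg.trans_dvd hdvd
    obtain ⟨k, hk⟩ := h9n
    have hord : orderOf (pr z m ^ k) = 9 := by
      rw [orderOf_pow' _ (by rintro rfl; rw [mul_zero] at hk; exact (orderOf_pos (pr z m)).ne' hk), ← hn, hk,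
        Nat.gcd_mul_left_left]
      have : 0 < k := by
        rcases Nat.eq_zero_or_pos k with rfl | hk0
        · rw [mul_zero] at hk; exact absurd hk (orderOf_pos (pr z m)).ne'
        · exact hk0
      exact Nat.mul_div_cancel _ this
    have h3r : (pr z m ^ k) ^ 3 = 1 := h9 _ (by rw [← hord]; exact pow_orderOf_eq_one _)
    have := orderOf_dvd_of_pow_eq_one h3r
    rw [hord] at this
    norm_num at this
  · exact hfin (eleven_comm hV h3 h3' hUp hU1 hau ha'u hfa hfa')

/-- The normaliser of the image of `x` is the whole quotient. -/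
theorem Nb_top : K.Nb = ⊤ := by
  classical
  haveI : Fact (Nat.Prime 3) := ⟨Nat.prime_three⟩
  obtain ⟨T⟩ : Nonempty (Sylow 3 ↥(Cx x)) := Sylow.nonempty
  set ι : ↥(T : Subgroup ↥(Cx x)) →* Qt z := K.img.comp (T : Subgroup ↥(Cx x)).subtype with hι
  have hT3 : ∀ t : ↥(T : Subgroup ↥(Cx x)), (t : ↥(Cx x)) ^ 3 = 1 := fun t => by
    obtain ⟨n, hn⟩ := T.2 t
    exact Subtype.ext (K.six.exponent_three K.y_mem K.y3 K.y_nc (t : ↥(Cx x)).2
      (congrArg (fun s : ↥(T : Subgroup ↥(Cx x)) => ((s : ↥(Cx x)) : G)) hn))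
  have hinj : Function.Injective ι := (injective_iff_map_eq_one ι).2 fun t ht => by
    rcases K.img_eq_one.1 ht with h | h
    · exact Subtype.ext (Subtype.ext h)
    · have h3 := congrArg Subtype.val (hT3 t)
      simp only [SubmonoidClass.coe_pow, Subgroup.coe_one] at h3
      rw [show ((t : ↥(Cx x)) : G) = z from h, show (3 : ℕ) = 2 + 1 from rfl, pow_succ, K.six.z2, one_mul] at h3
      exact absurd h3 K.six.z_ne
  have hS : Nat.card ι.range = 27 := by
    rw [← K.six.card_sylow T]
    exact (Nat.card_congr (MonoidHom.ofInjective hinj).toEquiv).symm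
  have hS3 : ∀ s ∈ ι.range, s ^ 3 = 1 := by
    rintro _ ⟨t, rfl⟩
    rw [← map_pow, show t ^ 3 = 1 from Subtype.ext (hT3 t), map_one]
  have hSN : ι.range ≤ K.Nb := by rintro _ ⟨t, rfl⟩; exact K.Cb_le_Nb ⟨_, rfl⟩
  have h27 : 27 ∣ K.Nb.index - 1 := by
    rw [← hS]
    refine index_mod _ _ hSN ?_
    rintro _ ⟨t, rfl⟩ ht q hq
    exact K.free_three (hT3 t) ht hq
  -- the Sylow three-subgroups have exponent three
  have hidx : 1 ≤ K.Nb.index := Nat.one_le_iff_ne_zero.2 Subgroup.index_ne_zero_of_finite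
  have hcardQ : Nat.card (Qt z) = 2661120 * K.Nb.index := by rw [← K.card_Nb, Subgroup.card_mul_index]
  have h3n : ¬ 3 ∣ K.Nb.index := fun h => by omega
  have hfac : 3 ^ (Nat.card (Qt z)).factorization 3 = 27 := by
    rw [hcardQ, show (2661120 : ℕ) = 3 ^ 3 * 98560 from rfl, Nat.factorization_mul (by norm_num) (by omega),
      Nat.factorization_mul (by norm_num) (by norm_num), Finsupp.add_apply, Finsupp.add_apply,
      Nat.prime_three.factorization_pow, Finsupp.single_eq_same,
      Nat.factorization_eq_zero_of_not_dvd (show ¬ 3 ∣ 98560 by norm_num),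
      Nat.factorization_eq_zero_of_not_dvd h3n]
    norm_num
  have h9 : ∀ r : Qt z, r ^ 9 = 1 → r ^ 3 = 1 := fun r hr => by
    have hp : IsPGroup 3 (Subgroup.zpowers r) := by
      obtain ⟨j, -, hj⟩ := (Nat.dvd_prime_pow Nat.prime_three).1
        (show orderOf r ∣ 3 ^ 2 from orderOf_dvd_of_pow_eq_one hr)
      exact IsPGroup.of_card (by rw [Nat.card_zpowers, hj])
    obtain ⟨P, hP⟩ := hp.exists_le_sylow
    obtain ⟨g, hg⟩ := MulAction.exists_smul_eq (Qt z)
      (Sylow.ofCard ι.range (by rw [hS, hfac]) : Sylow 3 (Qt z)) P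
    have hr' : r ∈ (P : Subgroup (Qt z)) := hP (Subgroup.mem_zpowers r)
    rw [← hg, Sylow.coe_subgroup_smul, Sylow.coe_ofCard] at hr'
    obtain ⟨s, hs, rfl⟩ := hr'
    show ((MulAut.conj g) s) ^ 3 = 1
    rw [← map_pow, hS3 s hs, map_one]
  -- the other primes
  obtain ⟨qf, act, R⟩ := exists_rep K.extraspecial K.cards.1 K.six.ordz K.self
  have hbig : ∀ p, p = 7 ∨ p = 11 → p ∣ K.Nb.index - 1 := fun p hp => by
    haveI : Fact p.Prime := ⟨by rcases hp with rfl | rfl <;> norm_num⟩
    obtain ⟨u, hu⟩ := exists_prime_orderOf_dvd_card' (G := ↥(Cx x)) p (by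
      rw [K.six.card_C]; rcases hp with rfl | rfl <;> norm_num)
    have ho : orderOf (K.img u) = p := by
      refine orderOf_eq_prime (by rw [← map_pow, ← hu, pow_orderOf_eq_one, map_one]) fun e => ?_
      have h2 : u ^ 2 = 1 := by
        rcases K.img_eq_one.1 e with h | h
        · rw [show u = 1 from Subtype.ext h, one_pow]
        · exact Subtype.ext (by rw [SubmonoidClass.coe_pow, h]; exact K.six.z2)
      have := orderOf_dvd_of_pow_eq_one h2
      rw [hu] at this
      rcases hp with rfl | rfl <;> norm_num at this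
    have hcard : Nat.card (Subgroup.zpowers (K.img u)) = p := by rw [Nat.card_zpowers, ho]
    rw [← hcard]
    refine index_mod _ _ (Subgroup.zpowers_le.2 (K.Cb_le_Nb ⟨u, rfl⟩)) ?_
    intro s hs hs1 q hq
    obtain ⟨i, rfl⟩ := Subgroup.mem_zpowers_iff.1 hs
    have hcop : IsCoprime i (p : ℤ) := by
      rw [Int.isCoprime_iff_nat_coprime, Int.natAbs_natCast]
      refine ((Nat.Prime.coprime_iff_not_dvd Fact.out).2 fun hd => hs1 ?_).symm
      rw [← orderOf_dvd_iff_zpow_eq_one, ho]
      exact Int.natCast_dvd.2 hd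
    obtain ⟨a, b, hab⟩ := hcop
    refine K.free_big_aux R h9 hp hu (g := q) ?_
    have e : K.img u = (K.img u ^ i) ^ a := by
      rw [← zpow_mul, show i * a = 1 - b * (p : ℤ) by linarith, zpow_sub, zpow_one, zpow_mul', zpow_natCast,
        show K.img u ^ p = 1 by rw [← ho, pow_orderOf_eq_one], one_zpow, inv_one, mul_one]
    rw [e, show q⁻¹ * (K.img u ^ i) ^ a * q = (q⁻¹ * K.img u ^ i * q) ^ a by
      have := conj_zpow (i := a) (a := q⁻¹) (b := K.img u ^ i)
      rw [inv_inv] at this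
      exact this.symm]
    exact zpow_mem hq a
  -- the order of the orthogonal group
  have hfix : ∀ v, act ⟨x, K.le_Cx K.six.x_mem⟩ v = v → v = 0 := fun v hv => by
    by_contra hv0
    obtain ⟨e, he, he1, hez, hcomm⟩ := R.lift v hv0 ⟨x, K.le_Cx K.six.x_mem⟩
      (by rw [← Subgroup.orderOf_coe]; exact K.six.ordx) hv
    rcases K.fix_x he hcomm with h' | h'
    exacts [he1 h', hez h']
  have hdvd := R.card_dvd (c := ⟨x, K.le_Cx K.six.x_mem⟩) (f := Nat.card (Qt z))
    (by rw [← map_pow, show (⟨x, K.le_Cx K.six.x_mem⟩ : ↥(Cx z)) ^ 3 = 1 from Subtype.ext K.six.x3, map_one])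
    hfix fun R' hR' => by
      rw [← Subgroup.index_ker, show R'.ker = Ez z from Subgroup.ext fun c => (MonoidHom.mem_ker.trans (hR' c)).trans
        Subgroup.mem_subgroupOf.symm]
      rfl
  rw [hcardQ] at hdvd
  have hn : K.Nb.index ∣ 37598873518080 := by
    refine Nat.dvd_of_mul_dvd_mul_left (by norm_num : 0 < 2661120) ?_
    exact hdvd.trans (dvd_of_eq (by norm_num))
  have h7 := hbig 7 (Or.inl rfl)
  have h11 := hbig 11 (Or.inr rfl)
  have hmod : K.Nb.index % 2079 = 1 := by omega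
  have hcop : Nat.Coprime K.Nb.index (3 ^ 5 * 7) := by
    refine Nat.Coprime.mul_right (Nat.Coprime.pow_right 5 ?_) ?_
    · exact ((Nat.Prime.coprime_iff_not_dvd Nat.prime_three).2 h3n).symm
    · exact ((Nat.Prime.coprime_iff_not_dvd (by norm_num)).2 (by omega)).symm
  obtain ⟨a, b, ha, hb, e⟩ := Nat.dvd_mul.1 (show K.Nb.index ∣ 2 ^ 23 * 2635 from
    hcop.dvd_of_dvd_mul_right (hn.trans (dvd_of_eq (by norm_num))))
  obtain ⟨i, hi, rfl⟩ := (Nat.dvd_prime_pow Nat.prime_two).1 ha
  refine Subgroup.index_eq_one.1 ?_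
  have hb' : b ∈ [1, 5, 17, 31, 85, 155, 527, 2635] := by
    have : ∀ b < 2636, b ∣ 2635 → b ∈ [1, 5, 17, 31, 85, 155, 527, 2635] := by decide +kernel
    exact this b (by have := Nat.le_of_dvd (by norm_num) hb; omega) hb
  have key : ∀ i < 24, ∀ b ∈ [1, 5, 17, 31, 85, 155, 527, 2635], 2 ^ i * b % 2079 = 1 → 2 ^ i * b = 1 := by
    decide +kernel
  rw [← e]
  exact key i (by omega) b hb' (by rw [e]; exact hmod)

end Conf

end Cfsg.Agent.Spor.JFourConv
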