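import Cfsg.Agent.Lib.Spor.JFourConv.Index
import Cfsg.Agent.Lib.Spor.JFourType.Bridge.Main

/-!
The hypotheses on the centraliser of an element of order three give the Janko-four type at the involution.
-/

set_option autoImplicit false
set_option linter.style.haveILetI false

open Cfsg
open scoped commutatorElement

namespace Cfsg.Agent.Spor.JFourConv.Conf

variable {G : Type*} [Group G] [Finite G] {x z y o : G} {φ : ↥(Subgroup.centralizer ({x} : Set G)) →* M}
  (K : Conf x z y o φ)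
include K

theorem conj_xb (q : Qt z) : q * K.xb * q⁻¹ = K.xb ∨ q * K.xb * q⁻¹ = K.xb⁻¹ :=
  K.mem_Nb.1 (K.Nb_top ▸ Subgroup.mem_top q)

theorem isOfType : IsOfJankoFourTypeAt z := by
  classical
  haveI : Fact (Nat.Prime 3) := ⟨Nat.prime_three⟩
  set Zx : Subgroup (Qt z) := Subgroup.zpowers K.xb with hZx
  set Mq : Subgroup (Qt z) := K.img.range with hMq
  set ι : ↥(Cx x) →* ↥(Cx z) := Subgroup.inclusion K.le_Cx with hι
  have hmemZ : ∀ q : Qt z, ∀ t ∈ Zx, q * t * q⁻¹ ∈ Zx := fun q t ht => by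
    obtain ⟨i, rfl⟩ := Subgroup.mem_zpowers_iff.1 ht
    rw [← conj_zpow]
    rcases K.conj_xb q with e | e <;> rw [e]
    exacts [zpow_mem (Subgroup.mem_zpowers _) i, zpow_mem (inv_mem (Subgroup.mem_zpowers _)) i]
  haveI hZn : Zx.Normal := ⟨fun t ht q => hmemZ q t ht⟩
  have hxo : orderOf K.xb = 3 := orderOf_eq_prime K.xb3 K.xb_ne
  have hQ : Nat.card (Qt z) = 2661120 := by
    rw [← K.card_Nb, K.Nb_top, Subgroup.card_top]
  have hsur := QuotientGroup.mk'_surjective (Ez z)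
  have hcent : ∀ q ∈ Mq, ∀ t ∈ Zx, q * t = t * q := fun q hq t ht => by
    obtain ⟨i, rfl⟩ := Subgroup.mem_zpowers_iff.1 ht
    exact ((show Commute q K.xb from K.mem_Cb.1 hq).zpow_right i).eq
  have hidx : (Mq.comap (pr z)).index = 2 := by
    rw [Subgroup.index_comap_of_surjective _ hsur]
    have h := Mq.card_mul_index
    rw [K.card_Cb, hQ] at h
    omega
  have hsub : Zx ≤ Mq := Subgroup.zpowers_le.2 ⟨_, rfl⟩
  have hNn : (Zx.comap (pr z)).Normal := inferInstance
  have hcardN : Nat.card ↥(Zx.comap (pr z)) = 3 * 2 ^ 13 := by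
    have h := (Zx.comap (pr z)).card_mul_index
    rw [Subgroup.index_comap_of_surjective _ hsur, Subgroup.card_eq_card_quotient_mul_card_subgroup (Ez z),
      hQ, card_Ez, K.cards.1] at h
    have h' := Zx.card_mul_index
    rw [hQ, hZx, Nat.card_zpowers, hxo] at h'
    rw [show Zx.index = 887040 by rw [hZx]; omega] at h
    omega
  have hperf : ⁅(⊤ : Subgroup ↥(Cx x)), ⊤⁆ = ⊤ := K.six.perf
  have htC : z ∈ Cx z := mem_Cx.2 rfl
  refine (JFour.Bridge.isOfType (C := Cx z) rfl htC (Q := Ez z) (N := Zx.comap (pr z)) (M := Mq.comap (pr z))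
    { ord := ?_, cen := ?_, Qn := inferInstance, Nn := hNn, Mn := Subgroup.normal_of_index_eq_two hidx,
      QN := ?_, NM := Subgroup.comap_mono hsub, idx := hidx, ext := ?_, cardQ := ?_, cardN := hcardN, comm := ?_,
      perf := ?_, self := ?_, out := ?_, quot := ?_ }).1
  · rw [← Subgroup.orderOf_coe]; exact K.six.ordz
  · exact fun h => Subtype.ext (mem_Cx.1 h.2)
  · intro e he
    rw [Subgroup.mem_comap, (QuotientGroup.eq_one_iff e).2 he |> fun h => (show pr z e = 1 from h)]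
    exact one_mem _
  · exact Cfsg.Agent.Grp.ExtraCentSimple.isExtraspecial_equiv
      (Subgroup.subgroupOfEquivOfLe (core_le z)).symm K.extraspecial
  · rw [card_Ez, K.cards.1]
  · rw [Subgroup.commutator_le]
    intro m hm n hn
    refine (QuotientGroup.eq_one_iff _).1 ?_
    show pr z ⁅m, n⁆ = 1
    rw [map_commutatorElement, commutatorElement_eq_one_iff_mul_comm]
    exact hcent _ hm _ hn
  · intro m hm
    obtain ⟨c, hc⟩ := hm
    have h1 : ι c ∈ ⁅Mq.comap (pr z), Mq.comap (pr z)⁆ := by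
      have hr : ι.range ≤ Mq.comap (pr z) := by rintro _ ⟨d, rfl⟩; exact ⟨d, rfl⟩
      refine Subgroup.commutator_mono hr hr ?_
      rw [MonoidHom.range_eq_map, ← Subgroup.map_commutator, hperf]
      exact ⟨c, Subgroup.mem_top c, rfl⟩
    have h2 : (ι c)⁻¹ * m ∈ Ez z := QuotientGroup.eq.1 hc
    have := Subgroup.mul_mem_sup h1 h2
    rwa [mul_inv_cancel_left] at this
  · intro h hh
    refine Subgroup.mem_subgroupOf.2 (K.self h (mem_Cx.1 h.2) (Subgroup.mem_centralizer_iff.2 fun e he => ?_))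
    exact congrArg Subtype.val (Subgroup.mem_centralizer_iff.1 hh ⟨e, core_le z he⟩ (Subgroup.mem_subgroupOf.2 he))
  · intro c hc
    by_contra hcM
    have hcM' : pr z c ∉ Mq := hcM
    have hmem : ∀ d : ↥(Cx x), pr z c * K.img d * (pr z c)⁻¹ * (K.img d)⁻¹ ∈ Zx := fun d => by
      have h := hc (ι d) ⟨d, rfl⟩
      rw [Subgroup.mem_comap, map_mul, map_mul, map_mul, map_inv, map_inv] at h
      exact h
    let θ : ↥(Cx x) →* ↥Zx := MonoidHom.mk' (fun d => ⟨_, hmem d⟩) fun a b => Subtype.ext (by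
      show pr z c * K.img (a * b) * (pr z c)⁻¹ * (K.img (a * b))⁻¹ =
        pr z c * K.img a * (pr z c)⁻¹ * (K.img a)⁻¹ * (pr z c * K.img b * (pr z c)⁻¹ * (K.img b)⁻¹)
      have e := hcent _ (⟨a, rfl⟩ : K.img a ∈ Mq) _ (hmem b)
      calc pr z c * K.img (a * b) * (pr z c)⁻¹ * (K.img (a * b))⁻¹
          = pr z c * K.img a * (pr z c)⁻¹ * (pr z c * K.img b * (pr z c)⁻¹ * (K.img b)⁻¹) * (K.img a)⁻¹ := by
            rw [map_mul]; group
        _ = pr z c * K.img a * (pr z c)⁻¹ * (K.img a)⁻¹ *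
            (K.img a * (pr z c * K.img b * (pr z c)⁻¹ * (K.img b)⁻¹)) * (K.img a)⁻¹ := by group
        _ = _ := by rw [e]; group)
    have hθ : (⊤ : Subgroup ↥(Cx x)) ≤ θ.ker := by
      rw [← hperf, Subgroup.commutator_le]
      intro a _ b _
      rw [MonoidHom.mem_ker, map_commutatorElement, commutatorElement_eq_one_iff_mul_comm]
      exact Subtype.ext (hcent _ (hsub (θ a).2) _ (θ b).2)
    have hθx : θ ⟨x, K.six.x_mem⟩ = 1 := MonoidHom.mem_ker.1 (hθ (Subgroup.mem_top _))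
    have hfix : pr z c * K.xb * (pr z c)⁻¹ * K.xb⁻¹ = 1 := congrArg Subtype.val hθx
    exact hcM' (K.mem_Cb.2 (mul_inv_eq_iff_eq_mul.1 (mul_inv_eq_one.1 hfix)))
  · haveI := hNn
    refine ⟨Subgroup.normal_subgroupOf, ?_⟩
    haveI : ((Zx.comap (pr z)).subgroupOf (Mq.comap (pr z))).Normal := Subgroup.normal_subgroupOf
    let ψ : ↥(Cx x) →* ↥(Mq.comap (pr z)) ⧸ (Zx.comap (pr z)).subgroupOf (Mq.comap (pr z)) :=
      (QuotientGroup.mk' _).comp (ι.codRestrict (Mq.comap (pr z)) fun d => ⟨d, rfl⟩)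
    have hψs : Function.Surjective ψ := fun w => by
      obtain ⟨⟨m, d, hd⟩, rfl⟩ := QuotientGroup.mk'_surjective _ w
      refine ⟨d, QuotientGroup.eq.2 (Subgroup.mem_subgroupOf.2 ?_)⟩
      rw [Subgroup.mem_comap]
      show pr z ((ι d)⁻¹ * m) ∈ Zx
      rw [map_mul, map_inv]
      show (K.img d)⁻¹ * pr z m ∈ Zx
      rw [hd, inv_mul_cancel]
      exact one_mem _
    have hker : ψ.ker = φ.ker := by
      ext d
      rw [MonoidHom.mem_ker, MonoidHom.mem_ker]
      show (QuotientGroup.mk (⟨ι d, _⟩ : ↥(Mq.comap (pr z))) :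
        ↥(Mq.comap (pr z)) ⧸ (Zx.comap (pr z)).subgroupOf (Mq.comap (pr z))) = 1 ↔ _
      rw [QuotientGroup.eq_one_iff, Subgroup.mem_subgroupOf, Subgroup.mem_comap]
      show K.img d ∈ Zx ↔ _
      have hx1 : φ ⟨x, K.six.x_mem⟩ = 1 := K.six.φx _
      have hz1 : φ ⟨z, K.six.z_mem⟩ = 1 := K.six.φz _
      constructor
      · intro hd
        obtain ⟨i, hi⟩ := Subgroup.mem_zpowers_iff.1 hd
        have h1 : K.img ((⟨x, K.six.x_mem⟩ : ↥(Cx x)) ^ (-i) * d) = 1 := by
          rw [map_mul, map_zpow, zpow_neg, ← hi]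
          exact inv_mul_cancel _
        have h2 : φ ((⟨x, K.six.x_mem⟩ : ↥(Cx x)) ^ (-i) * d) = 1 := by
          rcases K.img_eq_one.1 h1 with h | h
          · rw [show (⟨x, K.six.x_mem⟩ : ↥(Cx x)) ^ (-i) * d = 1 from Subtype.ext h, map_one]
          · rw [show (⟨x, K.six.x_mem⟩ : ↥(Cx x)) ^ (-i) * d = ⟨z, K.six.z_mem⟩ from Subtype.ext h, hz1]
        rwa [map_mul, map_zpow, hx1, one_zpow, one_mul] at h2
      · intro hd
        obtain ⟨i, j, hij⟩ := K.six.ker d hd
        rw [show d = (⟨x, K.six.x_mem⟩ : ↥(Cx x)) ^ i * (⟨z, K.six.z_mem⟩ : ↥(Cx x)) ^ j from Subtype.ext hij,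
          map_mul, map_pow, map_pow, show K.img ⟨z, K.six.z_mem⟩ = 1 from K.img_eq_one.2 (Or.inr rfl), one_pow, mul_one]
        exact pow_mem (Subgroup.mem_zpowers _) i
    exact ⟨(QuotientGroup.quotientKerEquivOfSurjective ψ hψs).symm.trans
      ((QuotientGroup.quotientMulEquivOfEq hker).trans (QuotientGroup.quotientKerEquivOfSurjective φ K.six.surj))⟩

end Cfsg.Agent.Spor.JFourConv.Conf
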