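import Cfsg.Agent.Lib.Spor.JFourConv.MathieuData

/-! No elementary abelian group of order 32 in the simple group on 22 points normalised by an element of order three. -/

set_option autoImplicit false
set_option maxRecDepth 100000

open Cfsg Cfsg.Agent.Spor.Golay Cfsg.Agent.Spor.JFour
open Cfsg.Agent.Block.Mathieu (eq_packed)

namespace Cfsg.Agent.Spor.JFourConv

theorem same_of_perm {a b : ℕ} (ha : valid a = true) (hb : valid b = true) (h : permOf a = permOf b) :
    same a b = true := by
  simp only [same, differ, Bool.not_eq_true', List.any_eq_false, List.mem_range, Bool.not_eq_true]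
  intro k hk
  rw [eq_packed ha hb h hk, Nat.beq_refl]
  simp

theorem perm_of_same {a b : ℕ} (ha : valid a = true) (hb : valid b = true) (h : same a b = true) :
    permOf a = permOf b := by
  simp only [same, differ, Bool.not_eq_true', List.any_eq_false, List.mem_range, Bool.not_eq_true,
    Bool.not_eq_false'] at h
  refine eq_permOf hb fun i hi => ?_
  rw [idx_permOf ha, idx_pt hi]
  exact Nat.eq_of_beq_eq_true (by simpa using h i hi)

theorem com_of_perm {a b : ℕ} (ha : valid a = true) (hb : valid b = true)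
    (h : permOf a * permOf b = permOf b * permOf a) : com a b = true := by
  rw [com, comp_eq_of_perm ha hb hb ha (by rw [permOf_comp ha hb, permOf_comp hb ha, h]), Nat.beq_refl]

theorem cx_spec {v : ℕ} (hv : valid v = true) :
    valid (cx v) = true ∧ permOf (cx v) = permOf (pk 4) * permOf v * (permOf (pk 4))⁻¹ := by
  have h4 := pk_valid 4
  refine ⟨valid_comp h4 (valid_comp hv (valid_comp h4 h4)), ?_⟩
  rw [cx, permOf_comp h4 (valid_comp hv (valid_comp h4 h4)), permOf_comp hv (valid_comp h4 h4), permOf_comp h4 h4,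
    ← mul_assoc]
  congr 1
  refine eq_inv_of_mul_eq_one_left ?_
  exact perm_three_facts.1

theorem valid_centList {i : ℕ} (h : i ∈ centList) : valid i = true := by
  have := List.all_eq_true.1 cent_exact.2.1 i h
  simp only [Bool.and_eq_true] at this
  exact this.1.2

set_option maxHeartbeats 1000000 in
/-- No elementary abelian group of order 32 normalised by an element of order three fixing only two of its
elements. -/
theorem no_thirtytwo {z x : M} (hx : orderOf x = 3) (hz : orderOf z = 2) (R : Subgroup M) (hzR : z ∈ R)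
    (hxz : x * z = z * x) (hab : ∀ a ∈ R, ∀ b ∈ R, a * b = b * a) (hsq : ∀ a ∈ R, a * a = 1)
    (hxR : ∀ a ∈ R, x * a * x⁻¹ ∈ R) (hfix : ∀ a ∈ R, x * a = a * x → a = 1 ∨ a = z) : Nat.card R ≤ 8 := by
  classical
  have h3 : x ^ 3 = 1 := by rw [← hx, pow_orderOf_eq_one]
  obtain ⟨h, hh, e⟩ := three_conj x.2 (by rw [← pow_three']; exact congrArg Subtype.val h3)
    (fun e => by rw [show x = 1 from Subtype.ext e, orderOf_one] at hx; omega)
  set X : M := ⟨permOf (pk 4), pk_mem (by norm_num)⟩ with hX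
  set c : M := ⟨h, hh⟩ with hc
  have hcX : c * x * c⁻¹ = X := Subtype.ext e
  set ψ : M ≃* M := MulAut.conj c with hψ
  have hψx : ψ x = X := hcX
  obtain ⟨i, hi, hiv, ei⟩ := mem_centList (ψ z).2 (by
    have := congrArg (fun t : M => (ψ t : Equiv.Perm GolayPt)) hxz.symm
    simpa [map_mul, hψx, hX] using this)
  have hzz : z * z = 1 := by rw [← pow_two, ← hz, pow_orderOf_eq_one]
  have hlist : ∀ a ∈ R, ∃ v ∈ goodList i, valid v = true ∧ permOf v = (ψ a : Equiv.Perm GolayPt) := by
    intro a ha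
    obtain ⟨v, hv, hvv, ev⟩ := mem_centOf hiv (ψ a).2 (by
      rw [ei]
      exact congrArg Subtype.val ((map_mul ψ a z).symm.trans ((congrArg ψ (hab a ha z hzR)).trans (map_mul ψ z a))))
    refine ⟨v, List.mem_filter.2 ⟨hv, ?_⟩, hvv, ev⟩
    obtain ⟨hcv, ec⟩ := cx_spec hvv
    obtain ⟨hcv2, ec2⟩ := cx_spec hcv
    have e1 : permOf (cx v) = (ψ (x * a * x⁻¹) : Equiv.Perm GolayPt) := by
      rw [ec, ev, map_mul, map_mul, map_inv, hψx]; rfl
    have e2 : permOf (cx (cx v)) = (ψ (x * (x * a * x⁻¹) * x⁻¹) : Equiv.Perm GolayPt) := by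
      rw [ec2, e1, map_mul ψ (x * (x * a * x⁻¹)), map_mul ψ x (x * a * x⁻¹), map_inv, hψx]; rfl
    simp only [good, Bool.and_eq_true, Bool.or_eq_true]
    refine ⟨by rw [comp_sq_eq_idP hvv (by rw [ev, ← Subgroup.coe_mul, ← map_mul, hsq a ha, map_one]; rfl)]
               exact Nat.beq_refl _, com_of_perm hvv hcv ?_, ?_⟩
    · rw [ev, e1, ← Subgroup.coe_mul, ← Subgroup.coe_mul, ← map_mul, ← map_mul, hab a ha _ (hxR a ha)]
    · have hb := hxR a ha
      have hc2 := hxR _ hb
      have hn : a * (x * a * x⁻¹ * (x * (x * a * x⁻¹) * x⁻¹)) ∈ R := mul_mem ha (mul_mem hb hc2)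
      have hfx : x * (a * (x * a * x⁻¹ * (x * (x * a * x⁻¹) * x⁻¹))) =
          (a * (x * a * x⁻¹ * (x * (x * a * x⁻¹) * x⁻¹))) * x := by
        rw [← mul_inv_eq_iff_eq_mul]
        calc x * (a * (x * a * x⁻¹ * (x * (x * a * x⁻¹) * x⁻¹))) * x⁻¹
            = (x * a * x⁻¹ * (x * (x * a * x⁻¹) * x⁻¹)) * (x ^ 3 * a * (x ^ 3)⁻¹) := by group
          _ = (x * a * x⁻¹ * (x * (x * a * x⁻¹) * x⁻¹)) * a := by rw [h3]; group
          _ = _ := hab _ (mul_mem hb hc2) _ ha
      have hperm : permOf (comp v (comp (cx v) (cx (cx v)))) =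
          (ψ (a * (x * a * x⁻¹ * (x * (x * a * x⁻¹) * x⁻¹))) : Equiv.Perm GolayPt) := by
        rw [permOf_comp hvv (valid_comp hcv hcv2), permOf_comp hcv hcv2, ev, e1, e2, map_mul ψ a,
          map_mul ψ (x * a * x⁻¹)]
        rfl
      have hnv := valid_comp hvv (valid_comp hcv hcv2)
      rcases hfix _ hn hfx with h1 | h1 <;> rw [h1] at hperm
      · exact Or.inl (same_of_perm hnv valid_idP (by rw [hperm, map_one, permOf_idP]; rfl))
      · exact Or.inr (same_of_perm hnv hiv (by rw [hperm, ei]))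
  by_cases hle : ∀ a ∈ R, a = 1 ∨ a = z
  · refine le_trans (Nat.card_le_card_of_injective (β := Fin 2) (fun a => if (a : M) = 1 then 0 else 1) fun a b hab' => ?_)
      (by simp)
    rcases hle a a.2 with h1 | h1 <;> rcases hle b b.2 with h2 | h2 <;> apply Subtype.ext <;>
      by_cases hz1 : z = 1 <;> simp_all
  simp only [not_forall, not_or] at hle
  obtain ⟨a, ha, ha1, haz⟩ := hle
  obtain ⟨v, hv, hvv, ev⟩ := hlist a ha
  have hchk := List.all_eq_true.1 no_group_check i hi
  rw [comp_sq_eq_idP hiv (by rw [ei, ← Subgroup.coe_mul, ← map_mul, hzz, map_one]; rfl), Nat.beq_refl] at hchk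
  simp only [Bool.not_true, Bool.false_or, Bool.or_eq_true, noGroup, List.all_eq_true] at hchk
  have hz1 : z ≠ 1 := fun e => by rw [e, orderOf_one] at hz; omega
  have hchk := hchk.resolve_left fun hsame => hz1 (by
    have := perm_of_same hiv valid_idP hsame
    rw [ei, permOf_idP] at this
    exact (map_eq_one_iff ψ ψ.injective).1 (Subtype.ext this))
  have hv' := hchk v hv
  have hall := (hv'.resolve_left fun hsame => by
    rcases hsame with hs | hs
    · have := perm_of_same hvv valid_idP hs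
      rw [ev, permOf_idP] at this
      exact ha1 ((map_eq_one_iff ψ ψ.injective).1 (Subtype.ext this))
    · have := perm_of_same hvv hiv hs
      rw [ev, ei] at this
      exact haz (ψ.injective (Subtype.ext this)))
  set t := x * a * x⁻¹ with ht
  set L : List M := [1, z, a, t, z * a, z * t, a * t, z * (a * t)] with hL
  have hsub : ∀ w ∈ R, w ∈ L := by
    intro w hw
    obtain ⟨u, hu, huv, eu⟩ := hlist w hw
    have hu' := hall u hu
    obtain ⟨hcv, ec⟩ := cx_spec hvv
    obtain ⟨hcu, ecu⟩ := cx_spec huv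
    have e1 : permOf (cx v) = (ψ t : Equiv.Perm GolayPt) := by
      rw [ec, ev, ht, map_mul, map_mul, map_inv, hψx]; rfl
    have e2 : permOf (cx u) = (ψ (x * w * x⁻¹) : Equiv.Perm GolayPt) := by
      rw [ecu, eu, map_mul, map_mul, map_inv, hψx]; rfl
    have hcom : ∀ {P Q : ℕ} {p q : M}, valid P = true → valid Q = true → permOf P = (ψ p : Equiv.Perm GolayPt) →
        permOf Q = (ψ q : Equiv.Perm GolayPt) → p ∈ R → q ∈ R → com P Q = true := fun hP hQ eP eQ hp hq =>
      com_of_perm hP hQ (by rw [eP, eQ, ← Subgroup.coe_mul, ← Subgroup.coe_mul, ← map_mul, ← map_mul, hab _ hp _ hq])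
    rw [hcom hvv huv ev eu ha hw, hcom hcv huv e1 eu (hxR a ha) hw, hcom hvv hcu ev e2 ha (hxR w hw)] at hu'
    simp only [Bool.and_self, Bool.not_true, Bool.false_eq_true, false_or, List.any_eq_true, span8] at hu'
    obtain ⟨s, hs, hsame⟩ := hu'
    have key : ∀ (P : ℕ) (p : M), valid P = true → permOf P = (ψ p : Equiv.Perm GolayPt) → same P u = true → w = p :=
      fun P p hP eP h => ψ.injective (Subtype.ext (by rw [← eu, ← perm_of_same hP huv h, eP]))
    have cmul : ∀ {P Q : ℕ} {p q : M}, valid P = true → valid Q = true → permOf P = (ψ p : Equiv.Perm GolayPt) →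
        permOf Q = (ψ q : Equiv.Perm GolayPt) → permOf (comp P Q) = (ψ (p * q) : Equiv.Perm GolayPt) :=
      fun hP hQ eP eQ => by rw [permOf_comp hP hQ, eP, eQ, map_mul]; rfl
    simp only [List.mem_cons, List.not_mem_nil, or_false] at hs
    simp only [hL, List.mem_cons, List.not_mem_nil, or_false]
    rcases hs with es | es | es | es | es | es | es | es <;> rw [es] at hsame
    · exact Or.inl (key _ 1 valid_idP (by rw [permOf_idP, map_one]; rfl) hsame)
    · exact Or.inr (Or.inl (key _ z hiv ei hsame))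
    · exact Or.inr (Or.inr (Or.inl (key _ a hvv ev hsame)))
    · exact Or.inr (Or.inr (Or.inr (Or.inl (key _ t hcv e1 hsame))))
    · exact Or.inr (Or.inr (Or.inr (Or.inr (Or.inl (key _ (z * a) (valid_comp hiv hvv) (cmul hiv hvv ei ev) hsame)))))
    · exact Or.inr (Or.inr (Or.inr (Or.inr (Or.inr (Or.inl
        (key _ (z * t) (valid_comp hiv hcv) (cmul hiv hcv ei e1) hsame))))))
    · exact Or.inr (Or.inr (Or.inr (Or.inr (Or.inr (Or.inr (Or.inl
        (key _ (a * t) (valid_comp hvv hcv) (cmul hvv hcv ev e1) hsame)))))))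
    · exact Or.inr (Or.inr (Or.inr (Or.inr (Or.inr (Or.inr (Or.inr
        (key _ (z * (a * t)) (valid_comp hiv (valid_comp hvv hcv))
          (cmul hiv (valid_comp hvv hcv) ei (cmul hvv hcv ev e1)) hsame)))))))
  refine le_trans (Nat.card_le_card_of_injective (fun w : R => (⟨(w : M), List.mem_toFinset.2 (hsub w w.2)⟩ :
    ↥L.toFinset)) fun a b e => Subtype.ext (congrArg (fun u : ↥L.toFinset => (u : M)) e)) ?_
  rw [Nat.card_eq_finsetCard]
  exact (List.toFinset_card_le _).trans (by simp [hL])

end Cfsg.Agent.Spor.JFourConv
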