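import Cfsg.Agent.Lib.Spor.JFourType.ThreePerm
import Cfsg.Agent.Lib.Block.Mathieu.DefectZero22

/-!
Facts on the simple group on 22 points: centralisers of elements of odd prime order, and no elementary
abelian group of order 32 normalised by an element of order three with fixed points of order two.
-/

set_option autoImplicit false
set_option maxRecDepth 100000

open Cfsg Cfsg.Agent.Spor.Golay Cfsg.Agent.Spor.JFour
open Cfsg.Agent.Block.Mathieu (relTest relTest_ok relFull relFull_ok allOf mem_allOf eq_packed in22 permOf_mem22)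

namespace Cfsg.Agent.Spor.JFourConv

/-- The group. -/
abbrev M : Type := ↥Cfsg.Spor.M22

open Cfsg.Agent.Block.Mathieu in
theorem prime_cent {p : ℕ} (hp : p = 5 ∨ p = 7 ∨ p = 11) {a b : M} (ha : orderOf a = p) (hab : b * a = a * b) :
    b ∈ Subgroup.zpowers a := by
  classical
  obtain ⟨X, hXo, hX⟩ : ∃ X : M, orderOf X = p ∧ Nat.card ↥(Subgroup.centralizer ({X} : Set M)) ≤ p := by
    have key : ∀ {x aa ai e u v : ℕ}, transOk x aa ai e u v = true → orderOf (permOf e) = p →
        ((conjList e e).filter (keepTwo u v)).length ≤ p →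
        ∃ X : M, orderOf X = p ∧ Nat.card ↥(Subgroup.centralizer ({X} : Set M)) ≤ p := by
      intro x aa ai e u v h hord hc
      obtain ⟨ham, he, hx, hconj, hkeep⟩ := trans_spec h
      refine ⟨⟨_, hx⟩, ?_, centralizer_bound Cfsg.Spor.M22 le24 ham _ hkeep he hconj hc⟩
      rw [← Subgroup.orderOf_coe, ← hord, ← hconj]
      exact ((MulAut.conj (permOf aa)⁻¹).orderOf_eq _).symm.trans (by simp [MulAut.conj_apply])
    rcases hp with rfl | rfl | rfl
    · exact key trans5 orderOf_e5 cent5.2
    · exact key trans7 orderOf_e7 cent7.2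
    · exact key trans11 orderOf_e11 cent11.2
  haveI : Fact p.Prime := ⟨by rcases hp with rfl | rfl | rfl <;> norm_num⟩
  have hf : (Nat.card M).factorization p = 1 := by
    rw [Fus.Mathieu.card22]
    have h1 := (Nat.Prime.pow_dvd_iff_le_factorization (p := p) (k := 1) (n := 443520) Fact.out (by norm_num)).1
      (by rcases hp with rfl | rfl | rfl <;> norm_num)
    have h2 : ¬ 2 ≤ (443520 : ℕ).factorization p := fun h => absurd
      ((Nat.Prime.pow_dvd_iff_le_factorization (p := p) Fact.out (by norm_num)).2 h)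
      (by rcases hp with rfl | rfl | rfl <;> norm_num)
    omega
  obtain ⟨g, hg⟩ := MulAction.exists_smul_eq M
    (Sylow.ofCard (Subgroup.zpowers a) (by rw [Nat.card_zpowers, ha, hf, pow_one]) : Sylow p M)
    (Sylow.ofCard (Subgroup.zpowers X) (by rw [Nat.card_zpowers, hXo, hf, pow_one]))
  have h2 := congrArg (fun T : Sylow p M => (T : Subgroup M)) hg
  simp only [Sylow.coe_ofCard] at h2
  have h3 : ∀ c : M, c ∈ Subgroup.centralizer ({a} : Set M) → g * c * g⁻¹ ∈ Subgroup.centralizer ({X} : Set M) := by
    intro c hc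
    rw [Subgroup.mem_centralizer_singleton_iff] at hc ⊢
    have hX' : X ∈ (Subgroup.zpowers a).map (MulAut.conj g).toMonoidHom :=
      (show (Subgroup.zpowers a).map (MulAut.conj g).toMonoidHom = Subgroup.zpowers X by rw [← h2]; rfl) ▸
        Subgroup.mem_zpowers X
    obtain ⟨w, hw, rfl⟩ := Subgroup.mem_map.1 hX'
    obtain ⟨i, rfl⟩ := Subgroup.mem_zpowers_iff.1 hw
    have hcomm : Commute c (a ^ i) := (show Commute c a from hc).zpow_right i
    show g * c * g⁻¹ * (g * a ^ i * g⁻¹) = g * a ^ i * g⁻¹ * (g * c * g⁻¹)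
    rw [show g * c * g⁻¹ * (g * a ^ i * g⁻¹) = g * (c * a ^ i) * g⁻¹ by group, hcomm.eq]
    group
  have hca : Nat.card ↥(Subgroup.centralizer ({a} : Set M)) ≤ p := by
    refine le_trans (Nat.card_le_card_of_injective (fun c => (⟨_, h3 c c.2⟩ : ↥(Subgroup.centralizer ({X} : Set M))))
      fun c d e => ?_) hX
    exact Subtype.ext (mul_left_cancel (mul_right_cancel (congrArg Subtype.val e)))
  have heq : Subgroup.zpowers a = Subgroup.centralizer ({a} : Set M) :=
    Subgroup.eq_of_le_of_card_ge (Subgroup.zpowers_le.2 (Subgroup.mem_centralizer_singleton_iff.2 rfl))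
      (by rw [Nat.card_zpowers, ha]; exact hca)
  exact heq ▸ Subgroup.mem_centralizer_singleton_iff.2 hab

theorem coprime_comm_eq_one {p : ℕ} (hp : p = 5 ∨ p = 7 ∨ p = 11) {a b : M} (ha : orderOf a = p)
    (hab : b * a = a * b) {r : ℕ} (hr : Nat.Coprime r p) (hb : b ^ r = 1) : b = 1 := by
  obtain ⟨i, rfl⟩ := Subgroup.mem_zpowers_iff.1 (prime_cent hp ha hab)
  have hp' : orderOf (a ^ i) ∣ p := orderOf_dvd_of_pow_eq_one (by
    rw [← zpow_natCast, ← zpow_mul, mul_comm, zpow_mul, zpow_natCast, ← ha, pow_orderOf_eq_one, one_zpow])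
  exact orderOf_eq_one_iff.1 (Nat.eq_one_of_dvd_coprimes hr (orderOf_dvd_of_pow_eq_one hb) hp')

/-- Differing packed permutations. -/
def differ (R T : ℕ) : Bool := (List.range 24).any fun i => !(Nat.beq (Golay.get R i) (Golay.get T i))

set_option maxHeartbeats 0 in
theorem cent_exact : centList.length = 36 ∧
    (centList.all fun R => in22 R && valid R && relFull (pk 4) (pk 4) R) = true ∧
    ((List.range 36).all fun i => (List.range 36).all fun j => Nat.beq i j ||
      differ (centList.getD i 0) (centList.getD j 0)) = true := by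
  decide +kernel

theorem card_cent_pk : Nat.card ↥(Cfsg.Spor.M22 ⊓
    Subgroup.centralizer ({permOf (pk 4)} : Set (Equiv.Perm GolayPt))) = 36 := by
  classical
  obtain ⟨hlen, hall, hdiff⟩ := cent_exact
  simp only [List.all_eq_true, Bool.and_eq_true, List.mem_range, Bool.or_eq_true] at hall hdiff
  set C := Cfsg.Spor.M22 ⊓ Subgroup.centralizer ({permOf (pk 4)} : Set (Equiv.Perm GolayPt))
  have hget : ∀ i : Fin 36, centList.getD i 0 ∈ centList := fun i => by
    have hi : (i : ℕ) < centList.length := by rw [hlen]; exact i.2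
    rw [List.getD_eq_getElem _ _ hi]
    exact List.getElem_mem _
  have hmem : ∀ i : Fin 36, permOf (centList.getD i 0) ∈ C := fun i => by
    obtain ⟨⟨h22, hv⟩, hrel⟩ := hall _ (hget i)
    refine ⟨permOf_mem22 h22, Subgroup.mem_centralizer_singleton_iff.2 ?_⟩
    show permOf (centList.getD i 0) * permOf (pk 4) = _
    rw [← permOf_comp hv (pk_valid 4), ← permOf_comp (pk_valid 4) hv, Nat.eq_of_beq_eq_true hrel]
  refine (Nat.card_eq_of_bijective (fun i : Fin 36 => (⟨_, hmem i⟩ : ↥C)) ⟨fun i j e => ?_, fun g => ?_⟩).symm.trans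
    (by simp)
  · by_contra hij
    rcases hdiff i i.2 j j.2 with h | h
    · exact hij (Fin.ext (Nat.eq_of_beq_eq_true h))
    simp only [differ, List.any_eq_true, List.mem_range, Bool.not_eq_true'] at h
    obtain ⟨k, hk, hne⟩ := h
    have := eq_packed ((hall _ (hget i)).1.2) ((hall _ (hget j)).1.2) (congrArg Subtype.val e) hk
    rw [this, Nat.beq_refl] at hne
    exact Bool.noConfusion hne
  · obtain ⟨R, hR, -, e⟩ := mem_centList g.2.1 (Subgroup.mem_centralizer_singleton_iff.1 g.2.2)
    obtain ⟨k, hk, rfl⟩ := List.mem_iff_getElem.1 hR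
    refine ⟨⟨k, hlen ▸ hk⟩, Subtype.ext ?_⟩
    show permOf (centList.getD k 0) = _
    rw [List.getD_eq_getElem _ _ hk, e]

theorem three_class {a b : M} (ha : orderOf a = 3) (hb : orderOf b = 3) : IsConj a b := by
  have key : ∀ c : M, orderOf c = 3 → IsConj c (⟨permOf (pk 4), pk_mem (by norm_num)⟩ : M) := fun c hc => by
    have h3 : c ^ 3 = 1 := by rw [← hc, pow_orderOf_eq_one]
    obtain ⟨h, hh, e⟩ := three_conj c.2 (by rw [← pow_three']; exact congrArg Subtype.val h3)
      (fun e => by rw [show c = 1 from Subtype.ext e, orderOf_one] at hc; omega)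
    exact isConj_iff.2 ⟨⟨h, hh⟩, Subtype.ext e⟩
  exact (key a ha).trans (key b hb).symm

theorem card_cent_three {a : M} (ha : orderOf a = 3) :
    Nat.card ↥(Subgroup.centralizer ({a} : Set M)) = 36 := by
  have h3 : a ^ 3 = 1 := by rw [← ha, pow_orderOf_eq_one]
  obtain ⟨h, hh, e⟩ := three_conj a.2 (by rw [← pow_three']; exact congrArg Subtype.val h3)
    (fun e => by rw [show a = 1 from Subtype.ext e, orderOf_one] at ha; omega)
  rw [← card_cent_pk]
  refine Nat.card_congr
    { toFun := fun c => ⟨h * ((c : M) : Equiv.Perm GolayPt) * h⁻¹, Cfsg.Spor.M22.mul_mem (Cfsg.Spor.M22.mul_mem hh (c : M).2) (Cfsg.Spor.M22.inv_mem hh),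
        Subgroup.mem_centralizer_singleton_iff.2 ?_⟩
      invFun := fun c => ⟨⟨h⁻¹ * (c : Equiv.Perm GolayPt) * h, mul_mem (mul_mem (inv_mem hh) c.2.1) hh⟩,
        Subgroup.mem_centralizer_singleton_iff.2 (Subtype.ext ?_)⟩
      left_inv := fun c => Subtype.ext (Subtype.ext (by simp [mul_assoc]))
      right_inv := fun c => Subtype.ext (by simp [mul_assoc]) }
  · have := congrArg Subtype.val (Subgroup.mem_centralizer_singleton_iff.1 c.2)
    simp only [Subgroup.coe_mul] at this
    rw [← e, show h * ((c : M) : Equiv.Perm GolayPt) * h⁻¹ * (h * (a : Equiv.Perm GolayPt) * h⁻¹) =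
      h * (((c : M) : Equiv.Perm GolayPt) * a) * h⁻¹ by group, this]
    group
  · have := (Subgroup.mem_centralizer_singleton_iff.1 c.2.2).trans (congrArg (· * (c : Equiv.Perm GolayPt)) e.symm)
    replace this : (c : Equiv.Perm GolayPt) * (h * a * h⁻¹) = h * a * h⁻¹ * (c : Equiv.Perm GolayPt) :=
      (congrArg ((c : Equiv.Perm GolayPt) * ·) e).trans this
    show h⁻¹ * (c : Equiv.Perm GolayPt) * h * a = a * (h⁻¹ * (c : Equiv.Perm GolayPt) * h)
    rw [show h⁻¹ * (c : Equiv.Perm GolayPt) * h * a = h⁻¹ * ((c : Equiv.Perm GolayPt) * (h * a * h⁻¹)) * h by group,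
      this]
    group

/-- The search test for the centraliser of a packed element. -/
def baseTestE (E Q : ℕ) (cs : List ℕ) : Bool :=
  relTest E E Q cs && cs.all fun c => Nat.blt 1 c || Nat.beq (Golay.get Q c) c

/-- The centraliser of a packed element. -/
def centOf (x : ℕ) : List ℕ :=
  let E := comp baseAi (comp x baseA)
  ((allOf (baseTestE E)).filter (relFull E E)).map fun R => comp baseA (comp R baseAi)

theorem mem_centOf {x : ℕ} (hx : valid x = true) {g : Equiv.Perm GolayPt} (hg : g ∈ Cfsg.Spor.M22)
    (hc : g * permOf x = permOf x * g) : ∃ R ∈ centOf x, valid R = true ∧ permOf R = g := by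
  obtain ⟨ha, hai, -, hinv, -, a0, a1⟩ := base_check
  have hva : valid baseA = true := by
    rw [inM24, Bool.and_eq_true] at ha
    exact ha.1
  set E := comp baseAi (comp x baseA) with hEdef
  have hev : valid E = true := valid_comp hai (valid_comp hx hva)
  have hinv' : permOf baseAi = (permOf baseA)⁻¹ :=
    eq_inv_of_mul_eq_one_left (by rw [← permOf_comp hai hva, hinv, permOf_idP])
  have hEp : permOf E = (permOf baseA)⁻¹ * (permOf x * permOf baseA) := by
    rw [hEdef, permOf_comp hai (valid_comp hx hva), permOf_comp hx hva, hinv']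
  set g' := (permOf baseA)⁻¹ * g * permOf baseA with hg'
  have hM := mem_Fix.1 (Fus.Mathieu.fix22 ▸ hg)
  have hfix : ∀ i, i = 0 ∨ i = 23 → g (pt i) = pt i := by
    have h1 := hM.2.1 8388608 (by simp)
    have h2 := hM.2.1 1 (by simp)
    rintro i (rfl | rfl)
    · rw [Fus.Mathieu.pts_zero, Finset.smul_finset_singleton, Finset.singleton_inj] at h2
      rw [show pt 0 = (some 0 : GolayPt) by decide]; exact h2
    · rw [Fus.Mathieu.pts_top, Finset.smul_finset_singleton, Finset.singleton_inj] at h1
      rw [show pt 23 = (none : GolayPt) by decide]; exact h1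
  have hbase : ∀ c ≤ 1, g' (pt c) = pt c := by
    intro c hc
    have h : permOf baseA (pt c) = pt (Golay.get baseA c) := by
      rw [permOf_apply hva, Golay.app, idx_pt (by omega)]
    have h2 : g (permOf baseA (pt c)) = permOf baseA (pt c) := by
      rw [h]
      refine hfix _ ?_
      interval_cases c
      exacts [Or.inl a0, Or.inr a1]
    rw [hg', Equiv.Perm.mul_apply, Equiv.Perm.mul_apply, h2]
    exact (permOf baseA).symm_apply_apply _
  have hcomm : g' * permOf E = permOf E * g' := by
    rw [hEp, hg']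
    calc (permOf baseA)⁻¹ * g * permOf baseA * ((permOf baseA)⁻¹ * (permOf x * permOf baseA))
        = (permOf baseA)⁻¹ * (g * permOf x) * permOf baseA := by group
      _ = (permOf baseA)⁻¹ * (permOf x * g) * permOf baseA := by rw [hc]
      _ = _ := by group
  have hg24 : g' ∈ M24 := mul_mem (mul_mem (inv_mem (permOf_mem_M24 ha)) hM.1) (permOf_mem_M24 ha)
  obtain ⟨R, hR, hv, e⟩ := mem_allOf hg24 (test := baseTestE E) fun Q cs hQ h => by
    simp only [baseTestE, Bool.and_eq_true, List.all_eq_true, Bool.or_eq_true]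
    refine ⟨relTest_ok hev hev hcomm hQ h, fun c hcs => ?_⟩
    by_cases h1 : c ≤ 1
    · have h2 := congrArg idx ((h c hcs).trans (hbase c h1))
      rw [idx_permOf hQ, idx_pt (by omega)] at h2
      exact Or.inr (by rw [h2]; exact Nat.beq_refl _)
    · exact Or.inl (by simp [Nat.blt]; omega)
  refine ⟨comp baseA (comp R baseAi),
    List.mem_map.2 ⟨R, List.mem_filter.2 ⟨hR, relFull_ok hev hev hv ?_⟩, rfl⟩,
    valid_comp hva (valid_comp hv hai), ?_⟩
  · rw [e]; exact hcomm
  · rw [permOf_comp hva (valid_comp hv hai), permOf_comp hv hai, e, hinv', hg']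
    group

/-- Conjugation by the first generator. -/
def cx (v : ℕ) : ℕ := comp (pk 4) (comp v (comp (pk 4) (pk 4)))

/-- Commuting packed elements. -/
def com (a b : ℕ) : Bool := Nat.beq (comp a b) (comp b a)

/-- The same permutation. -/
def same (a b : ℕ) : Bool := !(differ a b)

/-- The norm of an element lies in the group of the involution. -/
def good (i v : ℕ) : Bool :=
  let t := cx v
  let n := comp v (comp t (cx t))
  com v t && (same n idP || same n i)

/-- The group generated by the involution, an element and its conjugate. -/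
def span8 (i v : ℕ) : List ℕ :=
  let t := cx v
  [idP, i, v, t, comp i v, comp i t, comp v t, comp i (comp v t)]

/-- The candidates for an element of such a group. -/
def goodList (i : ℕ) : List ℕ :=
  (centOf i).filter fun v => Nat.beq (comp v v) idP && good i v

/-- The check for one involution. -/
def noGroup (i : ℕ) : Bool :=
  let L := goodList i
  L.all fun v => same v idP || same v i || L.all fun w =>
    !(com v w && com (cx v) w && com v (cx w)) || (span8 i v).any fun s => same s w

set_option maxHeartbeats 0 in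
theorem no_group_check :
    (centList.all fun i => !(Nat.beq (comp i i) idP) || same i idP || noGroup i) = true := by
  decide +kernel

end Cfsg.Agent.Spor.JFourConv
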