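import Cfsg.Agent.Lib.Spor.JFourConv.Extra

/-!
The centraliser of the involution modulo its core: the normaliser of the image of `x`, and elements of order
three fixing one of its cosets.
-/

set_option autoImplicit false
set_option linter.style.haveILetI false

open Cfsg

namespace Cfsg.Agent.Spor.JFourConv

/-- The elements centralising or inverting an element. -/
def invOrFix {Q : Type*} [Group Q] (a : Q) : Subgroup Q where
  carrier := {q | q * a * q⁻¹ = a ∨ q * a * q⁻¹ = a⁻¹}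
  one_mem' := Or.inl (by simp)
  mul_mem' := by
    intro p q hp hq
    show p * q * a * (p * q)⁻¹ = a ∨ p * q * a * (p * q)⁻¹ = a⁻¹
    rw [show p * q * a * (p * q)⁻¹ = p * (q * a * q⁻¹) * p⁻¹ by group]
    rcases hq with h | h <;> rcases hp with h' | h' <;> rw [h]
    · exact Or.inl h'
    · exact Or.inr h'
    · exact Or.inr (by rw [← conj_inv, h'])
    · exact Or.inl (by rw [← conj_inv, h', inv_inv])
  inv_mem' := by
    intro q hq
    show q⁻¹ * a * q⁻¹⁻¹ = a ∨ q⁻¹ * a * q⁻¹⁻¹ = a⁻¹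
    rcases hq with h | h
    · exact Or.inl (by conv_lhs => rw [← h]
                       group)
    · refine Or.inr ?_
      have h' : q * a⁻¹ * q⁻¹ = a := by rw [← conj_inv, h, inv_inv]
      conv_lhs => rw [← h']
      group

theorem mem_invOrFix {Q : Type*} [Group Q] {a q : Q} :
    q ∈ invOrFix a ↔ q * a * q⁻¹ = a ∨ q * a * q⁻¹ = a⁻¹ := Iff.rfl

variable {G : Type*} [Group G] [Finite G]

/-- The core inside the centraliser. -/
abbrev Ez (z : G) : Subgroup ↥(Cx z) := (twoCoreOfCentralizer z).subgroupOf (Cx z)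

instance Ez_normal (z : G) : (Ez z).Normal :=
  ⟨fun e he c => Subgroup.mem_subgroupOf.2 (by simpa using core_conj (mem_Cx.1 c.2) (Subgroup.mem_subgroupOf.1 he))⟩

/-- The centraliser modulo the core. -/
abbrev Qt (z : G) : Type _ := ↥(Cx z) ⧸ Ez z

/-- The projection. -/
abbrev pr (z : G) : ↥(Cx z) →* Qt z := QuotientGroup.mk' (Ez z)

theorem pr_eq_one {z : G} {c : ↥(Cx z)} : pr z c = 1 ↔ (c : G) ∈ twoCoreOfCentralizer z :=
  (QuotientGroup.eq_one_iff _).trans Subgroup.mem_subgroupOf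

theorem card_Ez (z : G) : Nat.card (Ez z) = Nat.card ↥(twoCoreOfCentralizer z) :=
  Nat.card_congr (Subgroup.subgroupOfEquivOfLe (core_le z)).toEquiv

namespace Conf

variable {x z y o : G} {φ : ↥(Subgroup.centralizer ({x} : Set G)) →* M} (K : Conf x z y o φ)
include K

local notation "E" => twoCoreOfCentralizer z

theorem cube_one {c : ↥(Cx z)} (h : c ^ 3 = 1) (he : pr z c = 1) : c = 1 := by
  haveI : Fact (Nat.Prime 2) := ⟨Nat.prime_two⟩
  obtain ⟨k, hk⟩ := core_pgroup z ⟨(c : G), pr_eq_one.1 he⟩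
  have hk' : c ^ 2 ^ k = 1 := Subtype.ext (by
    simpa using congrArg (fun e : ↥E => (e : G)) hk)
  have := pow_gcd_eq_one.2 ⟨h, hk'⟩
  rwa [show Nat.gcd 3 (2 ^ k) = 1 from Nat.Coprime.pow_right k (by norm_num), pow_one] at this

/-- Elements of order three with the same image are conjugate under the core. -/
theorem lift_three {c c' : ↥(Cx z)} (hc : c ^ 3 = 1) (hc' : c' ^ 3 = 1) (he : pr z c = pr z c') :
    ∃ e ∈ Ez z, c' = e * c * e⁻¹ := by
  classical
  by_cases h1 : pr z c = 1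
  · exact ⟨1, one_mem _, by rw [K.cube_one hc h1, K.cube_one hc' (he ▸ h1)]; group⟩
  haveI : Fact (Nat.Prime 3) := ⟨Nat.prime_three⟩
  set H := Ez z ⊔ Subgroup.zpowers c with hH
  have hcH : c ∈ H := Subgroup.mem_sup_right (Subgroup.mem_zpowers c)
  have hc'H : c' ∈ H := by
    have h : c⁻¹ * c' ∈ Ez z := QuotientGroup.eq.1 he
    have := mul_mem hcH (Subgroup.mem_sup_left (T := Subgroup.zpowers c) h)
    rwa [mul_inv_cancel_left] at this
  have hord : orderOf c = 3 := orderOf_eq_prime hc fun e => h1 (by rw [e, map_one])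
  have hord' : orderOf c' = 3 := orderOf_eq_prime hc' fun e => h1 (by rw [he, e, map_one])
  have hcard : Nat.card H = 3 * 2 ^ 13 := by
    have hmap : H.map (pr z) = Subgroup.zpowers (pr z c) := by
      rw [hH, Subgroup.map_sup, QuotientGroup.map_mk'_self, bot_sup_eq, MonoidHom.map_zpowers]
    have hk : ((pr z).comp H.subtype).ker = (Ez z).subgroupOf H := by
      ext t
      rw [MonoidHom.mem_ker, Subgroup.mem_subgroupOf]
      exact (QuotientGroup.eq_one_iff _)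
    have h := ((pr z).comp H.subtype).ker.card_mul_index
    rw [Subgroup.index_ker, MonoidHom.range_comp, Subgroup.range_subtype, hmap, hk,
      Nat.card_congr (Subgroup.subgroupOfEquivOfLe (le_sup_left : Ez z ≤ H)).toEquiv, card_Ez, K.cards.1,
      Nat.card_zpowers, orderOf_eq_prime (p := 3) (by rw [← map_pow, hc, map_one]) h1] at h
    rw [← h, mul_comm]
  have hfac : 3 ^ (Nat.card H).factorization 3 = 3 := by
    rw [hcard, Nat.factorization_mul (by norm_num) (by norm_num), Finsupp.add_apply,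
      Nat.prime_three.factorization_self, Nat.Prime.factorization_pow Nat.prime_two]
    simp
  obtain ⟨g, hg⟩ := MulAction.exists_smul_eq ↥H
    (Sylow.ofCard (Subgroup.zpowers (⟨c, hcH⟩ : ↥H)) (by rw [Nat.card_zpowers, Subgroup.orderOf_mk, hord, hfac]) : Sylow 3 ↥H)
    (Sylow.ofCard (Subgroup.zpowers (⟨c', hc'H⟩ : ↥H)) (by rw [Nat.card_zpowers, Subgroup.orderOf_mk, hord', hfac]) : Sylow 3 ↥H)
  have h2 := congrArg (fun T : Sylow 3 ↥H => (T : Subgroup ↥H)) hg
  simp only [Sylow.coe_ofCard] at h2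
  have hm : g * ⟨c, hcH⟩ * g⁻¹ ∈ Subgroup.zpowers (⟨c', hc'H⟩ : ↥H) := by
    rw [← h2]
    exact Subgroup.mem_map.2 ⟨_, Subgroup.mem_zpowers _, rfl⟩
  obtain ⟨i, hi⟩ := Subgroup.mem_zpowers_iff.1 hm
  have hi' : c' ^ i = (g : ↥(Cx z)) * c * (g : ↥(Cx z))⁻¹ := by
    simpa using congrArg Subtype.val hi
  obtain ⟨e, hee, k, hk, hgk⟩ := Subgroup.mem_sup_of_normal_left.1 g.2
  have hkc : k * c * k⁻¹ = c := by
    obtain ⟨j, rfl⟩ := Subgroup.mem_zpowers_iff.1 hk
    group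
  have hconj : c' ^ i = e * c * e⁻¹ := by
    rw [hi', ← hgk, show e * k * c * (e * k)⁻¹ = e * (k * c * k⁻¹) * e⁻¹ by group, hkc]
  have hpe : pr z e = 1 := (QuotientGroup.eq_one_iff _).2 hee
  have hp : (pr z c) ^ (i - 1) = 1 := by
    have h := congrArg (pr z) hconj
    rw [map_zpow, map_mul, map_mul, map_inv, hpe, one_mul, inv_one, mul_one, ← he] at h
    rw [zpow_sub, h, zpow_one, mul_inv_cancel]
  have h3 : (3 : ℤ) ∣ i - 1 := by
    have := orderOf_dvd_iff_zpow_eq_one.2 hp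
    rwa [orderOf_eq_prime (p := 3) (by rw [← map_pow, hc, map_one]) h1] at this
  refine ⟨e, hee, ?_⟩
  rw [← hconj]
  obtain ⟨j, hj⟩ := h3
  rw [show i = 3 * j + 1 by omega, zpow_add, zpow_mul, zpow_ofNat, hc', one_zpow, one_mul, zpow_one]

/-- An element of order three of the quotient comes from one in the centraliser. -/
theorem exists_lift_three {q : Qt z} (hq : q ^ 3 = 1) : ∃ c, pr z c = q ∧ c ^ 3 = 1 := by
  obtain ⟨c, rfl⟩ := QuotientGroup.mk'_surjective (Ez z) q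
  refine ⟨c ^ 4 ^ 13, ?_, ?_⟩
  · rw [map_pow, pow_eq_pow_mod (4 ^ 13) hq, show 4 ^ 13 % 3 = 1 by norm_num, pow_one]
  · have h : c ^ 3 ∈ Ez z := (QuotientGroup.eq_one_iff _).1 (by rw [← hq]; rfl)
    have h13 : (⟨c ^ 3, h⟩ : ↥(Ez z)) ^ 2 ^ 13 = 1 := by
      rw [← K.cards.1, ← card_Ez, pow_card_eq_one']
    have h' : (c ^ 3) ^ 2 ^ 13 = 1 := congrArg Subtype.val h13
    rw [← pow_mul] at h'
    rw [← pow_mul, show 4 ^ 13 * 3 = 3 * 2 ^ 13 * 2 ^ 13 by norm_num, pow_mul, h', one_pow]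

/-- Commuting with the image of an element of order three. -/
theorem lift_comm {c d : ↥(Cx z)} (hc : c ^ 3 = 1) (h : pr z d * pr z c = pr z c * pr z d) :
    ∃ d', pr z d' = pr z d ∧ d' * c = c * d' := by
  obtain ⟨e, he, hd⟩ := K.lift_three hc (c' := d * c * d⁻¹) (by rw [conj_pow, hc]; group)
    (by rw [map_mul, map_mul, map_inv, h, mul_inv_cancel_right])
  refine ⟨e⁻¹ * d, by rw [map_mul, map_inv, (QuotientGroup.eq_one_iff _).2 he |> fun h' => (show pr z e = 1 from h'),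
    inv_one, one_mul], ?_⟩
  calc e⁻¹ * d * c = e⁻¹ * (d * c * d⁻¹) * d := by group
    _ = e⁻¹ * (e * c * e⁻¹) * d := by rw [hd]
    _ = c * (e⁻¹ * d) := by group

theorem le_Cx : Cx x ≤ Cx z := fun _ hc => mem_Cx.2 (K.comm_z hc)

/-- The image of the centraliser of `x`. -/
def img : ↥(Cx x) →* Qt z := (pr z).comp (Subgroup.inclusion K.le_Cx)

/-- The image of `x`. -/
def xb : Qt z := K.img ⟨x, K.six.x_mem⟩

/-- The normaliser of the image of `x`. -/
def Nb : Subgroup (Qt z) := invOrFix K.xb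

theorem img_eq (c : ↥(Cx x)) : K.img c = pr z ⟨c, K.le_Cx c.2⟩ := rfl

theorem img_eq_one {c : ↥(Cx x)} : K.img c = 1 ↔ (c : G) = 1 ∨ (c : G) = z := by
  rw [img_eq, pr_eq_one]
  constructor
  · exact fun h => K.fix_x h (mem_Cx.1 c.2).symm
  · rintro (h | h) <;> rw [h]
    exacts [one_mem _, K.z_mem]

theorem xb3 : K.xb ^ 3 = 1 := by
  rw [xb, ← map_pow, show (⟨x, K.six.x_mem⟩ : ↥(Cx x)) ^ 3 = 1 from Subtype.ext K.six.x3, map_one]

theorem xb_ne : K.xb ≠ 1 := fun h => K.x_not_mem (pr_eq_one.1 h)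

theorem mem_Cb {q : Qt z} : q ∈ K.img.range ↔ q * K.xb = K.xb * q := by
  constructor
  · rintro ⟨c, rfl⟩
    rw [xb, ← map_mul, ← map_mul]
    exact congrArg K.img (Subtype.ext (mem_Cx.1 c.2))
  · intro h
    obtain ⟨d, rfl⟩ := QuotientGroup.mk'_surjective (Ez z) q
    obtain ⟨d', hd', hc⟩ := K.lift_comm (c := ⟨x, K.le_Cx K.six.x_mem⟩) (Subtype.ext K.six.x3) h
    exact ⟨⟨d', mem_Cx.2 (congrArg Subtype.val hc)⟩, hd'⟩

theorem mem_Nb {q : Qt z} : q ∈ K.Nb ↔ q * K.xb * q⁻¹ = K.xb ∨ q * K.xb * q⁻¹ = K.xb⁻¹ := Iff.rfl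

theorem Cb_le_Nb : K.img.range ≤ K.Nb := fun q hq =>
  Or.inl (by rw [K.mem_Cb.1 hq, mul_inv_cancel_right])

theorem card_Cb : Nat.card K.img.range = 1330560 := by
  have hker : K.img.ker = Subgroup.zpowers (⟨z, K.six.z_mem⟩ : ↥(Cx x)) := by
    ext c
    rw [MonoidHom.mem_ker, K.img_eq_one]
    constructor
    · rintro (h | h)
      · rw [show c = 1 from Subtype.ext h]; exact one_mem _
      · rw [show c = ⟨z, K.six.z_mem⟩ from Subtype.ext h]; exact Subgroup.mem_zpowers _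
    · intro h
      obtain ⟨i, rfl⟩ := Subgroup.mem_zpowers_iff.1 h
      rcases Int.even_or_odd i with ⟨j, rfl⟩ | ⟨j, rfl⟩
      · left
        rw [show j + j = 2 * j by ring, zpow_mul, show (⟨z, K.six.z_mem⟩ : ↥(Cx x)) ^ (2 : ℤ) = 1 from
          Subtype.ext (by simpa [zpow_ofNat] using K.six.z2), one_zpow]
        rfl
      · right
        rw [zpow_add, zpow_mul, show (⟨z, K.six.z_mem⟩ : ↥(Cx x)) ^ (2 : ℤ) = 1 from
          Subtype.ext (by simpa [zpow_ofNat] using K.six.z2), one_zpow, one_mul, zpow_one]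
  have h := K.img.ker.card_mul_index
  rw [Subgroup.index_ker, hker, Nat.card_zpowers, Subgroup.orderOf_mk, K.six.ordz, K.six.card_C] at h
  omega

/-- The image of the inverting element. -/
theorem exists_ob : ∃ c : ↥(Cx z), (c : G) = o ∧ pr z c ∈ K.Nb ∧ pr z c ∉ K.img.range := by
  refine ⟨⟨o, mem_Cx.2 K.oz⟩, rfl, ?_, fun h => ?_⟩ <;>
  have e : pr z ⟨o, mem_Cx.2 K.oz⟩ * K.xb * (pr z ⟨o, mem_Cx.2 K.oz⟩)⁻¹ = K.xb⁻¹ := by
    rw [xb, img_eq, ← map_inv, ← map_mul, ← map_mul, ← map_inv]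
    exact congrArg (pr z) (Subtype.ext K.ox)
  · exact Or.inr e
  · rw [K.mem_Cb.1 h, mul_inv_cancel_right] at e
    refine K.xb_ne ?_
    calc K.xb = K.xb ^ 3 * (K.xb * K.xb)⁻¹ := by group
      _ = 1 := by rw [K.xb3]; nth_rw 2 [e]; group

theorem card_Nb : Nat.card K.Nb = 2661120 := by
  obtain ⟨c, -, hc, hc'⟩ := K.exists_ob
  have h2 : (K.img.range.subgroupOf K.Nb).index = 2 := by
    rw [Subgroup.index_eq_two_iff]
    refine ⟨⟨pr z c, hc⟩, fun b => ?_⟩
    simp only [Subgroup.mem_subgroupOf, Subgroup.coe_mul]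
    have hinv : pr z c * K.xb * (pr z c)⁻¹ = K.xb⁻¹ :=
      (K.mem_Nb.1 hc).resolve_left fun e => hc' (K.mem_Cb.2 (mul_inv_eq_iff_eq_mul.1 e))
    rcases K.mem_Nb.1 b.2 with hb | hb
    · refine Or.inr ⟨K.mem_Cb.2 (mul_inv_eq_iff_eq_mul.1 hb), fun h => hc' ?_⟩
      have := mul_mem (inv_mem (K.mem_Cb.2 (mul_inv_eq_iff_eq_mul.1 hb))) h
      rwa [inv_mul_cancel_left] at this
    · refine Or.inl ⟨K.mem_Cb.2 (mul_inv_eq_iff_eq_mul.1 ?_), fun h => ?_⟩
      · rw [show (b : Qt z) * pr z c * K.xb * ((b : Qt z) * pr z c)⁻¹ =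
          (b : Qt z) * (pr z c * K.xb * (pr z c)⁻¹) * (b : Qt z)⁻¹ by group, hinv, ← conj_inv, hb, inv_inv]
      · rw [K.mem_Cb.1 h, mul_inv_cancel_right] at hb
        refine K.xb_ne ?_
        calc K.xb = K.xb ^ 3 * (K.xb * K.xb)⁻¹ := by group
          _ = 1 := by rw [K.xb3]; nth_rw 2 [hb]; group
  have h := (K.img.range.subgroupOf K.Nb).card_mul_index
  rw [h2, Nat.card_congr (Subgroup.subgroupOfEquivOfLe K.Cb_le_Nb).toEquiv, K.card_Cb] at h
  omega

/-- An element of odd order normalising centralises. -/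
theorem Nb_odd {q : Qt z} (hq : q ∈ K.Nb) {n : ℕ} (hn : Odd n) (hqn : q ^ n = 1) : q ∈ K.img.range := by
  rcases K.mem_Nb.1 hq with h | h
  · exact K.mem_Cb.2 (mul_inv_eq_iff_eq_mul.1 h)
  have h2 : q ^ 2 ∈ K.img.range := K.mem_Cb.2 (mul_inv_eq_iff_eq_mul.1 (by
    rw [show q ^ 2 * K.xb * (q ^ 2)⁻¹ = q * (q * K.xb * q⁻¹) * q⁻¹ by rw [pow_two]; group, h, ← conj_inv, h,
      inv_inv]))
  obtain ⟨j, rfl⟩ := hn
  have e : q = (q ^ 2) ^ (j + 1) := by
    rw [← pow_mul, show 2 * (j + 1) = (2 * j + 1) + 1 by ring, pow_succ, hqn, one_mul]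
  rw [e]
  exact pow_mem h2 _

theorem card_conj (g : ↥(Cx z)) (a : G) :
    Nat.card ↥(E ⊓ Cx ((g : G) * a * (g : G)⁻¹)) = Nat.card ↥(E ⊓ Cx a) := by
  refine (Nat.card_congr (α := ↥(E ⊓ Cx a)) (β := ↥(E ⊓ Cx ((g : G) * a * (g : G)⁻¹)))
    { toFun := fun u => ⟨(g : G) * u * (g : G)⁻¹, core_conj (mem_Cx.1 g.2) u.2.1, mem_Cx.2 ?_⟩
      invFun := fun u => ⟨(g : G)⁻¹ * u * g, ?_, mem_Cx.2 ?_⟩
      left_inv := fun u => Subtype.ext (by simp [mul_assoc])
      right_inv := fun u => Subtype.ext (by simp [mul_assoc]) }).symm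
  · rw [show (g : G) * u * (g : G)⁻¹ * ((g : G) * a * (g : G)⁻¹) = (g : G) * (u * a) * (g : G)⁻¹ by group,
      mem_Cx.1 u.2.2]
    group
  · simpa using core_conj (mem_Cx.1 (g⁻¹ : ↥(Cx z)).2) u.2.1
  · calc (g : G)⁻¹ * u * g * a = (g : G)⁻¹ * (u * ((g : G) * a * (g : G)⁻¹)) * g := by group
      _ = (g : G)⁻¹ * ((g : G) * a * (g : G)⁻¹ * u) * g := by rw [mem_Cx.1 u.2.2]
      _ = _ := by group

theorem card_fix_x : Nat.card ↥(E ⊓ Cx x) = 2 := by
  rw [show E ⊓ Cx x = Subgroup.zpowers z from le_antisymm (fun e he => ?_)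
    (Subgroup.zpowers_le.2 ⟨K.z_mem, K.six.z_mem⟩), Nat.card_zpowers, K.six.ordz]
  rcases K.fix_x he.1 (mem_Cx.1 he.2).symm with h | h <;> rw [h]
  exacts [one_mem _, Subgroup.mem_zpowers z]

theorem cube_img {v : Qt z} (hv : v ∈ K.img.range) (h3 : v ^ 3 = 1) :
    ∃ u : ↥(Cx x), K.img u = v ∧ u ^ 3 = 1 := by
  obtain ⟨u, rfl⟩ := hv
  refine ⟨u ^ 4, by rw [map_pow, pow_eq_pow_mod 4 h3, pow_one], ?_⟩
  rw [← pow_mul, show 4 * 3 = 3 * 4 from rfl, pow_mul]
  rcases K.img_eq_one.1 (by rw [map_pow, h3] : K.img (u ^ 3) = 1) with h | h <;> refine Subtype.ext ?_ <;>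
    rw [SubmonoidClass.coe_pow, h]
  · simp
  · rw [show (4 : ℕ) = 2 * 2 from rfl, pow_mul, K.six.z2, one_pow]; rfl

theorem img_zpowers {u : ↥(Cx x)} (hu : (u : G) ∈ Subgroup.zpowers x) :
    K.img u = 1 ∨ K.img u = K.xb ∨ K.img u = K.xb⁻¹ := by
  classical
  haveI := Fintype.ofFinite G
  obtain ⟨i, hi, hi'⟩ : ∃ i < 3, x ^ i = (u : G) := by
    rw [mem_zpowers_iff_mem_range_orderOf, K.six.ordx, Finset.mem_image] at hu
    obtain ⟨i, hi, e⟩ := hu
    exact ⟨i, Finset.mem_range.1 hi, e⟩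
  have e : u = ⟨x, K.six.x_mem⟩ ^ i := Subtype.ext hi'.symm
  rw [e, map_pow, ← xb]
  interval_cases i
  · exact Or.inl (pow_zero _)
  · exact Or.inr (Or.inl (pow_one _))
  · exact Or.inr (Or.inr (eq_inv_of_mul_eq_one_left (by rw [← pow_succ, K.xb3])))

/-- The only conjugates of the image of `x` centralising it are itself and its inverse. -/
theorem weakly_closed {q : Qt z} (h : q * K.xb * q⁻¹ ∈ K.img.range) : q ∈ K.Nb := by
  obtain ⟨u, hu, hu3⟩ := K.cube_img h (by rw [conj_pow, K.xb3]; group)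
  obtain ⟨d, rfl⟩ := QuotientGroup.mk'_surjective (Ez z) q
  obtain ⟨e, -, heu⟩ := K.lift_three (c := d * ⟨x, K.le_Cx K.six.x_mem⟩ * d⁻¹) (c' := ⟨(u : G), K.le_Cx u.2⟩)
    (by rw [conj_pow, show (⟨x, K.le_Cx K.six.x_mem⟩ : ↥(Cx z)) ^ 3 = 1 from Subtype.ext K.six.x3]; group)
    (Subtype.ext (congrArg Subtype.val hu3 : (u : G) ^ 3 = 1))
    (by rw [map_mul, map_mul, map_inv]; exact hu.symm)
  have hux : (u : G) ∈ Subgroup.zpowers x := by
    by_contra hux
    have hu31 : (u : G) ^ 3 = 1 := congrArg Subtype.val hu3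
    have hone : (u : G) ≠ 1 := fun e => hux (e ▸ one_mem _)
    obtain ⟨c, hc, hcy⟩ := K.six.class_three u.2 (orderOf_eq_prime hu31 hone) hux K.y_mem K.y3 K.y_nc
    have h1 : Nat.card ↥(E ⊓ Cx (u : G)) = 2 := by
      have e' : (u : G) = ((e * d : ↥(Cx z)) : G) * x * ((e * d : ↥(Cx z)) : G)⁻¹ := by
        have h' := congrArg Subtype.val heu
        simp only [Subgroup.coe_mul, Subgroup.coe_inv] at h'
        rw [h', Subgroup.coe_mul]
        group
      rw [e', K.card_conj, K.card_fix_x]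
    have h2 := K.card_conj ⟨c, K.le_Cx hc⟩ (u : G)
    rw [hcy, h1, K.cards.2] at h2
    norm_num at h2
  rcases K.img_zpowers hux with h' | h'
  · rw [hu, conj_eq_one_iff] at h'
    exact absurd h' K.xb_ne
  · rw [hu] at h'
    exact h'

/-- The image of `y`. -/
def yb : Qt z := K.img ⟨y, K.y_mem⟩

theorem card_CC : ¬ 27 ∣ Nat.card ↥((Cx z).subgroupOf (Cx y)) ∧
    ∀ p, p = 5 ∨ p = 7 ∨ p = 11 → ¬ p ∣ Nat.card ↥((Cx z).subgroupOf (Cx y)) := by
  classical
  obtain ⟨zy, ψ, Sy⟩ := K.exists_six_y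
  set D := (Cx z).subgroupOf (Cx y) with hD
  have hzy : z ∈ Cx y := mem_Cx.2 K.y_z.symm
  constructor
  · intro h27
    haveI : Fact (Nat.Prime 3) := ⟨Nat.prime_three⟩
    have hxy : x ∈ Cx y := mem_Cx.2 (mem_Cx.1 K.y_mem).symm
    set xd : ↥D := ⟨⟨x, hxy⟩, mem_Cx.2 K.x_z⟩
    have hp3 : IsPGroup 3 (Subgroup.zpowers xd) :=
      IsPGroup.of_card (n := 1) (by
        rw [Nat.card_zpowers, pow_one, ← Subgroup.orderOf_coe, ← Subgroup.orderOf_coe]; exact K.six.ordx)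
    obtain ⟨T, hT⟩ := hp3.exists_le_sylow
    have hTc : 27 ≤ Nat.card ↥(T : Subgroup ↥D) := Nat.le_of_dvd Nat.card_pos
      (T.pow_dvd_card_of_pow_dvd_card (n := 3) h27)
    obtain ⟨T', hT'⟩ := (T.2.map D.subtype).exists_le_sylow
    have hT'c : Nat.card ↥(T' : Subgroup ↥(Cx y)) = 27 := Sy.card_sylow T'
    have heq : (T : Subgroup ↥D).map D.subtype = T' := Subgroup.eq_of_le_of_card_ge hT' (by
      rw [hT'c, Subgroup.card_map_of_injective D.subtype_injective]; exact hTc)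
    have hcz : ∀ t ∈ T', (t : G) ∈ Cx z := fun t ht => by
      rw [← SetLike.mem_coe, ← Sylow.coe_coe, ← heq] at ht
      obtain ⟨s, -, rfl⟩ := ht
      exact s.2
    have hxT : (⟨x, hxy⟩ : ↥(Cx y)) ∈ (T' : Subgroup ↥(Cx y)) :=
      heq ▸ ⟨xd, hT (Subgroup.mem_zpowers _), rfl⟩
    have hxny : x ∉ Subgroup.zpowers y := fun hxz => K.y_nc <| by
      have hz : Subgroup.zpowers x = Subgroup.zpowers y := Subgroup.eq_of_le_of_card_ge (Subgroup.zpowers_le.2 hxz)
        (by rw [Nat.card_zpowers, Nat.card_zpowers, K.six.ordx, K.y3])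
      exact hz ▸ Subgroup.mem_zpowers y
    obtain ⟨t, ht, htx⟩ : ∃ t ∈ T', t * ⟨x, hxy⟩ ≠ ⟨x, hxy⟩ * t := by
      by_contra hcon
      simp only [not_exists, not_and, not_not] at hcon
      exact hxny (Sy.center_sylow T' hxT hcon)
    -- the commutator is central
    set P : Subgroup ↥(Cx y) := (T' : Subgroup ↥(Cx y))
    have hPc : Nat.card P = 3 ^ 3 := hT'c
    have hcen : ∀ w : P, w ∈ Subgroup.center P → ((w : ↥(Cx y)) : G) ∈ Subgroup.zpowers y := fun w hw =>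
      Sy.center_sylow T' w.2 fun s hs => congrArg Subtype.val (Subgroup.mem_center_iff.1 hw ⟨s, hs⟩)
    set w : P := ⟨t, ht⟩ * ⟨_, hxT⟩ * (⟨t, ht⟩ : P)⁻¹ * (⟨_, hxT⟩ : P)⁻¹ with hw
    have hwc : w ∈ Subgroup.center P := by
      have hcard3 : Nat.card (Subgroup.center P) = 3 := by
        haveI : Nontrivial P := (Finite.one_lt_card_iff_nontrivial).1 (by rw [hPc]; norm_num)
        have h1 : 1 < Nat.card (Subgroup.center P) := by
          haveI := T'.2.center_nontrivial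
          exact Finite.one_lt_card
        have hinj : Nat.card (Subgroup.center P) ≤ Nat.card (Subgroup.zpowers y) :=
          Nat.card_le_card_of_injective (fun w => ⟨_, hcen w.1 w.2⟩) fun a b e =>
            Subtype.ext (Subtype.ext (Subtype.ext (congrArg (fun t : Subgroup.zpowers y => (t : G)) e)))
        rw [Nat.card_zpowers, K.y3] at hinj
        obtain ⟨k, hk⟩ := (T'.2.to_subgroup (Subgroup.center P)).exists_card_eq
        rw [hk] at h1 hinj ⊢
        rcases k with _ | _ | k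
        · norm_num at h1
        · norm_num
        · have : 3 ^ 2 ≤ 3 ^ (k + 2) := Nat.pow_le_pow_right (by norm_num) (by omega)
          omega
      have hq : Nat.card (P ⧸ Subgroup.center P) = 3 ^ 2 := by
        have := Subgroup.card_eq_card_quotient_mul_card_subgroup (Subgroup.center P)
        rw [hPc, hcard3] at this
        omega
      rw [← QuotientGroup.eq_one_iff]
      show QuotientGroup.mk' (Subgroup.center P) w = 1
      rw [hw, map_mul, map_mul, map_mul, map_inv, map_inv]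
      haveI := IsPGroup.isMulCommutative_of_card_eq_prime_sq hq
      rw [IsMulCommutative.is_comm.comm (QuotientGroup.mk' _ (⟨t, ht⟩ : P))]
      group
    have hk : ((w : ↥(Cx y)) : G) ∈ Subgroup.zpowers y := hcen w hwc
    haveI := Fintype.ofFinite G
    obtain ⟨i, hi, hi'⟩ : ∃ i < 3, y ^ i = ((w : ↥(Cx y)) : G) := by
      rw [mem_zpowers_iff_mem_range_orderOf, K.y3, Finset.mem_image] at hk
      obtain ⟨i, hi, e⟩ := hk
      exact ⟨i, Finset.mem_range.1 hi, e⟩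
    have hconj : (t : G) * x * (t : G)⁻¹ = y ^ i * x := by
      rw [hi', hw]; simp
    have hne : i ≠ 0 := fun e => htx (Subtype.ext (mul_inv_eq_iff_eq_mul.1 (show (t : G) * x * (t : G)⁻¹ = x by
      rw [hconj, e, pow_zero, one_mul])))
    have h2 := K.card_conj ⟨(t : G), hcz t ht⟩ x
    have hxy' : Commute x y := (mem_Cx.1 K.y_mem).symm
    rw [hconj, K.card_fix_x] at h2
    have h32 : Nat.card ↥(E ⊓ Cx (y ^ i * x)) = 32 := by
      interval_cases i
      · exact absurd rfl hne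
      · rw [pow_one, ← hxy'.eq, K.card_coset (Subgroup.mem_zpowers x), K.cards.2]; norm_num
      · have hy31 : y ^ 3 = 1 := by rw [← K.y3, pow_orderOf_eq_one]
        have e : (y ^ 2 * x)⁻¹ = x ^ 2 * y := by
          refine (inv_eq_of_mul_eq_one_right ?_)
          calc y ^ 2 * x * (x ^ 2 * y) = y ^ 2 * (x ^ 3) * y := by group
            _ = 1 := by rw [K.six.x3, mul_one, ← pow_succ, hy31]
        rw [show Cx (y ^ 2 * x) = Cx (x ^ 2 * y) from ?_,
          K.card_coset (Subgroup.pow_mem _ (Subgroup.mem_zpowers x) 2), K.cards.2]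
        · norm_num
        · ext c
          rw [mem_Cx, mem_Cx, ← e]
          exact ⟨fun h => (show Commute c _ from h).inv_right.eq, fun h =>
            (Commute.inv_right_iff.1 (show Commute c _ from h)).eq⟩
    omega
  · intro p hp hdvd
    haveI : Fact p.Prime := ⟨by rcases hp with rfl | rfl | rfl <;> norm_num⟩
    obtain ⟨c, hc⟩ := exists_prime_orderOf_dvd_card' p hdvd
    have hψz : ψ ⟨z, hzy⟩ ≠ 1 := fun h => by
      have hcen := fun d hd => Sy.ker_center (c := ⟨z, hzy⟩) h d hd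
      have := Sy.normal_two (E ⊓ Cx y) ((core_pgroup z).to_le inf_le_left) inf_le_right (fun d hd n hn =>
        ⟨core_conj (hcen d hd) hn.1, (Cx y).mul_mem ((Cx y).mul_mem hd hn.2) ((Cx y).inv_mem hd)⟩)
      have hle : (E ⊓ Cx y) ≤ Subgroup.zpowers zy := fun n hn => by
        rcases this n hn with h' | h' <;> rw [h']
        exacts [one_mem _, Subgroup.mem_zpowers _]
      have h2 := Subgroup.card_le_of_le hle
      rw [K.cards.2, Nat.card_zpowers, Sy.ordz] at h2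
      norm_num at h2
    have hcz : (⟨z, hzy⟩ : ↥(Cx y)) * (c : ↥(Cx y)) = (c : ↥(Cx y)) * ⟨z, hzy⟩ :=
      Subtype.ext (mem_Cx.1 c.2).symm
    refine hψz (Sy.big_comm hp (c := (c : ↥(Cx y))) (by
      rw [Subgroup.orderOf_coe, Subgroup.orderOf_coe, hc]) ?_ (r := 2)
      (by rcases hp with rfl | rfl | rfl <;> norm_num) ?_)
    · rw [hcz, mul_inv_cancel_right, mul_inv_cancel, map_one]
    · rw [← map_pow, show (⟨z, hzy⟩ : ↥(Cx y)) ^ 2 = 1 from Subtype.ext K.six.z2, map_one]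

/-- The centraliser of the image of `y` normalises the image of `x`. -/
theorem cent_yb {q : Qt z} (h : q * K.yb = K.yb * q) : q ∈ K.Nb := by
  classical
  set D := (Cx y).subgroupOf (Cx z) with hD
  set δ : ↥D →* Qt z := (pr z).comp D.subtype with hδ
  have hmem : q ∈ δ.range := by
    obtain ⟨d, rfl⟩ := QuotientGroup.mk'_surjective (Ez z) q
    obtain ⟨d', hd', hc⟩ := K.lift_comm (c := ⟨y, K.le_Cx K.y_mem⟩)
      (Subtype.ext (show y ^ 3 = 1 by rw [← K.y3, pow_orderOf_eq_one])) h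
    exact ⟨⟨d', mem_Cx.2 (congrArg Subtype.val hc)⟩, hd'⟩
  -- the order of the range
  have hker : Nat.card δ.ker = 32 := by
    rw [show (32 : ℕ) = 2 ^ 5 from rfl, ← K.cards.2]
    exact Nat.card_congr
      { toFun := fun d => ⟨((d : ↥D) : ↥(Cx z)), pr_eq_one.1 d.2, (d : ↥D).2⟩
        invFun := fun e => ⟨⟨⟨(e : G), core_le z e.2.1⟩, e.2.2⟩, pr_eq_one.2 e.2.1⟩
        left_inv := fun d => rfl
        right_inv := fun e => rfl }
  have hDc : Nat.card ↥D = Nat.card ↥((Cx z).subgroupOf (Cx y)) := Nat.card_congr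
    { toFun := fun d => ⟨⟨_, d.2⟩, d.1.2⟩
      invFun := fun d => ⟨⟨_, d.2⟩, d.1.2⟩
      left_inv := fun d => rfl
      right_inv := fun d => rfl }
  obtain ⟨zy, ψ, Sy⟩ := K.exists_six_y
  have hdvd : Nat.card ↥D ∣ 2304 * 1155 := by
    rw [hDc, show (2304 * 1155 : ℕ) = 2661120 from rfl, ← Sy.card_C]
    exact Subgroup.card_subgroup_dvd_card _
  have hrange : Nat.card δ.range ∣ 72 := by
    have hmul := δ.ker.card_mul_index
    rw [Subgroup.index_ker, hker] at hmul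
    obtain ⟨h27, hbig⟩ := K.card_CC
    rw [← hDc] at h27 hbig
    have hcop : ∀ {p}, p = 5 ∨ p = 7 ∨ p = 11 → Nat.Coprime (Nat.card ↥D) p := fun {p} hp =>
      ((Nat.Prime.coprime_iff_not_dvd (by rcases hp with rfl | rfl | rfl <;> norm_num)).2 (hbig p hp)).symm
    have h1 : Nat.card ↥D ∣ 2304 * 3 := by
      have hd : Nat.card ↥D ∣ 2304 * 3 * 385 := by simpa using hdvd
      exact ((Nat.Coprime.mul_right (hcop (Or.inl rfl))
        (Nat.Coprime.mul_right (hcop (Or.inr (Or.inl rfl))) (hcop (Or.inr (Or.inr rfl))))).dvd_of_dvd_mul_right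
        (show Nat.card ↥D ∣ 2304 * 3 * (5 * (7 * 11)) from hd))
    have h2 : Nat.card δ.range ∣ 216 := by
      refine Nat.dvd_of_mul_dvd_mul_left (by norm_num : 0 < 32) ?_
      rw [hmul]; exact h1
    rw [← hmul] at h27
    obtain ⟨a, b, ha, hb, e⟩ := (Nat.dvd_mul).1 (show Nat.card δ.range ∣ 8 * 27 from h2)
    obtain ⟨j, hj, rfl⟩ := (Nat.dvd_prime_pow Nat.prime_three).1 (show b ∣ 3 ^ 3 from hb)
    have hj2 : j ≤ 2 := by
      by_contra hj2
      rw [show j = 3 by omega] at e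
      exact h27 (Dvd.intro_left (32 * a) (by rw [← e]; ring))
    rw [← e, show (72 : ℕ) = 8 * 3 ^ 2 from rfl]
    exact Nat.mul_dvd_mul ha (pow_dvd_pow 3 hj2)
  -- the part normalising
  have hsub : 72 ≤ Nat.card ↥(δ.range ⊓ K.Nb) := by
    set P : Subgroup ↥(Cx x) := (Cx y).subgroupOf (Cx x) with hP
    have hPc : Nat.card P = 72 := by
      rw [← (K.six.cent_three K.y_mem K.y3 K.y_nc).1]
      exact Nat.card_congr
        { toFun := fun c => ⟨_, c.1.2, c.2⟩
          invFun := fun c => ⟨⟨_, c.2.1⟩, c.2.2⟩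
          left_inv := fun c => rfl
          right_inv := fun c => rfl }
    have hk : Nat.card (K.img.comp P.subtype).ker ≤ 2 := by
      rw [← K.six.ordz, ← Nat.card_zpowers]
      refine Nat.card_le_card_of_injective (fun c => ⟨(((c : P) : ↥(Cx x)) : G), ?_⟩) fun a b e =>
        Subtype.ext (Subtype.ext (Subtype.ext (congrArg (fun t : Subgroup.zpowers z => (t : G)) e)))
      rcases K.img_eq_one.1 c.2 with h' | h' <;> simp only [Subgroup.coe_subtype] at h' <;> rw [h']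
      exacts [one_mem _, Subgroup.mem_zpowers z]
    have hm := (K.img.comp P.subtype).ker.card_mul_index
    rw [Subgroup.index_ker, hPc] at hm
    have h36 : 36 ≤ Nat.card (K.img.comp P.subtype).range := by
      have := Nat.mul_le_mul_right (Nat.card (K.img.comp P.subtype).range) hk
      omega
    have hle : (K.img.comp P.subtype).range ≤ δ.range ⊓ K.Nb := by
      rintro _ ⟨c, rfl⟩
      exact ⟨⟨⟨⟨_, K.le_Cx c.1.2⟩, c.2⟩, rfl⟩, K.Cb_le_Nb ⟨_, rfl⟩⟩
    obtain ⟨c, hco, hcN, hcC⟩ := K.exists_ob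
    have hcD : c ∈ D := Subgroup.mem_subgroupOf.2 (mem_Cx.2 (by
      rw [hco]; exact mul_inv_eq_iff_eq_mul.1 K.oy))
    have hlt : (K.img.comp P.subtype).range ≠ δ.range ⊓ K.Nb := fun e => hcC <| by
      obtain ⟨s, hs⟩ : pr z c ∈ (K.img.comp P.subtype).range := e ▸ ⟨⟨⟨c, hcD⟩, rfl⟩, hcN⟩
      exact ⟨_, hs⟩
    obtain ⟨k, hk'⟩ := Subgroup.card_dvd_of_le hle
    have : k ≠ 1 := fun e => hlt (Subgroup.eq_of_le_of_card_ge hle (by rw [hk', e, mul_one]))
    have : k ≠ 0 := fun e => by rw [e, mul_zero] at hk'; exact Nat.card_pos.ne' hk'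
    have := Nat.mul_le_mul h36 (show 2 ≤ k by omega)
    omega
  have heq : δ.range ⊓ K.Nb = δ.range := Subgroup.eq_of_le_of_card_ge inf_le_left
    ((Nat.le_of_dvd (by norm_num) hrange).trans hsub)
  exact (heq.symm ▸ hmem : q ∈ δ.range ⊓ K.Nb).2

/-- An element of order three fixing a coset of the normaliser fixes only that coset. -/
theorem free_three {a : ↥(Cx x)} (ha : a ^ 3 = 1) (ha1 : K.img a ≠ 1) {q : Qt z}
    (h : q⁻¹ * K.img a * q ∈ K.Nb) : q ∈ K.Nb := by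
  have h3 : (q⁻¹ * K.img a * q) ^ 3 = 1 := by
    calc (q⁻¹ * K.img a * q) ^ 3 = q⁻¹ * K.img a ^ 3 * q := by simp only [pow_succ, pow_zero]; group
      _ = 1 := by rw [← map_pow, ha, map_one]; group
  obtain ⟨u, hu, hu3⟩ := K.cube_img (K.Nb_odd h (by decide : Odd 3) h3) h3
  by_cases hax : (a : G) ∈ Subgroup.zpowers x
  · have hx' : q⁻¹ * K.xb * q⁻¹⁻¹ ∈ K.img.range := by
      rw [inv_inv]
      rcases K.img_zpowers hax with e | e | e
      · exact absurd e ha1
      · rw [← e]; exact ⟨u, hu⟩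
      · rw [← inv_inv K.xb, ← e, show q⁻¹ * (K.img a)⁻¹ * q = (q⁻¹ * K.img a * q)⁻¹ by group]
        exact inv_mem ⟨u, hu⟩
    simpa using inv_mem (K.weakly_closed hx')
  have hconj : K.img a = q * K.img u * q⁻¹ := by rw [hu]; group
  by_cases hux : (u : G) ∈ Subgroup.zpowers x
  · refine K.weakly_closed ?_
    rcases K.img_zpowers hux with e | e | e
    · rw [e, mul_one, mul_inv_cancel] at hconj
      exact absurd hconj ha1
    · exact ⟨a, by rw [← e]; exact hconj⟩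
    · rw [← inv_inv K.xb, ← e, ← conj_inv, ← hconj]
      exact inv_mem ⟨a, rfl⟩
  have ha31 : (a : G) ^ 3 = 1 := congrArg Subtype.val ha
  have hu31 : (u : G) ^ 3 = 1 := congrArg Subtype.val hu3
  obtain ⟨c, hc, hcy⟩ := K.six.class_three a.2
    (orderOf_eq_prime ha31 fun e => hax (e ▸ one_mem _)) hax K.y_mem K.y3 K.y_nc
  obtain ⟨c', hc', hcy'⟩ := K.six.class_three u.2
    (orderOf_eq_prime hu31 fun e => hux (e ▸ one_mem _)) hux K.y_mem K.y3 K.y_nc
  have e1 : K.img ⟨c, hc⟩ * K.img a * (K.img ⟨c, hc⟩)⁻¹ = K.yb := by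
    rw [yb, ← map_inv, ← map_mul, ← map_mul]; exact congrArg K.img (Subtype.ext hcy)
  have e2 : K.img ⟨c', hc'⟩ * K.img u * (K.img ⟨c', hc'⟩)⁻¹ = K.yb := by
    rw [yb, ← map_inv, ← map_mul, ← map_mul]; exact congrArg K.img (Subtype.ext hcy')
  set C₁ := K.img ⟨c, hc⟩
  set C₂ := K.img ⟨c', hc'⟩
  have hN : C₁ * q * C₂⁻¹ ∈ K.Nb := K.cent_yb (by
    calc C₁ * q * C₂⁻¹ * K.yb = C₁ * q * C₂⁻¹ * (C₂ * K.img u * C₂⁻¹) := by rw [e2]
      _ = C₁ * (q * K.img u * q⁻¹) * C₁⁻¹ * (C₁ * q * C₂⁻¹) := by group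
      _ = K.yb * (C₁ * q * C₂⁻¹) := by rw [← hconj, e1])
  have := mul_mem (mul_mem (inv_mem (K.Cb_le_Nb (⟨_, rfl⟩ : C₁ ∈ K.img.range))) hN)
    (K.Cb_le_Nb (⟨_, rfl⟩ : C₂ ∈ K.img.range))
  rwa [show C₁⁻¹ * (C₁ * q * C₂⁻¹) * C₂ = q by group] at this

end Conf

end Cfsg.Agent.Spor.JFourConv
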