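import Cfsg.Agent.Lib.Spor.JFourConv.Mathieu
import Mathlib.GroupTheory.Transfer

/-!
A perfect six-fold cover of the simple group on 22 points as the centraliser of an element of order three.
-/

set_option autoImplicit false
set_option linter.style.haveILetI false

open Cfsg
open scoped commutatorElement

namespace Cfsg.Agent.Spor.JFourConv

theorem cube_of_nine_check :
    (Cfsg.Agent.Spor.JFour.centList.all fun R =>
      let R3 := Golay.comp R (Golay.comp R R)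
      !(same (Golay.comp R3 (Golay.comp R3 R3)) Golay.idP) || same R3 Golay.idP) = true := by
  decide +kernel

open Cfsg.Agent.Spor.Golay Cfsg.Agent.Spor.JFour in
theorem cube_of_nine {a : M} (h : a ^ 9 = 1) : a ^ 3 = 1 := by
  by_contra hne
  have h3 : orderOf (a ^ 3) = 3 := orderOf_eq_prime (by rw [← pow_mul]; exact h) hne
  obtain ⟨g, hg, e⟩ := three_conj (a ^ 3).2
    (by rw [← pow_three']; exact congrArg Subtype.val (show (a ^ 3) ^ 3 = 1 by rw [← pow_mul]; exact h))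
    (fun e => hne (Subtype.ext e))
  set b : M := ⟨g, hg⟩ * a * (⟨g, hg⟩ : M)⁻¹ with hb
  have hb3 : (b : Equiv.Perm GolayPt) * b * b = permOf (pk 4) := by
    rw [← e, ← pow_three', ← SubmonoidClass.coe_pow, hb, conj_pow]
    rfl
  obtain ⟨R, hR, hv, eR⟩ := mem_centList b.2 (by rw [← hb3]; simp [mul_assoc])
  have hchk := List.all_eq_true.1 cube_of_nine_check R hR
  set R3 := comp R (comp R R) with hR3
  have hv3 : valid R3 = true := valid_comp hv (valid_comp hv hv)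
  have e3 : permOf R3 = permOf (pk 4) := by
    rw [hR3, permOf_comp hv (valid_comp hv hv), permOf_comp hv hv, eR, ← mul_assoc, hb3]
  have h9 : same (comp R3 (comp R3 R3)) idP = true := same_of_perm (valid_comp hv3 (valid_comp hv3 hv3)) valid_idP (by
    rw [permOf_comp hv3 (valid_comp hv3 hv3), permOf_comp hv3 hv3, e3, ← mul_assoc, perm_three_facts.1, permOf_idP])
  simp only [← hR3, h9, Bool.not_true, Bool.false_or] at hchk
  have := perm_of_same hv3 valid_idP hchk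
  rw [e3, permOf_idP] at this
  exact perm_three_facts.2.2.2.2.2.1 this

variable {G : Type*} [Group G]

/-- The centraliser of `x` is a perfect six-fold cover of the simple group. -/
structure Six (x z : G) (φ : ↥(Subgroup.centralizer ({x} : Set G)) →* M) : Prop where
  ordx : orderOf x = 3
  ordz : orderOf z = 2
  comm : z * x = x * z
  surj : Function.Surjective φ
  ker : ∀ c : ↥(Subgroup.centralizer ({x} : Set G)), φ c = 1 → ∃ i j : ℕ, (c : G) = x ^ i * z ^ j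
  φx : ∀ h : x ∈ Subgroup.centralizer ({x} : Set G), φ ⟨x, h⟩ = 1
  φz : ∀ h : z ∈ Subgroup.centralizer ({x} : Set G), φ ⟨z, h⟩ = 1
  central : ∀ c : G, c * x = x * c → c * z = z * c
  perf : ⁅(⊤ : Subgroup ↥(Subgroup.centralizer ({x} : Set G))), (⊤ : Subgroup ↥(Subgroup.centralizer ({x} : Set G)))⁆ = ⊤

/-- The centraliser. -/
abbrev Cx (x : G) : Subgroup G := Subgroup.centralizer ({x} : Set G)

theorem mem_Cx {x c : G} : c ∈ Cx x ↔ c * x = x * c := Subgroup.mem_centralizer_singleton_iff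

theorem exists_six [Finite G] (x : G) (hx : orderOf x = 3)
    (hperf : ⁅(⊤ : Subgroup ↥(Cx x)), (⊤ : Subgroup ↥(Cx x))⁆ = ⊤)
    (hZ : IsCyclic ↥(Subgroup.center ↥(Cx x))) (hZc : Nat.card ↥(Subgroup.center ↥(Cx x)) = 6)
    (e : ↥(Cx x) ⧸ Subgroup.center ↥(Cx x) ≃* ↥Cfsg.Spor.M22) :
    ∃ (z : G) (φ : ↥(Cx x) →* M), Six x z φ := by
  have hxC : x ∈ Cx x := mem_Cx.2 rfl
  set Z := Subgroup.center ↥(Cx x)
  have hxZ : (⟨x, hxC⟩ : ↥(Cx x)) ∈ Z := Subgroup.mem_center_iff.2 fun c => Subtype.ext (mem_Cx.1 c.2)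
  haveI := hZ
  haveI : Fact (Nat.Prime 2) := ⟨Nat.prime_two⟩
  obtain ⟨w, hw⟩ := exists_prime_orderOf_dvd_card' (G := ↥Z) 2 (by rw [hZc]; norm_num)
  set z : G := ((w : ↥(Cx x)) : G) with hzdef
  have hz2 : orderOf z = 2 := by rw [hzdef, Subgroup.orderOf_coe, Subgroup.orderOf_coe, hw]
  have hzx : z * x = x * z := mem_Cx.1 (w : ↥(Cx x)).2
  set φ : ↥(Cx x) →* M := e.toMonoidHom.comp (QuotientGroup.mk' Z) with hφ
  have hker : ∀ c, φ c = 1 ↔ c ∈ Z := fun c => by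
    rw [hφ, MonoidHom.comp_apply]
    exact (map_eq_one_iff _ e.injective).trans (QuotientGroup.eq_one_iff c)
  refine ⟨z, φ, hx, hz2, hzx, e.surjective.comp (QuotientGroup.mk'_surjective Z), fun c hc => ?_,
    fun _ => (hker _).2 hxZ, fun _ => (hker _).2 ?_, fun c hc => ?_, hperf⟩
  · have hco : Nat.Coprime (orderOf x) (orderOf z) := by rw [hx, hz2]; norm_num
    have h6 : orderOf (x * z) = 6 := by
      rw [(show Commute x z from hzx.symm).orderOf_mul_eq_mul_orderOf_of_coprime hco, hx, hz2]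
    have hwZ : (⟨x, hxC⟩ * (w : ↥(Cx x)) : ↥(Cx x)) ∈ Z := mul_mem hxZ w.2
    set u : ↥Z := ⟨_, hwZ⟩
    have hu : orderOf u = 6 := by
      rw [← Subgroup.orderOf_coe, ← Subgroup.orderOf_coe]; exact h6
    have htop : Subgroup.zpowers u = ⊤ := Subgroup.eq_top_of_card_eq _ (by rw [Nat.card_zpowers, hu, hZc])
    obtain ⟨i, hi⟩ := (isOfFinOrder_of_finite u).mem_powers_iff_mem_zpowers.2
      (htop ▸ Subgroup.mem_top (⟨c, (hker c).1 hc⟩ : ↥Z))
    refine ⟨i, i, ?_⟩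
    have := congrArg (fun t : ↥Z => ((t : ↥(Cx x)) : G)) hi
    rw [← (show Commute x z from hzx.symm).mul_pow]
    simpa [u] using this.symm
  · exact w.2
  · exact congrArg Subtype.val (Subgroup.mem_center_iff.1 w.2 ⟨c, mem_Cx.2 hc⟩)

namespace Six

variable {x z : G} {φ : ↥(Subgroup.centralizer ({x} : Set G)) →* M} (S : Six x z φ)
include S

theorem x_mem : x ∈ Cx x := mem_Cx.2 rfl

theorem z_mem : z ∈ Cx x := mem_Cx.2 S.comm

theorem x3 : x ^ 3 = 1 := by rw [← S.ordx, pow_orderOf_eq_one]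

theorem z2 : z ^ 2 = 1 := by rw [← S.ordz, pow_orderOf_eq_one]

theorem zz : z * z = 1 := by rw [← pow_two, S.z2]

theorem x_ne : x ≠ 1 := fun e => by
  have := S.ordx
  rw [e, orderOf_one] at this
  omega

theorem z_ne : z ≠ 1 := fun e => by
  have := S.ordz
  rw [e, orderOf_one] at this
  omega

theorem ker_center {c : ↥(Cx x)} (hc : φ c = 1) (d : G) (hd : d ∈ Cx x) : d * c = c * d := by
  obtain ⟨i, j, e⟩ := S.ker c hc
  rw [e]
  exact (((show Commute d x from mem_Cx.1 hd).pow_right i).mul_right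
    ((show Commute d z from S.central d (mem_Cx.1 hd)).pow_right j)).eq

theorem ker_three {c : ↥(Cx x)} (hc : φ c = 1) (h3 : (c : G) ^ 3 = 1) : (c : G) ∈ Subgroup.zpowers x := by
  obtain ⟨i, j, e⟩ := S.ker c hc
  rw [e] at h3 ⊢
  rw [((show Commute x z from S.comm.symm).pow_pow i j).mul_pow, ← pow_mul x, mul_comm i 3, pow_mul, S.x3, one_pow,
    one_mul, ← pow_mul] at h3
  have hj : 2 ∣ j * 3 := by rw [← S.ordz]; exact orderOf_dvd_of_pow_eq_one h3
  obtain ⟨k, rfl⟩ : 2 ∣ j := (Nat.Coprime.dvd_of_dvd_mul_right (by norm_num) hj)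
  rw [pow_mul, S.z2, one_pow, mul_one]
  exact pow_mem (Subgroup.mem_zpowers x) i

theorem ker_two {c : ↥(Cx x)} (hc : φ c = 1) (h2 : ∃ k, (c : G) ^ 2 ^ k = 1) : (c : G) = 1 ∨ (c : G) = z := by
  obtain ⟨i, j, e⟩ := S.ker c hc
  obtain ⟨k, hk⟩ := h2
  rw [e] at hk ⊢
  have hz : z ^ (j * 2 ^ k * 3) = 1 ∧ x ^ (i * (2 ^ k * 4)) = 1 := by
    have h := ((show Commute x z from S.comm.symm).pow_pow i j).mul_pow (2 ^ k)
    rw [hk, ← pow_mul, ← pow_mul] at h
    have hzi : z ^ (j * 2 ^ k) = (x ^ (i * 2 ^ k))⁻¹ := eq_inv_of_mul_eq_one_right h.symm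
    refine ⟨?_, ?_⟩
    · rw [pow_mul, hzi, inv_pow, ← pow_mul, mul_comm (i * 2 ^ k) 3, pow_mul, S.x3, one_pow, inv_one]
    · have hxi : x ^ (i * 2 ^ k) = (z ^ (j * 2 ^ k))⁻¹ := eq_inv_of_mul_eq_one_left h.symm
      rw [← mul_assoc, pow_mul, hxi, inv_pow, ← pow_mul, show j * 2 ^ k * 4 = 2 * (j * 2 ^ k * 2) by ring, pow_mul,
        S.z2, one_pow, inv_one]
  have hi : 3 ∣ i * (2 ^ k * 4) := by rw [← S.ordx]; exact orderOf_dvd_of_pow_eq_one hz.2
  obtain ⟨l, rfl⟩ : 3 ∣ i := Nat.Coprime.dvd_of_dvd_mul_right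
    ((Nat.Coprime.pow_right k (by norm_num)).mul_right (by norm_num)) hi
  rw [pow_mul, S.x3, one_pow, one_mul]
  rcases Nat.even_or_odd j with ⟨m, rfl⟩ | ⟨m, rfl⟩
  · exact Or.inl (by rw [← two_mul, pow_mul, S.z2, one_pow])
  · exact Or.inr (by rw [pow_succ, pow_mul, S.z2, one_pow, one_mul])

theorem ker_six {c : ↥(Cx x)} (hc : φ c = 1) : (c : G) ^ 6 = 1 := by
  obtain ⟨i, j, e⟩ := S.ker c hc
  have hi : (x ^ i) ^ 6 = 1 := by rw [← pow_mul, show i * 6 = 3 * (i * 2) by ring, pow_mul, S.x3, one_pow]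
  have hj : (z ^ j) ^ 6 = 1 := by rw [← pow_mul, show j * 6 = 2 * (j * 3) by ring, pow_mul, S.z2, one_pow]
  rw [e, ((show Commute x z from S.comm.symm).pow_pow i j).mul_pow, hi, hj, one_mul]

variable [Finite G]

theorem card_ker : Nat.card φ.ker = 6 := by
  have hu : orderOf (⟨x * z, mul_mem S.x_mem S.z_mem⟩ : ↥(Cx x)) = 6 := by
    rw [Subgroup.orderOf_mk, (show Commute x z from S.comm.symm).orderOf_mul_eq_mul_orderOf_of_coprime
      (by rw [S.ordx, S.ordz]; norm_num), S.ordx, S.ordz]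
  refine le_antisymm ?_ ?_
  · have hle : φ.ker ≤ (Subgroup.zpowers (x * z)).subgroupOf (Cx x) := fun c hc => by
      obtain ⟨i, j, e⟩ := S.ker c hc
      rw [Subgroup.mem_subgroupOf, e]
      have hx4 : x = (x * z) ^ 4 := by
        rw [(show Commute x z from S.comm.symm).mul_pow, pow_succ x 3, S.x3, one_mul, show 4 = 2 * 2 from rfl,
          pow_mul, S.z2, one_pow, mul_one]
      have hz3 : z = (x * z) ^ 3 := by
        rw [(show Commute x z from S.comm.symm).mul_pow, S.x3, one_mul, pow_succ, S.z2, one_mul]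
      obtain ⟨u, hu'⟩ : ∃ u, u = x * z := ⟨_, rfl⟩
      rw [← hu'] at hx4 hz3 ⊢
      have hx' : x ∈ Subgroup.zpowers u := by rw [hx4]; exact pow_mem (Subgroup.mem_zpowers _) 4
      have hz' : z ∈ Subgroup.zpowers u := by rw [hz3]; exact pow_mem (Subgroup.mem_zpowers _) 3
      exact mul_mem (pow_mem hx' i) (pow_mem hz' j)
    refine le_trans (Subgroup.card_le_of_le hle) ?_
    rw [Nat.card_congr (Subgroup.subgroupOfEquivOfLe (Subgroup.zpowers_le.2 (mul_mem S.x_mem S.z_mem))).toEquiv,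
      Nat.card_zpowers, ← hu, Subgroup.orderOf_mk]
  · rw [← hu, ← Nat.card_zpowers]
    refine Subgroup.card_le_of_le (Subgroup.zpowers_le.2 ?_)
    rw [MonoidHom.mem_ker, show (⟨x * z, mul_mem S.x_mem S.z_mem⟩ : ↥(Cx x)) = ⟨x, S.x_mem⟩ * ⟨z, S.z_mem⟩ from rfl,
      map_mul, S.φx, S.φz, one_mul]

theorem card_comap (K : Subgroup M) : Nat.card (K.comap φ) = 6 * Nat.card K := by
  have h := (K.comap φ).card_mul_index
  have hi : (K.comap φ).index = K.index := Subgroup.index_comap_of_surjective K S.surj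
  have h2 := K.card_mul_index
  have h3 := φ.ker.card_mul_index
  rw [Subgroup.index_ker, MonoidHom.range_eq_top.2 S.surj, Subgroup.card_top, S.card_ker] at h3
  rw [hi] at h
  have hpos : 0 < K.index := Nat.pos_of_ne_zero Subgroup.index_ne_zero_of_finite
  have : Nat.card (K.comap φ) * K.index = 6 * Nat.card K * K.index := by rw [h, mul_assoc, h2, h3]
  exact Nat.eq_of_mul_eq_mul_right hpos this

theorem card_C : Nat.card ↥(Cx x) = 2661120 := by
  rw [← Subgroup.card_top (G := ↥(Cx x)), ← Subgroup.comap_top φ, S.card_comap, Subgroup.card_top, Fus.Mathieu.card22]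

/-- An element of order three outside the centre has image of order three. -/
theorem img_three {c : ↥(Cx x)} (h3 : (c : G) ^ 3 = 1) (hc : (c : G) ∉ Subgroup.zpowers x) : orderOf (φ c) = 3 :=
  orderOf_eq_prime (by rw [← map_pow, show c ^ 3 = 1 from Subtype.ext h3, map_one]) fun e => hc (S.ker_three e h3)

/-- No Sylow three-subgroup is abelian. -/
theorem sylow_not_comm (T : Sylow 3 ↥(Cx x)) : ∃ a ∈ T, ∃ b ∈ T, a * b ≠ b * a := by
  by_contra hcon
  simp only [not_exists, not_and, not_not] at hcon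
  haveI : IsMulCommutative ↥(T : Subgroup ↥(Cx x)) := ⟨⟨fun a b => Subtype.ext (hcon a a.2 b b.2)⟩⟩
  letI : CommGroup ↥(T : Subgroup ↥(Cx x)) :=
    { (inferInstance : Group ↥(T : Subgroup ↥(Cx x))) with mul_comm := fun a b => Subtype.ext (hcon a a.2 b b.2) }
  haveI : (T : Subgroup ↥(Cx x)).FiniteIndex := inferInstance
  let xc : ↥(Cx x) := ⟨x, S.x_mem⟩
  have hcen : ∀ c : ↥(Cx x), c * xc = xc * c := fun c => Subtype.ext (mem_Cx.1 c.2)
  have hxT : xc ∈ T := by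
    haveI : Fact (Nat.Prime 3) := ⟨Nat.prime_three⟩
    have hn : (Subgroup.zpowers xc).Normal := ⟨fun a ha g => by
      obtain ⟨i, rfl⟩ := Subgroup.mem_zpowers_iff.1 ha
      rw [((show Commute g xc from hcen g).zpow_right i).eq, mul_inv_cancel_right]
      exact zpow_mem (Subgroup.mem_zpowers _) i⟩
    have hp : IsPGroup 3 ↥(Subgroup.zpowers xc) := IsPGroup.of_card (n := 1) (by
      rw [Nat.card_zpowers, pow_one, Subgroup.orderOf_mk, S.ordx])
    have hle := T.3 (T.2.to_sup_of_normal_right hp) le_sup_left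
    show xc ∈ (T : Subgroup ↥(Cx x))
    rw [← hle]
    exact Subgroup.mem_sup_right (Subgroup.mem_zpowers xc)
  let f := MonoidHom.transfer (MonoidHom.id ↥(T : Subgroup ↥(Cx x)))
  have hkey : ∀ (k : ℕ) (g₀ : ↥(Cx x)), g₀⁻¹ * xc ^ k * g₀ ∈ (T : Subgroup ↥(Cx x)) →
      g₀⁻¹ * xc ^ k * g₀ = xc ^ k := fun k g₀ _ => by
    rw [mul_assoc, ← ((show Commute g₀ xc from hcen g₀).pow_right k).eq, inv_mul_cancel_left]
  have hf := MonoidHom.transfer_eq_pow (MonoidHom.id ↥(T : Subgroup ↥(Cx x))) xc hkey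
  have hone : f xc = 1 := by
    have hle : ⁅(⊤ : Subgroup ↥(Cx x)), (⊤ : Subgroup ↥(Cx x))⁆ ≤ f.ker := Subgroup.commutator_le.2 fun a _ b _ => by
      rw [MonoidHom.mem_ker, commutatorElement_def, map_mul, map_mul, map_mul, map_inv, map_inv, mul_comm (f a) (f b)]
      group
    rw [S.perf] at hle
    exact hle (Subgroup.mem_top xc)
  rw [hf] at hone
  have h1 : xc ^ (T : Subgroup ↥(Cx x)).index = 1 := congrArg Subtype.val hone
  have h3 := orderOf_dvd_of_pow_eq_one h1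
  rw [Subgroup.orderOf_mk, S.ordx] at h3
  haveI : Fact (Nat.Prime 3) := ⟨Nat.prime_three⟩
  exact T.not_dvd_index h3

theorem x_mem_sylow (T : Sylow 3 ↥(Cx x)) : (⟨x, S.x_mem⟩ : ↥(Cx x)) ∈ T := by
  haveI : Fact (Nat.Prime 3) := ⟨Nat.prime_three⟩
  set xc : ↥(Cx x) := ⟨x, S.x_mem⟩
  have hn : (Subgroup.zpowers xc).Normal := ⟨fun a ha g => by
    obtain ⟨i, rfl⟩ := Subgroup.mem_zpowers_iff.1 ha
    rw [((show Commute g xc from Subtype.ext (mem_Cx.1 g.2)).zpow_right i).eq, mul_inv_cancel_right]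
    exact zpow_mem (Subgroup.mem_zpowers _) i⟩
  have hp : IsPGroup 3 ↥(Subgroup.zpowers xc) := IsPGroup.of_card (n := 1) (by
    rw [Nat.card_zpowers, pow_one, Subgroup.orderOf_mk, S.ordx])
  show xc ∈ (T : Subgroup ↥(Cx x))
  rw [← T.3 (T.2.to_sup_of_normal_right hp) le_sup_left]
  exact Subgroup.mem_sup_right (Subgroup.mem_zpowers xc)

theorem card_sylow (T : Sylow 3 ↥(Cx x)) : Nat.card ↥(T : Subgroup ↥(Cx x)) = 27 := by
  haveI : Fact (Nat.Prime 3) := ⟨Nat.prime_three⟩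
  rw [T.card_eq_multiplicity, S.card_C]
  have h1 : 3 ^ 3 ∣ 2661120 := by norm_num
  have h2 : ¬ 3 ^ 4 ∣ 2661120 := by norm_num
  rw [Nat.Prime.pow_dvd_iff_le_factorization Nat.prime_three (by norm_num)] at h1 h2
  rw [show (2661120 : ℕ).factorization 3 = 3 by omega]
  norm_num

/-- The centraliser of an element of order three outside the centre, and the commutators with it. -/
theorem cent_three {y : G} (hy : y ∈ Cx x) (hy3 : orderOf y = 3) (hyx : y ∉ Subgroup.zpowers x) :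
    Nat.card ↥(Cx x ⊓ Cx y) = 72 ∧ ∀ k ∈ Subgroup.zpowers x, ∃ d ∈ Cx x, d * y * d⁻¹ = k * y := by
  classical
  haveI : Fact (Nat.Prime 3) := ⟨Nat.prime_three⟩
  set yc : ↥(Cx x) := ⟨y, hy⟩ with hyc
  have hy31 : y ^ 3 = 1 := by rw [← hy3, pow_orderOf_eq_one]
  have hφy : orderOf (φ yc) = 3 := S.img_three hy31 hyx
  set Pre := (Subgroup.centralizer ({φ yc} : Set M)).comap φ with hPre
  have hPc : Nat.card Pre = 216 := by rw [hPre, S.card_comap, card_cent_three hφy]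
  have hcomm : ∀ c : Pre, φ ((c : ↥(Cx x)) * yc * (c : ↥(Cx x))⁻¹ * yc⁻¹) = 1 := fun c => by
    have h := Subgroup.mem_centralizer_singleton_iff.1 (Subgroup.mem_comap.1 c.2)
    rw [map_mul, map_mul, map_mul, map_inv, map_inv, h, mul_inv_cancel_right, mul_inv_cancel]
  have hcube : ∀ c : Pre, (((c : ↥(Cx x)) * yc * (c : ↥(Cx x))⁻¹ * yc⁻¹ : ↥(Cx x)) : G) ∈ Subgroup.zpowers x := by
    intro c
    refine S.ker_three (hcomm c) ?_
    set k := (((c : ↥(Cx x)) * yc * (c : ↥(Cx x))⁻¹ * yc⁻¹ : ↥(Cx x)) : G) with hk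
    have hky : k * y = (c : ↥(Cx x)) * y * ((c : ↥(Cx x)) : G)⁻¹ := by simp [hk, hyc]
    have hcom : Commute k y := (S.ker_center (hcomm c) y hy).symm
    have h3 : (k * y) ^ 3 = 1 := by rw [hky, conj_pow, hy31]; group
    rwa [hcom.mul_pow, hy31, mul_one] at h3
  let τ : Pre →* G :=
    MonoidHom.mk' (fun c => (((c : ↥(Cx x)) * yc * (c : ↥(Cx x))⁻¹ * yc⁻¹ : ↥(Cx x)) : G)) fun c d => by
      set kd := (d : ↥(Cx x)) * yc * (d : ↥(Cx x))⁻¹ * yc⁻¹ with hkd
      set kc := (c : ↥(Cx x)) * yc * (c : ↥(Cx x))⁻¹ * yc⁻¹ with hkc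
      have h1 : (c : ↥(Cx x)) * kd = kd * c := Subtype.ext (S.ker_center (hcomm d) _ (c : ↥(Cx x)).2)
      have h2 : kd * kc = kc * kd := Subtype.ext (S.ker_center (hcomm c) _ kd.2)
      rw [← Subgroup.coe_mul, ← h2]
      refine congrArg Subtype.val ?_
      calc ((c * d : Pre) : ↥(Cx x)) * yc * ((c * d : Pre) : ↥(Cx x))⁻¹ * yc⁻¹
          = (c : ↥(Cx x)) * kd * yc * (c : ↥(Cx x))⁻¹ * yc⁻¹ := by rw [hkd, Subgroup.coe_mul]; group
        _ = kd * kc := by rw [h1, hkc]; group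
  have hτ : ∀ c : Pre, c ∈ τ.ker ↔ ((c : ↥(Cx x)) : G) ∈ Cx y := fun c => by
    rw [MonoidHom.mem_ker, mem_Cx]
    show (((c : ↥(Cx x)) * yc * (c : ↥(Cx x))⁻¹ * yc⁻¹ : ↥(Cx x)) : G) = 1 ↔ _
    simp only [hyc, Subgroup.coe_mul, Subgroup.coe_inv, mul_inv_eq_one, mul_inv_eq_iff_eq_mul, one_mul]
  have hrange : τ.range ≤ Subgroup.zpowers x := by
    rintro _ ⟨c, rfl⟩
    exact hcube c
  have hne : τ.range ≠ ⊥ := fun hb => by
    have hall : ∀ c : Pre, ((c : ↥(Cx x)) : G) ∈ Cx y := fun c => (hτ c).1 (by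
      rw [MonoidHom.mem_ker, ← Subgroup.mem_bot, ← hb]; exact ⟨c, rfl⟩)
    obtain ⟨T, hT⟩ := (IsPGroup.of_card (p := 3) (n := 1) (G := ↥(Subgroup.zpowers yc))
      (by rw [Nat.card_zpowers, pow_one, hyc, Subgroup.orderOf_mk, hy3])).exists_le_sylow
    have hyT : yc ∈ T := hT (Subgroup.mem_zpowers yc)
    set U := (T : Subgroup ↥(Cx x)).map φ with hU
    have hUc : ∀ a ∈ U, ∀ b ∈ U, a * b = b * a := by
      have hdvd : Nat.card U ∣ 27 := by
        rw [← S.card_sylow T]; exact Subgroup.card_map_dvd _ _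
      have hdM : Nat.card U ∣ 443520 := Fus.Mathieu.card22 ▸ Subgroup.card_subgroup_dvd_card U
      have h9 : Nat.card U ∣ 9 := by
        have := Nat.dvd_gcd hdvd hdM
        rwa [show Nat.gcd 27 443520 = 9 by norm_num] at this
      obtain ⟨k, hk, hk2⟩ := (Nat.dvd_prime_pow Nat.prime_three).1 (show Nat.card U ∣ 3 ^ 2 from h9)
      interval_cases k
      · intro a ha b hb
        have : Nat.card U = 1 := by rw [hk2, pow_zero]
        rw [Subgroup.card_eq_one.1 this, Subgroup.mem_bot] at ha hb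
        rw [ha, hb]
      · intro a ha b hb
        haveI : IsCyclic ↥U := isCyclic_of_prime_card (p := 3) (by rw [hk2, pow_one])
        exact congrArg Subtype.val (IsMulCommutative.is_comm.comm (⟨a, ha⟩ : U) ⟨b, hb⟩)
      · intro a ha b hb
        haveI := IsPGroup.isMulCommutative_of_card_eq_prime_sq hk2
        exact congrArg Subtype.val (IsMulCommutative.is_comm.comm (⟨a, ha⟩ : U) ⟨b, hb⟩)
    have hTy : ∀ a ∈ T, a * yc = yc * a := fun a ha => by
      have hP : a ∈ Pre := Subgroup.mem_comap.2 (Subgroup.mem_centralizer_singleton_iff.2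
        (hUc _ (Subgroup.mem_map_of_mem φ ha) _ (Subgroup.mem_map_of_mem φ hyT)))
      exact Subtype.ext (mem_Cx.1 (hall ⟨a, hP⟩))
    obtain ⟨a, ha, b, hb, hab⟩ := S.sylow_not_comm T
    -- a central subgroup of order nine
    set xc : ↥(Cx x) := ⟨x, S.x_mem⟩
    let W : Subgroup ↥(T : Subgroup ↥(Cx x)) := Subgroup.center _
    have hxW : (⟨xc, S.x_mem_sylow T⟩ : ↥(T : Subgroup ↥(Cx x))) ∈ W :=
      Subgroup.mem_center_iff.2 fun g => Subtype.ext (Subtype.ext (mem_Cx.1 (g : ↥(Cx x)).2))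
    have hyW : (⟨yc, hyT⟩ : ↥(T : Subgroup ↥(Cx x))) ∈ W :=
      Subgroup.mem_center_iff.2 fun g => Subtype.ext (hTy g g.2)
    have hW3 : 3 < Nat.card W := by
      by_contra hle
      have hz : Subgroup.zpowers (⟨xc, S.x_mem_sylow T⟩ : ↥(T : Subgroup ↥(Cx x))) = W :=
        Subgroup.eq_of_le_of_card_ge (Subgroup.zpowers_le.2 hxW)
          (by rw [Nat.card_zpowers, Subgroup.orderOf_mk, Subgroup.orderOf_mk, S.ordx]; omega)
      obtain ⟨i, hi⟩ := Subgroup.mem_zpowers_iff.1 (hz ▸ hyW)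
      exact hyx ⟨i, by simpa [xc, hyc] using congrArg (fun t : ↥(T : Subgroup ↥(Cx x)) => ((t : ↥(Cx x)) : G)) hi⟩
    have hq : Nat.card (↥(T : Subgroup ↥(Cx x)) ⧸ W) ∣ 3 := by
      have h1 := Subgroup.card_eq_card_quotient_mul_card_subgroup W
      rw [S.card_sylow T] at h1
      have hd : Nat.card W ∣ 3 ^ 3 := Dvd.intro_left _ h1.symm
      obtain ⟨k, hk, hk2⟩ := (Nat.dvd_prime_pow Nat.prime_three).1 hd
      rw [hk2] at h1 hW3
      interval_cases k
      all_goals first | omega | (refine ⟨1, ?_⟩; omega) | (refine ⟨3, ?_⟩; omega)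
    haveI : IsCyclic (↥(T : Subgroup ↥(Cx x)) ⧸ W) := by
      rcases (Nat.dvd_prime Nat.prime_three).1 hq with h | h
      · haveI := (Nat.card_eq_one_iff_unique.1 h).1
        infer_instance
      · exact isCyclic_of_prime_card (p := 3) h
    exact hab (congrArg Subtype.val
      ((commutative_of_cyclic_center_quotient (QuotientGroup.mk' W) (by simp [W]) : ∀ a b : ↥(T : Subgroup ↥(Cx x)),
        a * b = b * a) ⟨a, ha⟩ ⟨b, hb⟩))
  have hr3 : τ.range = Subgroup.zpowers x := by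
    refine Subgroup.eq_of_le_of_card_ge hrange ?_
    have h := Subgroup.card_dvd_of_le hrange
    rw [Nat.card_zpowers, S.ordx] at h ⊢
    rcases (Nat.dvd_prime Nat.prime_three).1 h with e | e
    · exact absurd (Subgroup.card_eq_one.1 e) hne
    · omega
  refine ⟨?_, fun k hk => ?_⟩
  · have h := τ.ker.card_mul_index
    rw [Subgroup.index_ker, hr3, Nat.card_zpowers, S.ordx, hPc] at h
    have e : Nat.card τ.ker = Nat.card ↥(Cx x ⊓ Cx y) := by
      refine Nat.card_congr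
        { toFun := fun c => ⟨(((c : Pre) : ↥(Cx x)) : G), ((c : Pre) : ↥(Cx x)).2, (hτ c).1 c.2⟩
          invFun := fun c => ⟨⟨⟨c, c.2.1⟩, Subgroup.mem_comap.2 (Subgroup.mem_centralizer_singleton_iff.2 (by
            rw [← map_mul, ← map_mul]; exact congrArg φ (Subtype.ext (mem_Cx.1 c.2.2))))⟩, (hτ _).2 c.2.2⟩
          left_inv := fun c => rfl
          right_inv := fun c => rfl }
    omega
  · obtain ⟨d, hd⟩ := (hr3.symm ▸ hk : k ∈ τ.range)
    refine ⟨_, (d : ↥(Cx x)).2, ?_⟩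
    rw [← hd]
    show _ = (((d : ↥(Cx x)) * yc * (d : ↥(Cx x))⁻¹ * yc⁻¹ : ↥(Cx x)) : G) * y
    simp [hyc]

/-- The elements of order three outside the centre form one class. -/
theorem class_three {u y : G} (hu : u ∈ Cx x) (hu3 : orderOf u = 3) (hux : u ∉ Subgroup.zpowers x)
    (hy : y ∈ Cx x) (hy3 : orderOf y = 3) (hyx : y ∉ Subgroup.zpowers x) : ∃ c ∈ Cx x, c * u * c⁻¹ = y := by
  have hu31 : u ^ 3 = 1 := by rw [← hu3, pow_orderOf_eq_one]
  have hy31 : y ^ 3 = 1 := by rw [← hy3, pow_orderOf_eq_one]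
  obtain ⟨m, hm⟩ := isConj_iff.1 (three_class (S.img_three (c := ⟨u, hu⟩) hu31 hux)
    (S.img_three (c := ⟨y, hy⟩) hy31 hyx))
  obtain ⟨c, rfl⟩ := S.surj m
  set k : ↥(Cx x) := c * ⟨u, hu⟩ * c⁻¹ * (⟨y, hy⟩ : ↥(Cx x))⁻¹ with hk
  have hkφ : φ k = 1 := by rw [hk, map_mul, map_mul, map_mul, map_inv, map_inv, hm, mul_inv_cancel]
  have hky : (k : G) * y = (c : G) * u * (c : G)⁻¹ := by simp [hk]
  have hk3 : (k : G) ^ 3 = 1 := by
    have h3 : ((k : G) * y) ^ 3 = 1 := by rw [hky, conj_pow, hu31]; group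
    rwa [(show Commute (k : G) y from (S.ker_center hkφ y hy).symm).mul_pow, hy31, mul_one] at h3
  obtain ⟨d, hd, hdy⟩ := (S.cent_three hy hy3 hyx).2 _ (S.ker_three hkφ hk3)
  refine ⟨d⁻¹ * (c : G), mul_mem (inv_mem hd) c.2, ?_⟩
  rw [show d⁻¹ * (c : G) * u * (d⁻¹ * (c : G))⁻¹ = d⁻¹ * ((c : G) * u * (c : G)⁻¹) * d by group, ← hky, ← hdy]
  group

/-- Three-elements have order dividing three as soon as one element of order three lies outside the centre. -/
theorem exponent_three {y : G} (hy : y ∈ Cx x) (hy3 : orderOf y = 3) (hyx : y ∉ Subgroup.zpowers x) {u : G}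
    (hu : u ∈ Cx x) {n : ℕ} (hun : u ^ 3 ^ n = 1) : u ^ 3 = 1 := by
  have key : ∀ u ∈ Cx x, u ^ 9 = 1 → u ^ 3 = 1 := by
    intro u hu h9
    set uc : ↥(Cx x) := ⟨u, hu⟩
    have h3 : φ uc ^ 3 = 1 := cube_of_nine (by rw [← map_pow, show uc ^ 9 = 1 from Subtype.ext h9, map_one])
    by_cases h1 : φ uc = 1
    · have h6 : u ^ 6 = 1 := S.ker_six h1
      have := pow_gcd_eq_one.2 ⟨h9, h6⟩
      simpa using this
    obtain ⟨m, hm⟩ := isConj_iff.1 (three_class (orderOf_eq_prime h3 h1)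
      (S.img_three (c := ⟨y, hy⟩) (by rw [← hy3, pow_orderOf_eq_one]) hyx))
    obtain ⟨c, rfl⟩ := S.surj m
    set k : ↥(Cx x) := c * uc * c⁻¹ * (⟨y, hy⟩ : ↥(Cx x))⁻¹ with hk
    have hkφ : φ k = 1 := by rw [hk, map_mul, map_mul, map_mul, map_inv, map_inv, hm, mul_inv_cancel]
    have hky : (k : G) * y = (c : G) * u * (c : G)⁻¹ := by simp [hk, uc]
    have hcom : Commute (k : G) y := (S.ker_center hkφ y hy).symm
    have hy31 : y ^ 3 = 1 := by rw [← hy3, pow_orderOf_eq_one]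
    have hk9 : (k : G) ^ 9 = 1 := by
      have h' : ((k : G) * y) ^ 9 = 1 := by rw [hky, conj_pow, h9]; group
      rwa [hcom.mul_pow, show (9 : ℕ) = 3 * 3 from rfl, pow_mul y, hy31, one_pow, mul_one] at h'
    have hk6 : (k : G) ^ 6 = 1 := S.ker_six hkφ
    have hk3 : (k : G) ^ 3 = 1 := by simpa using pow_gcd_eq_one.2 ⟨hk9, hk6⟩
    have h' : ((c : G) * u * (c : G)⁻¹) ^ 3 = 1 := by rw [← hky, hcom.mul_pow, hk3, hy31, mul_one]
    rwa [conj_pow, conj_eq_one_iff] at h'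
  induction n generalizing u with
  | zero => rw [pow_zero, pow_one] at hun; rw [hun, one_pow]
  | succ n ih =>
    have h := ih (pow_mem hu 3) (by rw [← pow_mul, ← pow_succ']; exact hun)
    exact key u hu (by rw [show (9 : ℕ) = 3 * 3 from rfl, pow_mul]; exact h)

/-- The centre of a Sylow three-subgroup. -/
theorem sylow_center (T : Sylow 3 ↥(Cx x)) {u : ↥(Cx x)} (hu : u ∈ T) (h : ∀ t ∈ T, t * u = u * t)
    {y : G} (hy : y ∈ Cx x) (hy3 : orderOf y = 3) (hyx : y ∉ Subgroup.zpowers x) : (u : G) ∈ Subgroup.zpowers x := by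
  by_contra hux
  obtain ⟨n, hn⟩ := T.2 ⟨u, hu⟩
  have h3 : (u : G) ^ 3 = 1 := S.exponent_three hy hy3 hyx u.2
    (congrArg (fun t : ↥(T : Subgroup ↥(Cx x)) => ((t : ↥(Cx x)) : G)) hn)
  haveI : Fact (Nat.Prime 3) := ⟨Nat.prime_three⟩
  have h72 := (S.cent_three u.2 (orderOf_eq_prime h3 fun e => hux (e ▸ one_mem _)) hux).1
  have hle : (T : Subgroup ↥(Cx x)).map (Cx x).subtype ≤ Cx x ⊓ Cx (u : G) := by
    rintro _ ⟨t, ht, rfl⟩
    exact ⟨t.2, mem_Cx.2 (congrArg Subtype.val (h t ht))⟩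
  have := Subgroup.card_dvd_of_le hle
  rw [Subgroup.card_map_of_injective (Cx x).subtype_injective, S.card_sylow, h72] at this
  norm_num at this

/-- Elements of order five, seven or eleven. -/
theorem big_comm {p : ℕ} (hp : p = 5 ∨ p = 7 ∨ p = 11) {c d : ↥(Cx x)} (hc : orderOf (c : G) = p)
    (hd : φ (d * c * d⁻¹ * c⁻¹) = 1) {r : ℕ} (hr : Nat.Coprime r p) (hdr : φ d ^ r = 1) : φ d = 1 := by
  haveI : Fact p.Prime := ⟨by rcases hp with rfl | rfl | rfl <;> norm_num⟩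
  have hcp : (c : G) ^ p = 1 := by rw [← hc, pow_orderOf_eq_one]
  have hφc : orderOf (φ c) = p := orderOf_eq_prime (by rw [← map_pow, show c ^ p = 1 from Subtype.ext hcp, map_one])
    fun e => by
      have h6 : (c : G) ^ 6 = 1 := S.ker_six e
      have h := orderOf_dvd_of_pow_eq_one h6
      rw [hc] at h
      rcases hp with rfl | rfl | rfl <;> norm_num at h
  refine coprime_comm_eq_one hp hφc ?_ hr hdr
  rw [map_mul, map_mul, map_mul, map_inv, map_inv, mul_inv_eq_one, mul_inv_eq_iff_eq_mul] at hd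
  exact hd

/-- A normal two-subgroup lies in the centre. -/
theorem normal_two (N : Subgroup G) (hN : IsPGroup 2 ↥N) (hle : N ≤ Cx x)
    (hn : ∀ c ∈ Cx x, ∀ n ∈ N, c * n * c⁻¹ ∈ N) : ∀ n ∈ N, n = 1 ∨ n = z := by
  intro n hn'
  haveI : IsSimpleGroup M := Cfsg.Agent.Spor.JFour.simple_M22
  set U := (N.subgroupOf (Cx x)).map φ with hU
  haveI : U.Normal := Subgroup.Normal.map ⟨fun a ha g => hn _ (g : ↥(Cx x)).2 _ ha⟩ φ S.surj
  have hbot : U = ⊥ := by
    rcases (inferInstance : U.Normal).eq_bot_or_eq_top with h | h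
    · exact h
    exfalso
    haveI : Fact (Nat.Prime 11) := ⟨by norm_num⟩
    obtain ⟨m, hm⟩ := exists_prime_orderOf_dvd_card' (G := M) 11 (by rw [Fus.Mathieu.card22]; norm_num)
    obtain ⟨a, ha, rfl⟩ := (h ▸ Subgroup.mem_top m : m ∈ U)
    obtain ⟨k, hk⟩ := hN ⟨a, ha⟩
    have h2 : φ a ^ 2 ^ k = 1 := by
      rw [← map_pow, show a ^ 2 ^ k = 1 from Subtype.ext (congrArg (fun t : ↥N => (t : G)) hk), map_one]
    have h11 : 11 ∣ 2 ^ k := hm ▸ orderOf_dvd_of_pow_eq_one h2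
    exact absurd ((Nat.Prime.dvd_of_dvd_pow (by norm_num) h11)) (by norm_num)
  refine S.ker_two (c := ⟨n, hle hn'⟩) (Subgroup.mem_bot.1 (hbot ▸ Subgroup.mem_map_of_mem φ hn')) ?_
  obtain ⟨k, hk⟩ := hN ⟨n, hn'⟩
  exact ⟨k, congrArg Subtype.val hk⟩

omit [Finite G] in
/-- Transport along conjugation. -/
theorem exists_conj (g : G) : ∃ ψ : ↥(Cx (g * x * g⁻¹)) →* M, Six (g * x * g⁻¹) (g * z * g⁻¹) ψ := by
  have hmem : ∀ c, c ∈ Cx (g * x * g⁻¹) → g⁻¹ * c * g ∈ Cx x := fun c hc => mem_Cx.2 (by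
    have := mem_Cx.1 hc
    calc g⁻¹ * c * g * x = g⁻¹ * (c * (g * x * g⁻¹)) * g := by group
      _ = g⁻¹ * (g * x * g⁻¹ * c) * g := by rw [this]
      _ = _ := by group)
  let κ : ↥(Cx (g * x * g⁻¹)) →* ↥(Cx x) :=
    MonoidHom.mk' (fun c => ⟨g⁻¹ * c * g, hmem c c.2⟩) fun a b => Subtype.ext (by simp [mul_assoc])
  have hκ : Function.Surjective κ := fun c => ⟨⟨g * c * g⁻¹, mem_Cx.2 (by
    rw [show g * (c : G) * g⁻¹ * (g * x * g⁻¹) = g * ((c : G) * x) * g⁻¹ by group, mem_Cx.1 c.2]; group)⟩,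
    Subtype.ext (by simp [κ, mul_assoc])⟩
  refine ⟨φ.comp κ, ?_, ?_, ?_, S.surj.comp hκ, fun c hc => ?_, fun h => ?_, fun h => ?_, fun c hc => ?_, ?_⟩
  · rw [← S.ordx]; exact (MulAut.conj g).orderOf_eq x
  · rw [← S.ordz]; exact (MulAut.conj g).orderOf_eq z
  · rw [show g * z * g⁻¹ * (g * x * g⁻¹) = g * (z * x) * g⁻¹ by group, S.comm]; group
  · obtain ⟨i, j, e⟩ := S.ker (κ c) hc
    refine ⟨i, j, ?_⟩
    rw [conj_pow, conj_pow, show (c : G) = g * (κ c : G) * g⁻¹ by simp [κ, mul_assoc], e]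
    group
  · rw [MonoidHom.comp_apply, show κ ⟨_, h⟩ = ⟨x, S.x_mem⟩ from Subtype.ext (by simp [κ, mul_assoc]), S.φx]
  · rw [MonoidHom.comp_apply, show κ ⟨_, h⟩ = ⟨z, S.z_mem⟩ from Subtype.ext (by simp [κ, mul_assoc]), S.φz]
  · have h := S.central _ (mem_Cx.1 (hmem c (mem_Cx.2 hc)))
    calc c * (g * z * g⁻¹) = g * (g⁻¹ * c * g * z) * g⁻¹ := by group
      _ = g * (z * (g⁻¹ * c * g)) * g⁻¹ := by rw [h]
      _ = _ := by group
  · have hinj : Function.Injective κ := fun a b e =>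
      Subtype.ext (mul_left_cancel (mul_right_cancel (congrArg Subtype.val e)))
    refine Subgroup.map_injective hinj ?_
    rw [Subgroup.map_commutator, Subgroup.map_top_of_surjective κ hκ, S.perf]

end Six

end Cfsg.Agent.Spor.JFourConv
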